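import Cfsg.Agent.Lib.Ree.Base

/-!
The parameters of `U¹` and the torus `H¹ ≅ Kˣ` of `²G₂`, from the numerical and normal form facts.
-/

set_option autoImplicit false

namespace Cfsg.Agent.Lib.Ree

set_option maxHeartbeats 400000

open Cfsg.Lie Cfsg.Agent.Lib.Chev

variable {K : Type*} [Field K]

/-- `U¹`. -/
abbrev U1 (K : Type*) [Field K] (e : ℕ) : Subgroup (GG K) := chevG2.posUnipotent K ⊓ twistedG2 K e

/-- `H¹`. -/
abbrev H1 (K : Type*) [Field K] (e : ℕ) : Subgroup (GG K) := chevG2.diagonalSubgroup K ⊓ twistedG2 K e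

/-- The word of the longest element. -/
def longWord : List ℕ := [0, 1, 0, 1, 0, 1]

theorem isWord_long : IsWord chevG2 longWord := by
  intro i hi
  have h2 : i = 0 ∨ i = 1 := by simp [longWord] at hi; omega
  rcases h2 with rfl | rfl <;> decide

theorem perm_long : ∀ r : Fin 12, perm G2.cert longWord r.val = ng chevG2 r.val := by decide +kernel

/-- The facts about `²G₂(q)` used in this directory. -/
structure Facts (K : Type*) [Field K] [Fintype K] (m : ℕ) : Prop where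
  card_field : Fintype.card K = 3 ^ (2 * m + 1)
  card_group : Nat.card ↥(twistedG2 K (3 ^ m)) =
    (3 ^ (2 * m + 1)) ^ 3 * (3 ^ (2 * m + 1) - 1) * ((3 ^ (2 * m + 1)) ^ 3 + 1)
  unip : ∀ g : GG K, g ∈ U1 K (3 ^ m) ↔ ∃ t u v : K, g = uWord (3 ^ m) t u v
  card_unip : Nat.card ↥(U1 K (3 ^ m)) = (3 ^ (2 * m + 1)) ^ 3
  card_torus : Nat.card ↥(H1 K (3 ^ m)) = 3 ^ (2 * m + 1) - 1
  borel_split : ∀ b ∈ chevG2.borelSubgroup K ⊓ twistedG2 K (3 ^ m),
    ∃ u ∈ U1 K (3 ^ m), ∃ h ∈ H1 K (3 ^ m), b = u * h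
  exists_long : ∃ n ∈ twistedG2 K (3 ^ m), ∃ t ∈ chevG2.diagonalSubgroup K,
    n = nProd checked_G2 K longWord * t

/-- The roots of the derived group of `U`. -/
def derSet : Set ℕ := {r | r ∈ [8, 9, 10, 11]}

theorem derSet_pos : derSet ⊆ posSet chevG2 := by
  intro r hr
  simp [derSet] at hr
  rcases hr with rfl | rfl | rfl | rfl <;> exact ⟨by decide, by decide⟩

theorem derSet_lt : ∀ r ∈ derSet, r < chevG2.nroots := fun _ hr => (derSet_pos hr).2

theorem cTerms_der : (∀ r ∈ [8, 9, 10, 11], ∀ s ∈ [8, 9, 10, 11], ∀ c ∈ cTerms G2.cert r s, c.1 ∈ [8, 9, 10, 11]) ∧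
    (∀ c ∈ cTerms G2.cert 6 7, c.1 ∈ [8, 9, 10, 11]) := by decide +kernel

theorem der_mem (r : Fin 12) (t : K) (hr : 8 ≤ r.val) : X r t ∈ rootGen chevG2 K derSet :=
  X_mem_rootGen r t (by
    show r.val ∈ [8, 9, 10, 11]
    have := r.isLt
    simp only [List.mem_cons, List.not_mem_nil, or_false]
    omega)

theorem der_prod (w : GG K) (hw : w ∈ rootGen chevG2 K derSet) :
    ∃ t : ℕ → K, (w : Matrix chevG2.Idx chevG2.Idx K) = chevG2.wordMat K ([8, 9, 10, 11].map fun r => (r, t r)) := by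
  obtain ⟨t, _, e⟩ := checked_G2.exists_prod [8, 9, 10, 11] (by decide) (fun r hr => derSet_pos hr)
    (fun r hr s hs _ _ c hc => cTerms_der.1 r hr s hs c hc) w hw
  exact ⟨t, e⟩

/-- The first two coordinates of an element of `U` are unique. -/
theorem coords_unique {p q p' q' : K} {w w' : GG K} (hw : w ∈ rootGen chevG2 K derSet)
    (hw' : w' ∈ rootGen chevG2 K derSet) (e : X 6 p * X 7 q * w = X 6 p' * X 7 q' * w') : p = p' ∧ q = q' := by
  obtain ⟨t, et⟩ := der_prod w hw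
  obtain ⟨t', et'⟩ := der_prod w' hw'
  let T : ℕ → K := fun r => if r = 6 then p else if r = 7 then q else t r
  let T' : ℕ → K := fun r => if r = 6 then p' else if r = 7 then q' else t' r
  have h1 : ∀ (p q : K) (t : ℕ → K) (w : GG K),
      (w : Matrix chevG2.Idx chevG2.Idx K) = chevG2.wordMat K ([8, 9, 10, 11].map fun r => (r, t r)) →
      chevG2.wordMat K ([6, 7, 8, 9, 10, 11].map fun r => (r, if r = 6 then p else if r = 7 then q else t r)) =
        ((X 6 p * X 7 q * w : GG K) : Matrix chevG2.Idx chevG2.Idx K) := by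
    intro p q t w hw
    rw [Units.val_mul, Units.val_mul, hw]
    simp [ChevalleyDatum.wordMat, coe_X, mul_assoc]
  have h2 := rooted_G2.prod_injective [6, 7, 8, 9, 10, 11] (by decide)
    (fun r hr => ⟨by simp at hr; show 6 ≤ r; omega, by simp at hr; show r < 12; omega⟩) T T'
    (by rw [h1 p q t w et, h1 p' q' t' w' et', e])
  exact ⟨by simpa [T, T'] using h2 6 (by decide), by simpa [T, T'] using h2 7 (by decide)⟩

theorem swap_first (p q : K) : ∃ c ∈ rootGen chevG2 K derSet, X 7 q * X 6 p = X 6 p * X 7 q * c := by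
  obtain ⟨c, hc, ec⟩ := checked_G2.exists_wordGL (F := K) derSet_lt (chevG2.commWord K 6 7 p q) (by
    rw [checked_G2.commWord_eq (show 6 < chevG2.nroots by decide) (show 7 < chevG2.nroots by decide)]
    intro x hx
    obtain ⟨a, ha, rfl⟩ := List.mem_map.1 hx
    exact cTerms_der.2 a ha)
  refine ⟨c, hc, Units.ext ?_⟩
  simp only [Units.val_mul, coe_X, ec]
  exact checked_G2.commutator_formula (r := 6) (s := 7) (by decide) (by decide) (by decide) (by decide) p q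

theorem uWord_coords (e : ℕ) (t u v : K) :
    ∃ w ∈ rootGen chevG2 K derSet, uWord e t u v = X 6 t * X 7 (t ^ e) * w := by
  obtain ⟨c, hc, ec⟩ := swap_first t (t ^ e)
  refine ⟨c * (X 8 (t ^ (e + 1) + u ^ e) * X 9 (t ^ (2 * e + 1) + v ^ e) * X 10 u * X 11 v),
    mul_mem hc (mul_mem (mul_mem (mul_mem (der_mem _ _ (by decide)) (der_mem _ _ (by decide)))
      (der_mem _ _ (by decide))) (der_mem _ _ (by decide))), ?_⟩
  rw [uWord, ec]
  simp only [mul_assoc]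

namespace Facts

variable [Fintype K] {m : ℕ} (F : Facts K m)
include F

theorem card_nat : Nat.card K = 3 ^ (2 * m + 1) := by rw [Nat.card_eq_fintype_card, F.card_field]

theorem charP : CharP K 3 := by
  obtain ⟨p, hp⟩ := CharP.exists K
  obtain ⟨n, hpp, e⟩ := FiniteField.card K p
  rw [F.card_field] at e
  have : p = 3 := by
    have h3 : p ∣ 3 ^ (2 * m + 1) := e ▸ dvd_pow_self p n.ne_zero
    exact (Nat.prime_dvd_prime_iff_eq hpp Nat.prime_three).1 (hpp.dvd_of_dvd_pow h3)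
  exact this ▸ hp

theorem three_eq_zero : (3 : K) = 0 := by
  have := F.charP
  exact_mod_cast CharP.cast_eq_zero K 3

theorem two_ne_zero' : (2 : K) ≠ 0 := by
  intro h
  have := F.three_eq_zero
  have : (1 : K) = 0 := by linear_combination this - h
  exact one_ne_zero this

theorem theta_sq (x : K) : x ^ (3 * 3 ^ m * 3 ^ m) = x := by
  have h := FiniteField.pow_card x
  rw [F.card_field] at h
  rwa [show 3 * 3 ^ m * 3 ^ m = 3 ^ (2 * m + 1) by ring]

theorem theta_add (x y : K) : (x + y) ^ (3 ^ m) = x ^ (3 ^ m) + y ^ (3 ^ m) := by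
  have := F.charP
  exact add_pow_char_pow x y 3 m

theorem theta_injective : Function.Injective fun x : K => x ^ (3 ^ m) := by
  intro x y h
  simp only at h
  rw [← F.theta_sq x, ← F.theta_sq y, mul_comm (3 * 3 ^ m) (3 ^ m), pow_mul x, pow_mul y, h]

/-- The parameters are unique. -/
theorem uWord_injective {t u v t' u' v' : K} (h : uWord (3 ^ m) t u v = uWord (3 ^ m) t' u' v') :
    t = t' ∧ u = u' ∧ v = v' := by
  let f : K × K × K → ↥(U1 K (3 ^ m)) := fun p =>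
    ⟨uWord (3 ^ m) p.1 p.2.1 p.2.2, (F.unip _).2 ⟨_, _, _, rfl⟩⟩
  have hsurj : Function.Surjective f := fun g => by
    obtain ⟨t, u, v, e⟩ := (F.unip _).1 g.2
    exact ⟨(t, u, v), Subtype.ext e.symm⟩
  have hcard : Nat.card (K × K × K) = Nat.card ↥(U1 K (3 ^ m)) := by
    rw [F.card_unip, Nat.card_prod, Nat.card_prod, F.card_nat]; ring
  have hinj : Function.Injective f :=
    ((Nat.bijective_iff_surjective_and_card f).2 ⟨hsurj, hcard⟩).1
  simpa [Prod.ext_iff] using hinj (a₁ := (t, u, v)) (a₂ := (t', u', v')) (Subtype.ext h)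

theorem uWord_zero : uWord (3 ^ m) (0 : K) 0 0 = 1 := by
  simp [uWord, X_zero]

theorem uWord_eq_one {t u v : K} (h : uWord (3 ^ m) t u v = 1) : t = 0 ∧ u = 0 ∧ v = 0 :=
  F.uWord_injective (h.trans F.uWord_zero.symm)

end Facts

/-- The element of the torus with parameter `μ`. -/
noncomputable def hEl (e : ℕ) (μ : Kˣ) : GG K := tor (μ ^ (2 * e + 1)) (μ ^ (3 * e + 2))

theorem hEl_mul (e : ℕ) (μ ν : Kˣ) : hEl e μ * hEl e ν = hEl e (μ * ν) := by
  rw [hEl, hEl, hEl, tor_mul, ← mul_pow, ← mul_pow]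

theorem hEl_one (e : ℕ) : hEl e (1 : Kˣ) = 1 := by simp [hEl, tor_one]

theorem chi_hEl (e : ℕ) (μ : Kˣ) : chi (μ ^ (2 * e + 1)) (μ ^ (3 * e + 2)) 7 = μ ^ e ∧
    chi (μ ^ (2 * e + 1)) (μ ^ (3 * e + 2)) 6 = μ ∧ chi (μ ^ (2 * e + 1)) (μ ^ (3 * e + 2)) 8 = μ ^ (e + 1) ∧
    chi (μ ^ (2 * e + 1)) (μ ^ (3 * e + 2)) 9 = μ ^ (2 * e + 1) ∧
    chi (μ ^ (2 * e + 1)) (μ ^ (3 * e + 2)) 10 = μ ^ (3 * e + 1) ∧
    chi (μ ^ (2 * e + 1)) (μ ^ (3 * e + 2)) 11 = μ ^ (3 * e + 2) := by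
  have key : ∀ (a b : ℤ) (k : ℕ), a * (2 * e + 1) + b * (3 * e + 2) = k →
      (μ ^ (2 * e + 1)) ^ a * (μ ^ (3 * e + 2)) ^ b = μ ^ k := by
    intro a b k h
    rw [← zpow_natCast, ← zpow_natCast, ← zpow_natCast, ← zpow_mul, ← zpow_mul, ← zpow_add, ← h]
    congr 1
    push_cast
    ring
  refine ⟨key 2 (-1) _ (by push_cast; ring), (key (-3) 2 1 (by push_cast; ring)).trans (pow_one μ),
    key (-1) 1 _ (by push_cast; ring), key 1 0 _ (by push_cast; ring), key 3 (-1) _ (by push_cast; ring),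
    key 0 1 _ (by push_cast; ring)⟩

namespace Facts

variable [Fintype K] {m : ℕ} (F : Facts K m)
include F

theorem hEl_conj_uWord (μ : Kˣ) (t u v : K) :
    hEl (3 ^ m) μ * uWord (3 ^ m) t u v * (hEl (3 ^ m) μ)⁻¹ =
      uWord (3 ^ m) ((μ : K) * t) ((μ : K) ^ (3 * 3 ^ m + 1) * u) ((μ : K) ^ (3 * 3 ^ m + 2) * v) := by
  obtain ⟨h7, h6, h8, h9, h10, h11⟩ := chi_hEl (3 ^ m) μ
  have hc : ∀ r a, hEl (3 ^ m) μ * X r a * (hEl (3 ^ m) μ)⁻¹ =
      X r ((chi (μ ^ (2 * 3 ^ m + 1)) (μ ^ (3 * 3 ^ m + 2)) r : K) * a) := fun r a => tor_conj_X _ _ r a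
  have hsplit : ∀ g a b c d f : GG K, g * (a * b * c * d * f) * g⁻¹ =
      g * a * g⁻¹ * (g * b * g⁻¹) * (g * c * g⁻¹) * (g * d * g⁻¹) * (g * f * g⁻¹) := fun g a b c d f => by group
  have hsplit6 : ∀ g a b c d f k : GG K, g * (a * b * c * d * f * k) * g⁻¹ =
      g * a * g⁻¹ * (g * b * g⁻¹) * (g * c * g⁻¹) * (g * d * g⁻¹) * (g * f * g⁻¹) * (g * k * g⁻¹) :=
    fun g a b c d f k => by group
  have e1 : ((μ : K) ^ (3 * 3 ^ m + 1)) ^ 3 ^ m = (μ : K) ^ (3 ^ m + 1) := by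
    rw [← pow_mul, add_mul, one_mul, pow_add, F.theta_sq, mul_comm, ← pow_succ]
  have e2 : ((μ : K) ^ (3 * 3 ^ m + 2)) ^ 3 ^ m = (μ : K) ^ (2 * 3 ^ m + 1) := by
    rw [← pow_mul, add_mul, pow_add, F.theta_sq, mul_comm, ← pow_succ]
  simp only [uWord, hsplit6, hc, h7, h6, h8, h9, h10, h11, Units.val_pow_eq_pow_val, mul_pow, e1, e2, mul_add]

/-- An element of `H¹` is determined by its value at `b`. -/
theorem torus_shape {h : GG K} (hh : h ∈ H1 K (3 ^ m)) : ∃ μ : Kˣ, h = hEl (3 ^ m) μ := by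
  obtain ⟨hd, hG⟩ := Subgroup.mem_inf.1 hh
  obtain ⟨a, b, rfl⟩ := mem_diagonal_iff.1 hd
  refine ⟨chi a b 6, ?_⟩
  have hmem : tor a b * uWord (3 ^ m) 1 0 0 * (tor a b)⁻¹ ∈ U1 K (3 ^ m) :=
    Subgroup.mem_inf.2 ⟨(Subgroup.mem_normalizer_iff.1 (rooted_G2.diagonal_le_normalizer_posUnipotent hd) _).1
      (uWord_mem_pos _ _ _ _), mul_mem (mul_mem hG (uWord_mem _ _ _ _)) (inv_mem hG)⟩
  obtain ⟨t, u, v, e⟩ := (F.unip _).1 hmem
  obtain ⟨w, hw, ew⟩ := uWord_coords (3 ^ m) (1 : K) 0 0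
  obtain ⟨w', hw', ew'⟩ := uWord_coords (3 ^ m) t u v
  rw [ew, ew'] at e
  have e' : X 6 ((chi a b 6 : K) * 1) * X 7 ((chi a b 7 : K) * 1 ^ 3 ^ m) * (tor a b * w * (tor a b)⁻¹) =
      X 6 t * X 7 (t ^ 3 ^ m) * w' := by
    rw [← e, ← tor_conj_X, ← tor_conj_X]
    group
  obtain ⟨h6, h7⟩ := coords_unique ((Subgroup.mem_normalizer_iff.1
    (rooted_G2.diagonal_le_normalizer derSet_lt hd) _).1 hw) hw' e'
  rw [mul_one] at h6
  rw [one_pow, mul_one, ← h6, ← Units.val_pow_eq_pow_val] at h7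
  have h7' : chi a b 7 = chi a b 6 ^ 3 ^ m := Units.ext h7
  have k6 : chi a b 6 = a ^ (-3 : ℤ) * b ^ (2 : ℤ) := rfl
  have k7 : chi a b 7 = a ^ (2 : ℤ) * b ^ (-1 : ℤ) := rfl
  have ea : a = chi a b 7 ^ 2 * chi a b 6 := by
    rw [k6, k7, ← zpow_natCast, mul_zpow, ← zpow_mul, ← zpow_mul, mul_mul_mul_comm, ← zpow_add, ← zpow_add]
    norm_num
  have eb : b = chi a b 7 ^ 3 * chi a b 6 ^ 2 := by
    rw [k6, k7, ← zpow_natCast, ← zpow_natCast, mul_zpow, mul_zpow, ← zpow_mul, ← zpow_mul, ← zpow_mul, ← zpow_mul,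
      mul_mul_mul_comm, ← zpow_add, ← zpow_add]
    norm_num
  refine congrArg₂ tor ?_ ?_
  · exact (ea.trans (congrArg (fun z => z ^ 2 * chi a b 6) h7')).trans
      (by rw [← pow_mul, ← pow_succ, mul_comm (3 ^ m)])
  · exact (eb.trans (congrArg (fun z => z ^ 3 * chi a b 6 ^ 2) h7')).trans
      (by rw [← pow_mul, ← pow_add, mul_comm (3 ^ m)])

theorem hEl_injective : Function.Injective (hEl (3 ^ m) : Kˣ → GG K) := by
  intro μ ν h
  obtain ⟨h1, h2⟩ := tor_inj h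
  have k := chi_hEl (3 ^ m) μ
  have k' := chi_hEl (3 ^ m) ν
  rw [← k.2.1, h1, h2, k'.2.1]

theorem hEl_mem (μ : Kˣ) : hEl (3 ^ m) μ ∈ H1 K (3 ^ m) := by
  classical
  choose f hf using fun h : ↥(H1 K (3 ^ m)) => F.torus_shape h.2
  have hinj : Function.Injective f := fun h h' e => Subtype.ext (by rw [hf h, hf h', e])
  have hcard : Nat.card ↥(H1 K (3 ^ m)) = Nat.card Kˣ := by
    rw [F.card_torus, Nat.card_units, F.card_nat]
  obtain ⟨h, e⟩ := ((Nat.bijective_iff_injective_and_card f).2 ⟨hinj, hcard⟩).2 μ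
  rw [← e, ← hf h]
  exact h.2

/-- `H¹ ≅ Kˣ`. -/
noncomputable def torusEquiv : Kˣ ≃* ↥(H1 K (3 ^ m)) :=
  MulEquiv.ofBijective (MonoidHom.mk' (fun μ => ⟨hEl (3 ^ m) μ, F.hEl_mem μ⟩)
    fun μ ν => Subtype.ext (hEl_mul _ μ ν).symm)
    ⟨fun μ ν e => F.hEl_injective (congrArg Subtype.val e), fun h => by
      obtain ⟨μ, e⟩ := F.torus_shape h.2
      exact ⟨μ, Subtype.ext e.symm⟩⟩

theorem torus_cyclic : IsCyclic ↥(H1 K (3 ^ m)) :=
  isCyclic_of_surjective F.torusEquiv F.torusEquiv.surjective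

end Facts

end Cfsg.Agent.Lib.Ree
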