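import Cfsg.Agent.Lib.Ree.System
import Cfsg.Agent.Lib.Ree.Param

/-!
The facts about `²G₂(q)` hold.
-/

set_option autoImplicit false

namespace Cfsg.Agent.Lib.Ree

set_option maxHeartbeats 400000

open Cfsg.Lie Cfsg.Agent.Lib.Chev Cfsg.Agent.Lib.Twisted

variable {K : Type*} [Field K] [Fintype K] {m : ℕ}

theorem coe_reeU (t u v : K) : (ReeG.reeU (3 ^ m) t u v : GL chevG2.Idx K) = uWord (3 ^ m) t u v :=
  Units.ext (by rw [ReeG.reeU, coe_wordG, coe_uWord])

/-- The facts. -/
theorem facts (hK : Fintype.card K = 3 ^ (2 * m + 1)) : Facts K m where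
  card_field := hK
  card_group := g2_card hK
  unip g := by
    rw [ReeG.mem_unipotent_inf_iff hK]
    simp only [coe_reeU]
  card_unip := by
    haveI := ReeG.charP_of_card hK
    have e : ↥(U1 K (3 ^ m)) ≃ K × K × K :=
      (Equiv.ofBijective (fun x : K × K × K =>
        (⟨_, (ReeG.mem_unipotent_inf_iff hK _).2 ⟨x.1, x.2.1, x.2.2, rfl⟩⟩ : ↥(U1 K (3 ^ m))))
        ⟨fun x y h => by
          have h' : (ReeG.reeU (3 ^ m) x.1 x.2.1 x.2.2 : GL chevG2.Idx K) =
              (ReeG.reeU (3 ^ m) y.1 y.2.1 y.2.2 : GL chevG2.Idx K) :=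
            congrArg (fun z : ↥(U1 K (3 ^ m)) => (z : GL chevG2.Idx K)) h
          obtain ⟨a, b, c⟩ := ReeG.reeU_injective (ReeG.pow_theta hK) (Subtype.ext h')
          exact Prod.ext a (Prod.ext b c),
        fun g => by
          obtain ⟨t, u, v, hg⟩ := (ReeG.mem_unipotent_inf_iff hK g.1).1 g.2
          exact ⟨(t, u, v), Subtype.ext hg.symm⟩⟩).symm
    rw [Nat.card_congr e, Nat.card_prod, Nat.card_prod, Nat.card_eq_fintype_card, hK]
    ring
  card_torus := by
    rw [H1, ReeG.diagonal_inf_eq_range hK, ← Nat.card_congr (MonoidHom.ofInjective (ReeG.ctHom_injective _)).toEquiv,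
      Nat.card_units, Nat.card_eq_fintype_card, hK]
  borel_split b hb := g2_borel_split hK hb
  exists_long := by
    haveI := ReeG.charP_of_card hK
    exact ⟨_, ReeG.n0_mem, 1, one_mem _, by rw [mul_one, ReeG.coe_n0]; rfl⟩

end Cfsg.Agent.Lib.Ree
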