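import Cfsg.Agent.Lib.Ree.Points

/-!
The Sylow 3-subgroups of `²G₂(q)` have trivial intersections.
-/

set_option autoImplicit false

namespace Cfsg.Agent.Lib.Ree

set_option maxHeartbeats 400000

open Cfsg.Lie Cfsg.Agent.Lib.Chev
open scoped Pointwise

variable {K : Type*} [Field K] [Fintype K] {m : ℕ}

namespace Facts

variable (F : Facts K m)
include F

theorem finite_RG : Finite ↥(RG K m) := inferInstance

/-- `U¹` inside the group. -/
abbrev RU (_F : Facts K m) : Subgroup ↥(RG K m) := (U1 K (3 ^ m)).subgroupOf (RG K m)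

theorem mem_RU {g : ↥(RG K m)} : g ∈ F.RU ↔ (g : GG K) ∈ U1 K (3 ^ m) := Subgroup.mem_subgroupOf

theorem card_RU : Nat.card ↥F.RU = (3 ^ (2 * m + 1)) ^ 3 := by
  rw [Nat.card_congr (Subgroup.subgroupOfEquivOfLe inf_le_right).toEquiv, F.card_unip]

theorem factorization_three :
    (Nat.card ↥(RG K m)).factorization 3 = 3 * (2 * m + 1) := by
  rw [F.card_group]
  set q := 3 ^ (2 * m + 1) with hq
  have hq3 : 3 ≤ q := by
    rw [hq]
    exact Nat.le_self_pow (by omega) 3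
  have h3q : 3 ∣ q := dvd_pow_self 3 (by omega)
  have h1 : ¬ 3 ∣ q - 1 := by omega
  have h2 : ¬ 3 ∣ q ^ 3 + 1 := by
    have : 3 ∣ q ^ 3 := dvd_trans h3q (dvd_pow_self q (by omega))
    omega
  have hq0 : q ^ 3 ≠ 0 := pow_ne_zero 3 (by omega)
  rw [Nat.factorization_mul (mul_ne_zero hq0 (by omega)) (by omega),
    Nat.factorization_mul hq0 (by omega)]
  simp only [Finsupp.coe_add, Pi.add_apply]
  rw [Nat.factorization_eq_zero_of_not_dvd h1, Nat.factorization_eq_zero_of_not_dvd h2, add_zero, add_zero, hq,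
    ← pow_mul, Nat.prime_three.factorization_pow, Finsupp.single_eq_same, mul_comm]

/-- `U¹` as a Sylow subgroup. -/
noncomputable def sylowU [Fact (Nat.Prime 3)] : Sylow 3 ↥(RG K m) :=
  Sylow.ofCard F.RU (by rw [F.card_RU, F.factorization_three, ← pow_mul, mul_comm])

/-- The conjugate of `U¹` by an element of `B¹` is `U¹`; otherwise it meets `U¹` trivially. -/
theorem unip_conj_cases (k : ↥(RG K m)) :
    (∀ x, k * x * k⁻¹ ∈ F.RU ↔ x ∈ F.RU) ∨ (∀ x ∈ F.RU, k * x * k⁻¹ ∈ F.RU → x = 1) := by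
  have hU : ∀ {a : GG K}, a ∈ U1 K (3 ^ m) → ∀ {x : GG K}, (a * x * a⁻¹ ∈ U1 K (3 ^ m) ↔ x ∈ U1 K (3 ^ m)) :=
    fun ha x => by rw [Subgroup.mul_mem_cancel_right _ (inv_mem ha), Subgroup.mul_mem_cancel_left _ ha]
  have hH : ∀ {a : GG K}, a ∈ H1 K (3 ^ m) → ∀ {x : GG K}, (a * x * a⁻¹ ∈ U1 K (3 ^ m) ↔ x ∈ U1 K (3 ^ m)) := by
    intro a ha x
    rw [Subgroup.mem_inf, Subgroup.mem_inf, ← Subgroup.mem_normalizer_iff.1
      (rooted_G2.diagonal_le_normalizer_posUnipotent (Subgroup.mem_inf.1 ha).1) x,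
      Subgroup.mul_mem_cancel_right _ (inv_mem (Subgroup.mem_inf.1 ha).2),
      Subgroup.mul_mem_cancel_left _ (Subgroup.mem_inf.1 ha).2]
  rcases F.cover k.2 with ⟨a, ha, h, hh, e⟩ | ⟨a, ha, h, hh, b, hb, e⟩
  · refine Or.inl fun x => ?_
    rw [F.mem_RU, F.mem_RU, Subgroup.coe_mul, Subgroup.coe_mul, InvMemClass.coe_inv, e,
      show a * h * (x : GG K) * (a * h)⁻¹ = a * (h * x * h⁻¹) * a⁻¹ by group, hU ha, hH hh]
  · refine Or.inr fun x hx hkx => ?_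
    rw [F.mem_RU] at hx hkx
    rw [Subgroup.coe_mul, Subgroup.coe_mul, InvMemClass.coe_inv, e,
      show a * F.longEl * h * b * (x : GG K) * (a * F.longEl * h * b)⁻¹ =
        a * (F.longEl * (h * (b * x * b⁻¹) * h⁻¹) * F.longEl⁻¹) * a⁻¹ by group, hU ha] at hkx
    have hy : h * (b * x * b⁻¹) * h⁻¹ ∈ U1 K (3 ^ m) := (hH hh).2 ((hU hb).2 hx)
    have h1 : F.longEl * (h * (b * x * b⁻¹) * h⁻¹) * F.longEl⁻¹ = 1 :=
      Subgroup.mem_bot.1 (rooted_G2.borel_inf_negUnipotent.le (Subgroup.mem_inf.2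
        ⟨F.U1_le_borel hkx, F.longEl_conj_pos (Subgroup.mem_inf.1 hy).1⟩))
    exact Subtype.ext (conj_eq_one_iff.1 (conj_eq_one_iff.1 (conj_eq_one_iff.1 h1)))

/-- Distinct Sylow 3-subgroups meet trivially. -/
theorem sylow_three_TI [Fact (Nat.Prime 3)] (P Q : Sylow 3 ↥(RG K m)) (hPQ : P ≠ Q) :
    (P : Subgroup ↥(RG K m)) ⊓ (Q : Subgroup ↥(RG K m)) = ⊥ := by
  obtain ⟨g, rfl⟩ := MulAction.exists_smul_eq ↥(RG K m) F.sylowU P
  obtain ⟨h, rfl⟩ := MulAction.exists_smul_eq ↥(RG K m) F.sylowU Q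
  have hmem : ∀ (g x : ↥(RG K m)), x ∈ (g • F.sylowU : Sylow 3 ↥(RG K m)).toSubgroup ↔ g⁻¹ * x * g ∈ F.RU := by
    intro g x
    rw [Sylow.coe_subgroup_smul, Subgroup.mem_pointwise_smul_iff_inv_smul_mem, ← map_inv, MulAut.smul_def,
      MulAut.conj_apply, inv_inv]
    rfl
  rcases F.unip_conj_cases (g⁻¹ * h) with hc | hc
  · refine absurd ?_ hPQ
    refine Sylow.ext (Subgroup.ext fun x => ?_)
    rw [hmem, hmem, ← hc (h⁻¹ * x * h)]
    group
  · refine (Subgroup.eq_bot_iff_forall _).2 fun x hx => ?_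
    rw [Subgroup.mem_inf, hmem, hmem] at hx
    have := hc (h⁻¹ * x * h) hx.2 (by convert hx.1 using 1; group)
    have e : x = h * (h⁻¹ * x * h) * h⁻¹ := by group
    rw [e, this]
    group

end Facts

end Cfsg.Agent.Lib.Ree
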