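import Cfsg.Agent.Lib.Ree.Centralizer

/-!
The Sylow 2-subgroups of `²G₂(q)`: elementary abelian of order eight.
-/

set_option autoImplicit false

namespace Cfsg.Agent.Lib.Ree

set_option maxHeartbeats 400000

open Cfsg.Lie Cfsg.Agent.Lib.Chev
open scoped MatrixGroups Pointwise

variable {K : Type*} [Field K] [Fintype K] {m : ℕ}

/-- A square root of `-1` in `SL₂` anticommuting with `weyl`, in characteristic three. -/
def mElt (h : (3 : K) = 0) : SL(2, K) := SL2.ofEntries 1 1 1 (-1) (by linear_combination -h)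

omit [Fintype K] in
theorem mElt_entries (h : (3 : K) = 0) :
    mElt h 0 0 = 1 ∧ mElt h 0 1 = 1 ∧ mElt h 1 0 = 1 ∧ mElt h 1 1 = -1 := ⟨rfl, rfl, rfl, rfl⟩

omit [Fintype K] in
theorem mElt_sq (h : (3 : K) = 0) : mElt h * mElt h = -1 := by
  obtain ⟨a, b, c, d⟩ := mElt_entries h
  refine SL2.ext_entries ?_ ?_ ?_ ?_ <;>
    simp only [SL2.mul_00, SL2.mul_01, SL2.mul_10, SL2.mul_11, a, b, c, d,
      Matrix.SpecialLinearGroup.coe_neg, Matrix.SpecialLinearGroup.coe_one, Matrix.neg_apply, Matrix.one_apply] <;>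
    simp <;> linear_combination h

omit [Fintype K] in
theorem mElt_weyl (h : (3 : K) = 0) : mElt h * SL2.weyl = -(SL2.weyl * mElt h) := by
  obtain ⟨a, b, c, d⟩ := mElt_entries h
  refine SL2.ext_entries ?_ ?_ ?_ ?_ <;>
    simp [SL2.mul_00, SL2.mul_01, SL2.mul_10, SL2.mul_11, Matrix.mul_apply, Fin.sum_univ_two, a, b, c, d]

namespace Facts

variable (F : Facts K m)
include F

/-- The image of `weyl`. -/
noncomputable def wG : ↥(RG K m) := F.slG SL2.weyl

/-- The image of `mElt`. -/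
noncomputable def mG : ↥(RG K m) := F.slG (mElt F.three_eq_zero)

theorem slG_neg_one : F.slG (-1) = 1 := F.slG_eq_one_iff.2 (Or.inr rfl)

theorem wG_sq : F.wG * F.wG = 1 := by
  rw [wG, ← map_mul, SL2.weyl_mul_weyl, F.slG_neg_one]

theorem mG_sq : F.mG * F.mG = 1 := by rw [mG, ← map_mul, mElt_sq, F.slG_neg_one]

theorem mG_wG : F.mG * F.wG = F.wG * F.mG := by
  rw [mG, wG, ← map_mul, ← map_mul, F.slG_eq_iff]
  exact Or.inr (mElt_weyl _)

theorem wG_ne_one : F.wG ≠ 1 := fun h => by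
  rcases F.slG_eq_one_iff.1 h with e | e <;>
    simpa using congrArg (fun g : SL(2, K) => g 0 1) e

theorem mG_ne_one : F.mG ≠ 1 := fun h => by
  rcases F.slG_eq_one_iff.1 h with e | e <;>
    simpa [mElt] using congrArg (fun g : SL(2, K) => g 0 1) e

theorem wG_ne_mG : F.wG ≠ F.mG := fun h => by
  rcases F.slG_eq_iff.1 h with e | e <;>
    simpa [mElt] using congrArg (fun g : SL(2, K) => g 0 0) e

/-- The elements of the four-group inside the image of `SL₂`. -/
noncomputable def fourList : List ↥(RG K m) := [1, F.wG, F.mG, F.wG * F.mG]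

/-- The four-group. -/
noncomputable def fourGrp : Subgroup ↥(RG K m) where
  carrier := {x | x ∈ F.fourList}
  one_mem' := by simp [fourList]
  mul_mem' := by
    intro a b ha hb
    have h1 : ∀ x, F.wG * (F.wG * x) = x := fun x => by rw [← mul_assoc, F.wG_sq, one_mul]
    have h2 : ∀ x, F.mG * (F.mG * x) = x := fun x => by rw [← mul_assoc, F.mG_sq, one_mul]
    have h3 : ∀ x, F.mG * (F.wG * x) = F.wG * (F.mG * x) := fun x => by rw [← mul_assoc, F.mG_wG, mul_assoc]
    simp only [fourList, Set.mem_setOf_eq, List.mem_cons, List.not_mem_nil, or_false] at ha hb ⊢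
    rcases ha with rfl | rfl | rfl | rfl <;> rcases hb with rfl | rfl | rfl | rfl <;>
      simp [mul_assoc, h1, h2, h3, F.wG_sq, F.mG_sq, F.mG_wG]
  inv_mem' := by
    intro a ha
    simp only [fourList, Set.mem_setOf_eq, List.mem_cons, List.not_mem_nil, or_false] at ha ⊢
    rcases ha with rfl | rfl | rfl | rfl
    · simp
    · exact Or.inr (Or.inl (inv_eq_of_mul_eq_one_left F.wG_sq))
    · exact Or.inr (Or.inr (Or.inl (inv_eq_of_mul_eq_one_left F.mG_sq)))
    · refine Or.inr (Or.inr (Or.inr ?_))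
      rw [mul_inv_rev, inv_eq_of_mul_eq_one_left F.wG_sq, inv_eq_of_mul_eq_one_left F.mG_sq, F.mG_wG]

theorem mem_fourGrp {x : ↥(RG K m)} :
    x ∈ F.fourGrp ↔ x = 1 ∨ x = F.wG ∨ x = F.mG ∨ x = F.wG * F.mG := by
  show x ∈ F.fourList ↔ _
  simp [fourList]

theorem fourGrp_le_range : F.fourGrp ≤ F.slG.range := by
  intro x hx
  rcases F.mem_fourGrp.1 hx with rfl | rfl | rfl | rfl
  exacts [one_mem _, ⟨_, rfl⟩, ⟨_, rfl⟩, mul_mem ⟨_, rfl⟩ ⟨_, rfl⟩]

theorem invG_notMem_range : F.invG ∉ F.slG.range := fun ⟨g, e⟩ => F.slG_ne_invG g e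

theorem invG_commute_range {x : ↥(RG K m)} (hx : x ∈ F.slG.range) : F.invG * x = x * F.invG := by
  obtain ⟨g, rfl⟩ := hx
  exact (Subgroup.mem_centralizer_singleton_iff.1 (F.slG_mem_CJ g)).symm

/-- The standard Sylow 2-subgroup. -/
noncomputable def two8 : Subgroup ↥(RG K m) where
  carrier := {x | x ∈ F.fourGrp ∨ F.invG * x ∈ F.fourGrp}
  one_mem' := Or.inl (one_mem _)
  mul_mem' := by
    intro a b ha hb
    have hh : ∀ {x}, F.invG * x ∈ F.fourGrp → F.invG * x = x * F.invG := fun {x} hx => by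
      obtain ⟨y, hy, rfl⟩ : ∃ y ∈ F.fourGrp, x = F.invG * y :=
        ⟨_, hx, by rw [← mul_assoc, F.invG_sq, one_mul]⟩
      rw [mul_assoc F.invG y, ← F.invG_commute_range (F.fourGrp_le_range hy)]
    rcases ha with ha | ha <;> rcases hb with hb | hb
    · exact Or.inl (mul_mem ha hb)
    · refine Or.inr ?_
      rw [← mul_assoc, F.invG_commute_range (F.fourGrp_le_range ha), mul_assoc]
      exact mul_mem ha hb
    · exact Or.inr (by rw [← mul_assoc]; exact mul_mem ha hb)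
    · refine Or.inl ?_
      have : a * b = F.invG * a * (F.invG * b) := by
        rw [hh ha, mul_assoc, ← mul_assoc F.invG F.invG, F.invG_sq, one_mul]
      rw [this]
      exact mul_mem ha hb
  inv_mem' := by
    intro a ha
    rcases ha with ha | ha
    · exact Or.inl (inv_mem ha)
    · refine Or.inr ?_
      have hj : F.invG⁻¹ = F.invG := inv_eq_of_mul_eq_one_left F.invG_sq
      obtain ⟨y, hy, rfl⟩ : ∃ y ∈ F.fourGrp, a = F.invG * y :=
        ⟨_, ha, by rw [← mul_assoc, F.invG_sq, one_mul]⟩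
      rw [mul_inv_rev, hj, ← mul_assoc, F.invG_commute_range (F.fourGrp_le_range (inv_mem hy)), mul_assoc,
        F.invG_sq, mul_one]
      exact inv_mem hy

theorem mem_two8 {x : ↥(RG K m)} : x ∈ F.two8 ↔ x ∈ F.fourGrp ∨ F.invG * x ∈ F.fourGrp := Iff.rfl

theorem two8_exp {x : ↥(RG K m)} (hx : x ∈ F.two8) : x * x = 1 := by
  have h4 : ∀ y ∈ F.fourGrp, y * y = 1 := by
    intro y hy
    rcases F.mem_fourGrp.1 hy with rfl | rfl | rfl | rfl
    · exact one_mul 1
    · exact F.wG_sq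
    · exact F.mG_sq
    · rw [mul_assoc, ← mul_assoc F.mG, F.mG_wG, mul_assoc, F.mG_sq, mul_one, F.wG_sq]
  rcases hx with hx | hx
  · exact h4 _ hx
  · obtain ⟨y, hy, rfl⟩ : ∃ y ∈ F.fourGrp, x = F.invG * y :=
      ⟨_, hx, by rw [← mul_assoc, F.invG_sq, one_mul]⟩
    rw [mul_assoc, ← mul_assoc y, ← F.invG_commute_range (F.fourGrp_le_range hy), mul_assoc, h4 y hy, mul_one,
      F.invG_sq]

theorem card_fourGrp : Nat.card ↥F.fourGrp = 4 := by
  classical
  have hne : F.wG * F.mG ≠ 1 := fun h => F.wG_ne_mG (by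
    have := eq_inv_of_mul_eq_one_left h
    rwa [inv_eq_of_mul_eq_one_left F.mG_sq] at this)
  rw [← SetLike.coe_sort_coe, Nat.card_coe_set_eq,
    show (F.fourGrp : Set ↥(RG K m)) = ↑({1, F.wG, F.mG, F.wG * F.mG} : Finset ↥(RG K m)) by
      ext x; simp [F.mem_fourGrp], Set.ncard_coe_finset]
  refine Finset.card_eq_of_equiv_fin (Fintype.equivFinOfCardEq ?_) |>.trans rfl
  rw [Fintype.card_coe, Finset.card_insert_of_notMem, Finset.card_insert_of_notMem, Finset.card_pair]
  · exact fun h => F.wG_ne_one (by simpa using h.symm)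
  · simp only [Finset.mem_insert, Finset.mem_singleton, not_or]
    exact ⟨F.wG_ne_mG, fun h => F.mG_ne_one (by simpa using h.symm)⟩
  · simp only [Finset.mem_insert, Finset.mem_singleton, not_or]
    exact ⟨F.wG_ne_one.symm, F.mG_ne_one.symm, hne.symm⟩

theorem card_two8 : Nat.card ↥F.two8 = 8 := by
  have hset : (F.two8 : Set ↥(RG K m)) = (F.fourGrp : Set _) ∪ (F.invG * ·) '' (F.fourGrp : Set _) := by
    ext x
    simp only [Set.mem_union, Set.mem_image, SetLike.mem_coe, F.mem_two8]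
    refine or_congr Iff.rfl ⟨fun h => ⟨_, h, by rw [← mul_assoc, F.invG_sq, one_mul]⟩, ?_⟩
    rintro ⟨y, hy, rfl⟩
    rwa [← mul_assoc, F.invG_sq, one_mul]
  rw [← SetLike.coe_sort_coe, Nat.card_coe_set_eq, hset, Set.ncard_union_eq ?_ (Set.toFinite _) (Set.toFinite _),
    Set.ncard_image_of_injective _ (mul_right_injective _), ← Nat.card_coe_set_eq, SetLike.coe_sort_coe,
    F.card_fourGrp]
  rw [Set.disjoint_left]
  rintro _ hx ⟨y, hy, rfl⟩
  exact F.invG_notMem_range (F.fourGrp_le_range ((Subgroup.mul_mem_cancel_right _ hy).1 hx))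

theorem factorization_two : (Nat.card ↥(RG K m)).factorization 2 = 3 := by
  rw [F.card_group]
  obtain ⟨k, hk⟩ : ∃ k, 3 ^ (2 * m + 1) = 8 * k + 3 := by
    refine ⟨3 ^ (2 * m + 1) / 8, ?_⟩
    have : 3 ^ (2 * m + 1) % 8 = 3 := by rw [pow_succ, pow_mul, Nat.mul_mod, Nat.pow_mod]; norm_num
    omega
  rw [hk]
  obtain ⟨l, hl⟩ : ∃ l, (8 * k + 3) ^ 3 + 1 = 4 * (2 * l + 1) :=
    ⟨64 * k ^ 3 + 72 * k ^ 2 + 27 * k + 3, by ring⟩
  have hodd : ∀ {a : ℕ}, ¬ 2 ∣ a → a.factorization 2 = 0 := fun h => Nat.factorization_eq_zero_of_not_dvd h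
  rw [hl, show 8 * k + 3 - 1 = 2 * (4 * k + 1) by omega,
    show (8 * k + 3) ^ 3 * (2 * (4 * k + 1)) * (4 * (2 * l + 1)) =
      2 ^ 3 * ((8 * k + 3) ^ 3 * ((4 * k + 1) * (2 * l + 1))) by ring,
    Nat.factorization_mul (by norm_num) (mul_ne_zero (pow_ne_zero _ (by omega)) (mul_ne_zero (by omega) (by omega)))]
  have h2 : ¬ 2 ∣ (8 * k + 3) ^ 3 * ((4 * k + 1) * (2 * l + 1)) := by
    intro h
    rcases Nat.prime_two.dvd_mul.1 h with h | h
    · have := Nat.prime_two.dvd_of_dvd_pow h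
      omega
    · rcases Nat.prime_two.dvd_mul.1 h with h | h <;> omega
  rw [Finsupp.coe_add, Pi.add_apply, hodd h2, Nat.prime_two.factorization_pow, Finsupp.single_eq_same]

/-- The standard Sylow 2-subgroup. -/
noncomputable def sylowTwo [Fact (Nat.Prime 2)] : Sylow 2 ↥(RG K m) :=
  Sylow.ofCard F.two8 (by rw [F.card_two8, F.factorization_two]; rfl)

/-- Every Sylow 2-subgroup is a conjugate of the standard one, hence elementary of order eight. -/
theorem sylow_two_elementary [Fact (Nat.Prime 2)] (S : Sylow 2 ↥(RG K m)) :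
    Nat.card S = 8 ∧ ∀ x ∈ S, x * x = 1 := by
  refine ⟨by rw [S.card_eq_multiplicity, F.factorization_two]; rfl, fun x hx => ?_⟩
  obtain ⟨g, rfl⟩ := MulAction.exists_smul_eq ↥(RG K m) F.sylowTwo S
  have hx' : g⁻¹ * x * g ∈ F.two8 := by
    have h := hx
    rw [← SetLike.mem_coe] at h
    have h' : x ∈ (g • F.sylowTwo : Sylow 2 ↥(RG K m)).toSubgroup := h
    rwa [Sylow.coe_subgroup_smul, Subgroup.mem_pointwise_smul_iff_inv_smul_mem, ← map_inv, MulAut.smul_def,
      MulAut.conj_apply, inv_inv] at h'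
  have := F.two8_exp hx'
  calc x * x = g * (g⁻¹ * x * g * (g⁻¹ * x * g)) * g⁻¹ := by group
    _ = 1 := by rw [this]; group

end Facts

end Cfsg.Agent.Lib.Ree
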