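import Cfsg.Agent.Lib.Chev.Perfect
import Cfsg.Agent.Lib.Chev.SL2Hom
import Cfsg.Prelude.Def_LieTwisted

/-!
The words generating `²G₂` inside `G₂` in characteristic three, as group elements, and the torus elements.
-/

set_option autoImplicit false

namespace Cfsg.Agent.Lib.Ree

open Cfsg.Lie Cfsg.Agent.Lib.Chev

/-- The ambient general linear group. -/
abbrev GG (K : Type*) [Field K] := GL chevG2.Idx K

variable {K : Type*} [Field K]

/-- Root elements of G2, indexed by `Fin 12`. -/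
noncomputable def X (r : Fin 12) (t : K) : GG K := xGL checked_G2 K (r := r.val) r.isLt t

theorem X_eq {r : ℕ} (hr : r < chevG2.nroots) (t : K) : xGL checked_G2 K hr t = X ⟨r, hr⟩ t := rfl

theorem coe_X (r : Fin 12) (t : K) : ((X r t : GG K) : Matrix chevG2.Idx chevG2.Idx K) = chevG2.x K r.val t := rfl

theorem X_add (r : Fin 12) (s t : K) : X r s * X r t = X r (s + t) := checked_G2.xGL_add r.isLt s t

theorem X_zero (r : Fin 12) : X r (0 : K) = 1 := Units.ext (checked_G2.x_zero r.isLt)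

theorem X_inv (r : Fin 12) (t : K) : (X r t)⁻¹ = X r (-t) := Units.ext rfl

theorem X_injective (r : Fin 12) : Function.Injective (X (K := K) r) := fun s t e =>
  checked_G2.x_injective r.isLt (congrArg Units.val e)

theorem X_mem_group (r : Fin 12) (t : K) : X r t ∈ chevG2.group K := checked_G2.xGL_mem_group r.isLt t

theorem X_mem_rootGen {S : Set ℕ} (r : Fin 12) (t : K) (hr : r.val ∈ S) : X r t ∈ rootGen chevG2 K S :=
  mem_rootGen (t := t) hr rfl

theorem X_mem_pos (r : Fin 12) (t : K) (hr : 6 ≤ r.val) : X r t ∈ chevG2.posUnipotent K := by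
  rw [checked_G2.posUnipotent_eq]
  exact X_mem_rootGen r t ⟨hr, r.isLt⟩

theorem X_mem_neg (r : Fin 12) (t : K) (hr : r.val < 6) : X r t ∈ chevG2.negUnipotent K := by
  rw [checked_G2.negUnipotent_eq]
  exact X_mem_rootGen r t hr

/-- `x_a(t^θ) x_b(t) x_{a+b}(t^{θ+1}+u^θ) x_{2a+b}(t^{2θ+1}+v^θ) x_{3a+b}(u) x_{3a+2b}(v)`. -/
noncomputable def uWord (e : ℕ) (t u v : K) : GG K :=
  X 7 (t ^ e) * X 6 t * X 8 (t ^ (e + 1) + u ^ e) * X 9 (t ^ (2 * e + 1) + v ^ e) * X 10 u * X 11 v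

/-- The image of `uWord` under `x_r(c) ↦ x_{-r}(-c)`. -/
noncomputable def vWord (e : ℕ) (t u v : K) : GG K :=
  X 4 (-(t ^ e)) * X 5 (-t) * X 3 (-(t ^ (e + 1) + u ^ e)) * X 2 (-(t ^ (2 * e + 1) + v ^ e)) * X 1 (-u) * X 0 (-v)

theorem coe_uWord (e : ℕ) (t u v : K) :
    ((uWord e t u v : GG K) : Matrix chevG2.Idx chevG2.Idx K) = chevG2.wordMat K (reeWordU e t u v) := by
  simp [uWord, coe_X, ChevalleyDatum.wordMat, reeWordU, g2a, g2b, g2ab, g2aab, g2aaab, g2aaabb, mul_assoc]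

theorem coe_vWord (e : ℕ) (t u v : K) :
    ((vWord e t u v : GG K) : Matrix chevG2.Idx chevG2.Idx K) = chevG2.wordMat K (reeWordV e t u v) := by
  have h : reeWordV e t u v = [(4, -(t ^ e)), (5, -t), (3, -(t ^ (e + 1) + u ^ e)),
      (2, -(t ^ (2 * e + 1) + v ^ e)), (1, -u), (0, -v)] := rfl
  rw [h]
  simp [vWord, coe_X, ChevalleyDatum.wordMat, mul_assoc]

theorem uWord_mem (e : ℕ) (t u v : K) : uWord e t u v ∈ twistedG2 K e :=
  Subgroup.subset_closure ⟨_, ⟨t, u, v, Or.inl rfl⟩, coe_uWord e t u v⟩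

theorem vWord_mem (e : ℕ) (t u v : K) : vWord e t u v ∈ twistedG2 K e :=
  Subgroup.subset_closure ⟨_, ⟨t, u, v, Or.inr rfl⟩, coe_vWord e t u v⟩

theorem uWord_mem_pos (e : ℕ) (t u v : K) : uWord e t u v ∈ chevG2.posUnipotent K := by
  unfold uWord
  exact mul_mem (mul_mem (mul_mem (mul_mem (mul_mem (X_mem_pos _ _ (by decide)) (X_mem_pos _ _ (by decide)))
    (X_mem_pos _ _ (by decide))) (X_mem_pos _ _ (by decide))) (X_mem_pos _ _ (by decide))) (X_mem_pos _ _ (by decide))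

theorem vWord_mem_neg (e : ℕ) (t u v : K) : vWord e t u v ∈ chevG2.negUnipotent K := by
  unfold vWord
  exact mul_mem (mul_mem (mul_mem (mul_mem (mul_mem (X_mem_neg _ _ (by decide)) (X_mem_neg _ _ (by decide)))
    (X_mem_neg _ _ (by decide))) (X_mem_neg _ _ (by decide))) (X_mem_neg _ _ (by decide))) (X_mem_neg _ _ (by decide))

theorem twistedG2_le_group (e : ℕ) : twistedG2 K e ≤ chevG2.group K := by
  refine (Subgroup.closure_le _).2 ?_
  rintro g ⟨w, ⟨t, u, v, rfl | rfl⟩, hg⟩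
  · have : g = uWord e t u v := Units.ext (hg.trans (coe_uWord e t u v).symm)
    exact this ▸ checked_G2.posUnipotent_le_group (uWord_mem_pos e t u v)
  · have : g = vWord e t u v := Units.ext (hg.trans (coe_vWord e t u v).symm)
    exact this ▸ checked_G2.negUnipotent_le_group (vWord_mem_neg e t u v)

/-- The coordinate function of a torus element. -/
def cv (c₀ c₁ : Kˣ) : ℕ → Kˣ := fun i => if i = 0 then c₀ else c₁

/-- The torus element with the given coordinates. -/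
noncomputable def tor (c₀ c₁ : Kˣ) : GG K := torusHom chevG2 K (cv c₀ c₁)

/-- Its value at a root. -/
def chi (c₀ c₁ : Kˣ) (r : Fin 12) : Kˣ :=
  c₀ ^ (![0, -3, -1, 1, -2, 3, -3, 2, -1, 1, 3, 0] r : ℤ) * c₁ ^ (![-1, 1, 0, -1, 1, -2, 2, -1, 1, 0, -1, 1] r : ℤ)

theorem torusFun_cv (c₀ c₁ : Kˣ) (r : Fin 12) : torusFun chevG2 (cv c₀ c₁) r.val = chi c₀ c₁ r := by
  have h : ∀ r : Fin 12, chevG2.cartan 0 r.val = ![0, -3, -1, 1, -2, 3, -3, 2, -1, 1, 3, 0] r ∧
      chevG2.cartan 1 r.val = ![-1, 1, 0, -1, 1, -2, 2, -1, 1, 0, -1, 1] r := by decide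
  rw [torusFun, show Finset.range chevG2.rank = {0, 1} from rfl, Finset.prod_pair (by decide), chi, (h r).1, (h r).2]
  simp [cv]

theorem tor_conj_X (c₀ c₁ : Kˣ) (r : Fin 12) (t : K) :
    tor c₀ c₁ * X r t * (tor c₀ c₁)⁻¹ = X r ((chi c₀ c₁ r : K) * t) := by
  rw [← torusFun_cv]
  exact checked_G2.conj_x r.isLt t

theorem tor_mul (a b a' b' : Kˣ) : tor a b * tor a' b' = tor (a * a') (b * b') := by
  rw [tor, tor, tor, ← map_mul]
  congr 1
  funext i
  simp only [cv, Pi.mul_apply]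
  split_ifs <;> rfl

theorem tor_one : tor (1 : Kˣ) 1 = 1 := by
  rw [tor, show cv (1 : Kˣ) 1 = 1 from funext fun i => by simp [cv], map_one]

theorem mem_diagonal_iff {g : GG K} : g ∈ chevG2.diagonalSubgroup K ↔ ∃ c₀ c₁ : Kˣ, g = tor c₀ c₁ := by
  rw [rooted_G2.diagonalSubgroup_eq]
  constructor
  · rintro ⟨c, rfl⟩
    refine ⟨c 0, c 1, Units.ext ?_⟩
    rw [tor, coe_torusHom, coe_torusHom]
    congr 1
  · rintro ⟨a, b, rfl⟩
    exact ⟨_, rfl⟩

theorem chi_nine (a b : Kˣ) : chi a b 9 = a := by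
  show a ^ (1 : ℤ) * b ^ (0 : ℤ) = a
  simp

theorem chi_eleven (a b : Kˣ) : chi a b 11 = b := by
  show a ^ (0 : ℤ) * b ^ (1 : ℤ) = b
  simp

theorem tor_inj {a b a' b' : Kˣ} (h : tor a b = tor a' b') : a = a' ∧ b = b' := by
  have key : ∀ r : Fin 12, chi a b r = chi a' b' r := fun r => by
    have e := X_injective (K := K) r ((tor_conj_X a b r 1).symm.trans (h ▸ tor_conj_X a' b' r 1))
    exact Units.ext (by simpa using e)
  exact ⟨by simpa [chi_nine] using key 9, by simpa [chi_eleven] using key 11⟩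

end Cfsg.Agent.Lib.Ree
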