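import Cfsg.Agent.Lib.Ree.Torus

/-!
The two cells of `²G₂` with unique factors, and the representative of the longest element.
-/

set_option autoImplicit false

namespace Cfsg.Agent.Lib.Ree

set_option maxHeartbeats 400000

open Cfsg.Lie Cfsg.Agent.Lib.Chev

variable {K : Type*} [Field K]

theorem long_X (r : Fin 12) (t : K) : nProd checked_G2 K longWord * X r t * (nProd checked_G2 K longWord)⁻¹ =
    X ⟨ng chevG2 r.val, Checked.ng_lt (D := chevG2) r.isLt⟩ ((weta G2.cert longWord r.val : K) * t) := by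
  rw [mul_inv_eq_iff_eq_mul]
  refine Units.ext ?_
  rw [Units.val_mul, Units.val_mul, coe_X, coe_X]
  have := checked_G2.nProd_mul_x (F := K) isWord_long (show r.val < chevG2.nroots from r.isLt) t
  rw [perm_long r] at this
  exact this

theorem long_conj_tor (a b : Kˣ) :
    nProd checked_G2 K longWord * tor a b * (nProd checked_G2 K longWord)⁻¹ = (tor a b)⁻¹ := by
  set P := nProd checked_G2 K longWord with hP
  obtain ⟨t', ht', e⟩ := rooted_G2.nProd_conj_diag (F := K) isWord_long (t := tor a b) (mem_diagonal_iff.2 ⟨a, b, rfl⟩)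
  obtain ⟨a', b', rfl⟩ := mem_diagonal_iff.1 ht'
  have hconj : P * tor a b * P⁻¹ = tor a' b' := mul_inv_eq_iff_eq_mul.2 e
  have key : ∀ r : Fin 12,
      chi a' b' ⟨ng chevG2 r.val, Checked.ng_lt (D := chevG2) r.isLt⟩ = chi a b r := by
    intro r
    set ε : K := (weta G2.cert longWord r.val : K) with hεdef
    have hε : ε ≠ 0 := by rcases weta_cases (C := G2.cert) longWord r.val with w | w <;> simp [hεdef, w]
    have e1 := long_X r (1 : K)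
    have e2 := long_X r ((chi a b r : K) * 1)
    rw [← hP, ← hεdef] at e1 e2
    have e4 : tor a' b' * X ⟨ng chevG2 r.val, Checked.ng_lt (D := chevG2) r.isLt⟩ (ε * 1) * (tor a' b')⁻¹ =
        X ⟨ng chevG2 r.val, Checked.ng_lt (D := chevG2) r.isLt⟩ (ε * ((chi a b r : K) * 1)) := by
      rw [← e1, ← e2, ← tor_conj_X, ← hconj]
      group
    rw [tor_conj_X] at e4
    have := X_injective _ e4
    exact Units.ext (mul_right_cancel₀ hε (by linear_combination this))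
  rw [hconj, eq_inv_iff_mul_eq_one, tor_mul]
  have ka : a' = a⁻¹ := by
    have := key 2
    rw [show (⟨ng chevG2 (2 : Fin 12).val, Checked.ng_lt (D := chevG2) (2 : Fin 12).isLt⟩ : Fin 12) = 9 from rfl,
      chi_nine] at this
    rw [this]; show a ^ (-1 : ℤ) * b ^ (0 : ℤ) = a⁻¹; simp
  have kb : b' = b⁻¹ := by
    have := key 0
    rw [show (⟨ng chevG2 (0 : Fin 12).val, Checked.ng_lt (D := chevG2) (0 : Fin 12).isLt⟩ : Fin 12) = 11 from rfl,
      chi_eleven] at this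
    rw [this]; show a ^ (0 : ℤ) * b ^ (-1 : ℤ) = b⁻¹; simp
  rw [ka, kb, inv_mul_cancel, inv_mul_cancel, tor_one]

theorem pos_le_invSet_long : chevG2.posUnipotent K ≤ rootGen chevG2 K (invSet chevG2 G2.cert longWord) := by
  rw [checked_G2.posUnipotent_eq]
  refine rootGen_mono fun r hr => ⟨hr, ?_⟩
  have h := perm_long ⟨r, hr.2⟩
  simp only at h
  rw [h]
  have h6 : 6 ≤ r := hr.1
  have h12 : r < 12 := hr.2
  show 11 - r < 6
  omega

namespace Facts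

variable [Fintype K] {m : ℕ} (F : Facts K m)
include F

/-- The chosen representative of the longest element. -/
noncomputable def longEl : GG K := F.exists_long.choose

theorem longEl_mem : F.longEl ∈ twistedG2 K (3 ^ m) := F.exists_long.choose_spec.1

theorem longEl_eq : ∃ t ∈ chevG2.diagonalSubgroup K, F.longEl = nProd checked_G2 K longWord * t :=
  F.exists_long.choose_spec.2

theorem longEl_conj_diag {h : GG K} (hh : h ∈ chevG2.diagonalSubgroup K) : F.longEl * h * F.longEl⁻¹ = h⁻¹ := by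
  obtain ⟨t, ht, e⟩ := F.longEl_eq
  obtain ⟨a, b, rfl⟩ := mem_diagonal_iff.1 hh
  rw [e, ← long_conj_tor a b]
  rw [mul_inv_rev, mul_assoc _ t (tor a b), rooted_G2.diagonal_commute ht hh]
  group

theorem longEl_mul_diag {h : GG K} (hh : h ∈ chevG2.diagonalSubgroup K) : F.longEl * h = h⁻¹ * F.longEl :=
  mul_inv_eq_iff_eq_mul.1 (F.longEl_conj_diag hh)

theorem longEl_conj_pos {u : GG K} (hu : u ∈ chevG2.posUnipotent K) :
    F.longEl * u * F.longEl⁻¹ ∈ chevG2.negUnipotent K := by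
  obtain ⟨t, ht, e⟩ := F.longEl_eq
  have h1 : t * u * t⁻¹ ∈ rootGen chevG2 K (invSet chevG2 G2.cert longWord) :=
    pos_le_invSet_long ((Subgroup.mem_normalizer_iff.1 (rooted_G2.diagonal_le_normalizer_posUnipotent ht) u).1 hu)
  have := checked_G2.conj_invSet_le isWord_long h1
  rw [e]
  convert this using 1
  group

theorem U1_le_borel : U1 K (3 ^ m) ≤ chevG2.borelSubgroup K :=
  inf_le_left.trans le_sup_left

theorem H1_le_borel : H1 K (3 ^ m) ≤ chevG2.borelSubgroup K :=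
  inf_le_left.trans le_sup_right

theorem pos_mul_diag_eq {u u' h h' : GG K} (hu : u ∈ U1 K (3 ^ m)) (hu' : u' ∈ U1 K (3 ^ m)) (hh : h ∈ H1 K (3 ^ m))
    (hh' : h' ∈ H1 K (3 ^ m)) (e : u * h = u' * h') : u = u' ∧ h = h' := by
  have e2 : u'⁻¹ * u = h' * h⁻¹ := by
    rw [inv_mul_eq_iff_eq_mul, ← mul_assoc, eq_mul_inv_iff_mul_eq]; exact e
  have h1 : u'⁻¹ * u = 1 := Subgroup.mem_bot.1 (rooted_G2.posUnipotent_inf_diagonal.le (Subgroup.mem_inf.2
    ⟨mul_mem (inv_mem (Subgroup.mem_inf.1 hu').1) (Subgroup.mem_inf.1 hu).1,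
      e2 ▸ mul_mem (Subgroup.mem_inf.1 hh').1 (inv_mem (Subgroup.mem_inf.1 hh).1)⟩))
  have h2 : u = u' := (inv_mul_eq_one.1 h1).symm
  exact ⟨h2, mul_left_cancel (h2 ▸ e)⟩

theorem cell_unique {u u' h h' v v' : GG K} (hu : u ∈ U1 K (3 ^ m)) (hu' : u' ∈ U1 K (3 ^ m)) (hh : h ∈ H1 K (3 ^ m))
    (hh' : h' ∈ H1 K (3 ^ m)) (hv : v ∈ U1 K (3 ^ m)) (hv' : v' ∈ U1 K (3 ^ m))
    (e : u * F.longEl * h * v = u' * F.longEl * h' * v') : u = u' ∧ h = h' ∧ v = v' := by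
  rw [mul_assoc u, mul_assoc u', F.longEl_mul_diag (Subgroup.mem_inf.1 hh).1,
    F.longEl_mul_diag (Subgroup.mem_inf.1 hh').1] at e
  simp only [← mul_assoc] at e
  have e1 : (u' * h'⁻¹)⁻¹ * (u * h⁻¹) = F.longEl * (v' * v⁻¹) * F.longEl⁻¹ := by
    calc (u' * h'⁻¹)⁻¹ * (u * h⁻¹) = (u' * h'⁻¹)⁻¹ * (u * h⁻¹ * F.longEl * v) * v⁻¹ * F.longEl⁻¹ := by group
      _ = F.longEl * (v' * v⁻¹) * F.longEl⁻¹ := by rw [e]; group
  have hb : ∀ {u h : GG K}, u ∈ U1 K (3 ^ m) → h ∈ H1 K (3 ^ m) → u * h⁻¹ ∈ chevG2.borelSubgroup K :=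
    fun hu hh => mul_mem (F.U1_le_borel hu) (inv_mem (F.H1_le_borel hh))
  have h3 : (u' * h'⁻¹)⁻¹ * (u * h⁻¹) = 1 :=
    Subgroup.mem_bot.1 (rooted_G2.borel_inf_negUnipotent.le (Subgroup.mem_inf.2
      ⟨mul_mem (inv_mem (hb hu' hh')) (hb hu hh),
        e1 ▸ F.longEl_conj_pos (mul_mem (Subgroup.mem_inf.1 hv').1 (inv_mem (Subgroup.mem_inf.1 hv).1))⟩))
  have h4 : u * h⁻¹ = u' * h'⁻¹ := (inv_mul_eq_one.1 h3).symm
  obtain ⟨eu, eh⟩ := F.pos_mul_diag_eq hu hu' (inv_mem hh) (inv_mem hh') h4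
  refine ⟨eu, inv_injective eh, ?_⟩
  rw [h4] at e
  exact mul_left_cancel e

theorem exists_uWord_ne_one : ∃ u ∈ U1 K (3 ^ m), u ≠ 1 :=
  ⟨uWord (3 ^ m) 1 0 0, (F.unip _).2 ⟨_, _, _, rfl⟩, fun h => one_ne_zero (F.uWord_eq_one h).1⟩

theorem longEl_notMem_borel : F.longEl ∉ chevG2.borelSubgroup K := by
  intro hn
  obtain ⟨u, hu, hne⟩ := F.exists_uWord_ne_one
  refine hne (conj_eq_one_iff.1 (Subgroup.mem_bot.1 (rooted_G2.borel_inf_negUnipotent.le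
    (Subgroup.mem_inf.2 ⟨mul_mem (mul_mem hn (F.U1_le_borel hu)) (inv_mem hn),
      F.longEl_conj_pos (Subgroup.mem_inf.1 hu).1⟩))))

theorem cell_notMem_borel {u h v : GG K} (hu : u ∈ U1 K (3 ^ m)) (hh : h ∈ H1 K (3 ^ m)) (hv : v ∈ U1 K (3 ^ m)) :
    u * F.longEl * h * v ∉ chevG2.borelSubgroup K := by
  intro hb
  refine F.longEl_notMem_borel ?_
  have : F.longEl = u⁻¹ * (u * F.longEl * h * v) * v⁻¹ * h⁻¹ := by group
  rw [this]
  exact mul_mem (mul_mem (mul_mem (inv_mem (F.U1_le_borel hu)) hb) (inv_mem (F.U1_le_borel hv)))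
    (inv_mem (F.H1_le_borel hh))

theorem cell_mem {u h v : GG K} (hu : u ∈ U1 K (3 ^ m)) (hh : h ∈ H1 K (3 ^ m)) (hv : v ∈ U1 K (3 ^ m)) :
    u * F.longEl * h * v ∈ twistedG2 K (3 ^ m) :=
  mul_mem (mul_mem (mul_mem (Subgroup.mem_inf.1 hu).2 F.longEl_mem) (Subgroup.mem_inf.1 hh).2)
    (Subgroup.mem_inf.1 hv).2

/-- The two cells cover the group. -/
theorem cover {g : GG K} (hg : g ∈ twistedG2 K (3 ^ m)) :
    (∃ u ∈ U1 K (3 ^ m), ∃ h ∈ H1 K (3 ^ m), g = u * h) ∨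
      ∃ u ∈ U1 K (3 ^ m), ∃ h ∈ H1 K (3 ^ m), ∃ v ∈ U1 K (3 ^ m), g = u * F.longEl * h * v := by
  classical
  let f : (↥(U1 K (3 ^ m)) × ↥(H1 K (3 ^ m))) ⊕ (↥(U1 K (3 ^ m)) × ↥(H1 K (3 ^ m)) × ↥(U1 K (3 ^ m))) →
      ↥(twistedG2 K (3 ^ m)) := Sum.elim
    (fun p => ⟨p.1.1 * p.2.1, mul_mem (Subgroup.mem_inf.1 p.1.2).2 (Subgroup.mem_inf.1 p.2.2).2⟩)
    (fun p => ⟨p.1.1 * F.longEl * p.2.1.1 * p.2.2.1, F.cell_mem p.1.2 p.2.1.2 p.2.2.2⟩)
  have hinj : Function.Injective f := by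
    rintro (⟨u, h⟩ | ⟨u, h, v⟩) (⟨u', h'⟩ | ⟨u', h', v'⟩) e <;> have e' := congrArg Subtype.val e <;>
      simp only [f, Sum.elim_inl, Sum.elim_inr] at e'
    · obtain ⟨a, b⟩ := F.pos_mul_diag_eq u.2 u'.2 h.2 h'.2 e'
      rw [Subtype.ext a, Subtype.ext b]
    · exact absurd (e' ▸ mul_mem (F.U1_le_borel u.2) (F.H1_le_borel h.2)) (F.cell_notMem_borel u'.2 h'.2 v'.2)
    · exact absurd (e'.symm ▸ mul_mem (F.U1_le_borel u'.2) (F.H1_le_borel h'.2)) (F.cell_notMem_borel u.2 h.2 v.2)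
    · obtain ⟨a, b, c⟩ := F.cell_unique u.2 u'.2 h.2 h'.2 v.2 v'.2 e'
      rw [Subtype.ext a, Subtype.ext b, Subtype.ext c]
  have hcard : Nat.card ((↥(U1 K (3 ^ m)) × ↥(H1 K (3 ^ m))) ⊕
      (↥(U1 K (3 ^ m)) × ↥(H1 K (3 ^ m)) × ↥(U1 K (3 ^ m)))) = Nat.card ↥(twistedG2 K (3 ^ m)) := by
    rw [Nat.card_sum, Nat.card_prod, Nat.card_prod, Nat.card_prod, F.card_group, F.card_unip, F.card_torus]
    ring
  obtain ⟨p, hp⟩ := ((Nat.bijective_iff_injective_and_card f).2 ⟨hinj, hcard⟩).2 ⟨g, hg⟩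
  have hp' := congrArg Subtype.val hp
  rcases p with ⟨u, h⟩ | ⟨u, h, v⟩
  · exact Or.inl ⟨_, u.2, _, h.2, hp'.symm⟩
  · exact Or.inr ⟨_, u.2, _, h.2, _, v.2, hp'.symm⟩

end Facts

end Cfsg.Agent.Lib.Ree
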