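import Cfsg.Agent.Lib.Ree.Cell
import Cfsg.Agent.Lib.SL2.Basic

/-!
The homomorphism `SL₂(q) → ²G₂(q)` along the orthogonal roots `a + b`, `3a + b`.
-/

set_option autoImplicit false

namespace Cfsg.Agent.Lib.Ree

set_option maxHeartbeats 400000

open Cfsg.Lie Cfsg.Agent.Lib.Chev
open scoped MatrixGroups

variable {K : Type*} [Field K]

theorem hasSL2_root (r : Fin 12) : ∃ φ : SL(2, K) →* GG K,
    ∀ t : K, φ (SL2.upper t) = X r t ∧
      φ (SL2.lower t) = X ⟨ng chevG2 r.val, Checked.ng_lt (D := chevG2) r.isLt⟩ t := by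
  obtain ⟨φ, -, h⟩ := rooted_G2.hasSL2 (F := K) Twisted.etaSigns_G2 r.val r.isLt r.isLt
  exact ⟨φ, fun t => ⟨(h t).1, (h t).2⟩⟩

/-- The homomorphism of a root. -/
noncomputable def rootHom (r : Fin 12) : SL(2, K) →* GG K := (hasSL2_root r).choose

theorem rootHom_upper (r : Fin 12) (t : K) : rootHom r (SL2.upper t) = X r t :=
  ((hasSL2_root r).choose_spec t).1

theorem rootHom_lower (r : Fin 12) (t : K) :
    rootHom r (SL2.lower t) = X ⟨ng chevG2 r.val, Checked.ng_lt (D := chevG2) r.isLt⟩ t :=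
  ((hasSL2_root r).choose_spec t).2

theorem upper_lower_closure :
    Subgroup.closure (Set.range (SL2.upper (F := K)) ∪ Set.range (SL2.lower (F := K))) = (⊤ : Subgroup SL(2, K)) := by
  rw [eq_top_iff, ← RankOneData.closure_gens, Subgroup.closure_le]
  rintro g (⟨t, rfl⟩ | hg)
  · exact Subgroup.subset_closure (Or.inl ⟨t, rfl⟩)
  · rw [Set.mem_singleton_iff] at hg
    have e : g = SL2.upper 1 * SL2.lower (-1) * SL2.upper 1 := by
      subst hg
      refine SL2.ext_entries ?_ ?_ ?_ ?_ <;>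
        simp [RankOneData.wElt, SL2.mul_00, SL2.mul_01, SL2.mul_10, SL2.mul_11, SL2.upper, SL2.lower, SL2.diag]
    rw [e]
    exact mul_mem (mul_mem (Subgroup.subset_closure (Or.inl ⟨_, rfl⟩)) (Subgroup.subset_closure (Or.inr ⟨_, rfl⟩)))
      (Subgroup.subset_closure (Or.inl ⟨_, rfl⟩))

theorem range_le_of_gens {G : Type*} [Group G] {φ : SL(2, K) →* G} {S : Subgroup G}
    (h1 : ∀ t, φ (SL2.upper t) ∈ S) (h2 : ∀ t, φ (SL2.lower t) ∈ S) : φ.range ≤ S := by
  rw [MonoidHom.range_eq_map, ← upper_lower_closure, MonoidHom.map_closure, Subgroup.closure_le]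
  rintro _ ⟨g, ⟨t, rfl⟩ | ⟨t, rfl⟩, rfl⟩
  exacts [h1 t, h2 t]

theorem X_commute {r s : Fin 12} (h1 : s.val ≠ r.val) (h2 : s.val ≠ ng chevG2 r.val)
    (h3 : cTerms G2.cert r.val s.val = []) (t u : K) : X r t * X s u = X s u * X r t := by
  refine Units.ext ?_
  rw [Units.val_mul, Units.val_mul, coe_X, coe_X,
    checked_G2.commutator_formula (r := r.val) (s := s.val) r.isLt s.isLt h1 h2 t u,
    checked_G2.commWord_eq (show r.val < chevG2.nroots from r.isLt) (show s.val < chevG2.nroots from s.isLt), h3]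
  simp [ChevalleyDatum.wordMat]

theorem rootHom_commute (g g' : SL(2, K)) : rootHom 8 g * rootHom 10 g' = rootHom 10 g' * rootHom 8 g := by
  have e8 : (⟨ng chevG2 (8 : Fin 12).val, Checked.ng_lt (D := chevG2) (8 : Fin 12).isLt⟩ : Fin 12) = 3 := rfl
  have e10 : (⟨ng chevG2 (10 : Fin 12).val, Checked.ng_lt (D := chevG2) (10 : Fin 12).isLt⟩ : Fin 12) = 1 := rfl
  have hgen : ∀ t u : K, X 8 t * X 10 u = X 10 u * X 8 t ∧ X 8 t * X 1 u = X 1 u * X 8 t ∧
      X 3 t * X 10 u = X 10 u * X 3 t ∧ X 3 t * X 1 u = X 1 u * X 3 t := fun t u =>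
    ⟨X_commute (by decide) (by decide) (by decide +kernel) t u,
      X_commute (by decide) (by decide) (by decide +kernel) t u,
      X_commute (by decide) (by decide) (by decide +kernel) t u,
      X_commute (by decide) (by decide) (by decide +kernel) t u⟩
  have h1 : (rootHom (K := K) 8).range ≤ Subgroup.centralizer ((rootHom (K := K) 10).range : Set (GG K)) := by
    refine range_le_of_gens ?_ ?_ <;> intro t <;> rw [Subgroup.mem_centralizer_iff]
    · suffices (rootHom (K := K) 10).range ≤ Subgroup.centralizer {rootHom 8 (SL2.upper t)} from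
        fun y hy => Subgroup.mem_centralizer_singleton_iff.1 (this hy)
      refine range_le_of_gens ?_ ?_ <;> intro u <;> rw [Subgroup.mem_centralizer_singleton_iff, rootHom_upper]
      · rw [rootHom_upper]; exact ((hgen t u).1).symm
      · rw [rootHom_lower, e10]; exact ((hgen t u).2.1).symm
    · suffices (rootHom (K := K) 10).range ≤ Subgroup.centralizer {rootHom 8 (SL2.lower t)} from
        fun y hy => Subgroup.mem_centralizer_singleton_iff.1 (this hy)
      refine range_le_of_gens ?_ ?_ <;> intro u <;> rw [Subgroup.mem_centralizer_singleton_iff, rootHom_lower]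
      · rw [rootHom_upper]; exact ((hgen t u).2.2.1).symm
      · rw [rootHom_lower]; exact ((hgen t u).2.2.2).symm
  exact (Subgroup.mem_centralizer_iff.1 (h1 ⟨g, rfl⟩) _ ⟨g', rfl⟩).symm

theorem cor_values : cor chevG2 G2.cert 0 8 = 1 ∧ cor chevG2 G2.cert 1 8 = 3 ∧ cor chevG2 G2.cert 0 10 = 1 ∧
    cor chevG2 G2.cert 1 10 = 1 := by decide +kernel

/-- A diagonal matrix as a word in the elementary ones. -/
theorem diag_word (a : Kˣ) : SL2.diag a =
    (SL2.upper (a : K) * SL2.lower (-(a : K)⁻¹) * SL2.upper (a : K)) *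
      (SL2.upper (-1) * SL2.lower (-(-1 : K)⁻¹) * SL2.upper (-1)) := by
  refine SL2.ext_entries ?_ ?_ ?_ ?_ <;>
    simp [SL2.mul_00, SL2.mul_01, SL2.mul_10, SL2.mul_11, SL2.upper, SL2.lower, SL2.diag]

theorem rootHom_diag (r : Fin 12) (a : Kˣ) :
    rootHom r (SL2.diag a) = tor (a ^ cor chevG2 G2.cert 0 r.val) (a ^ cor chevG2 G2.cert 1 r.val) := by
  have h := rooted_G2.hMat_torus (F := K) (r := r.val) r.isLt a
  have e : torusHom chevG2 K (fun k => a ^ cor chevG2 G2.cert k r.val) =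
      tor (a ^ cor chevG2 G2.cert 0 r.val) (a ^ cor chevG2 G2.cert 1 r.val) := by
    refine Units.ext ?_
    rw [tor, coe_torusHom, coe_torusHom]
    congr 1
  rw [← e]
  refine Units.ext ?_
  rw [← h, diag_word]
  simp only [map_mul, rootHom_upper, rootHom_lower, Units.val_mul, coe_X]
  simp only [ChevalleyDatum.hMat, ChevalleyDatum.hWord, ChevalleyDatum.nWord, ChevalleyDatum.wordMat,
    List.cons_append, List.nil_append, List.map_cons, List.map_nil, List.prod_cons, List.prod_nil, mul_one,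
    checked_G2.neg_eq (show r.val < chevG2.nroots from r.isLt), mul_assoc]

/-- Bruhat decomposition inside `SL₂`. -/
theorem sl_decomp {g : SL(2, K)} (hg : g 1 0 ≠ 0) :
    g = SL2.upper ((g 0 0 - 1) / g 1 0) * SL2.lower (g 1 0) * SL2.upper ((g 1 1 - 1) / g 1 0) := by
  have hd := SL2.det_entries g
  refine SL2.ext_entries ?_ ?_ ?_ ?_ <;>
    simp only [SL2.mul_00, SL2.mul_01, SL2.mul_10, SL2.mul_11, SL2.upper, SL2.lower, SL2.ofEntries_coe,
      Matrix.of_apply, Matrix.cons_val_zero, Matrix.cons_val_one, mul_zero, zero_mul, mul_one, one_mul, add_zero,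
      zero_add] <;> field_simp <;>
    first | linear_combination -hd | linear_combination hd | ring

theorem sl_borel {g : SL(2, K)} (hg : g 1 0 = 0) : ∃ (a : Kˣ) (x : K), g = SL2.diag a * SL2.upper x := by
  have hd := SL2.det_entries g
  rw [hg, mul_zero, sub_zero] at hd
  refine ⟨Units.mk0 (g 0 0) (left_ne_zero_of_mul_eq_one hd), g 0 1 / g 0 0, ?_⟩
  have h0 := left_ne_zero_of_mul_eq_one hd
  refine SL2.ext_entries ?_ ?_ ?_ ?_ <;>
    simp only [SL2.mul_00, SL2.mul_01, SL2.mul_10, SL2.mul_11, SL2.upper, SL2.diag, SL2.ofEntries_coe,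
      Matrix.of_apply, Matrix.cons_val_zero, Matrix.cons_val_one, Units.val_inv_eq_inv_val, Units.val_mk0,
      mul_zero, zero_mul, mul_one, one_mul, add_zero, zero_add, hg] <;> field_simp <;>
    first | linear_combination hd | linear_combination -hd | ring

namespace Facts

variable [Fintype K] {m : ℕ} (F : Facts K m)
include F

/-- `θ`. -/
noncomputable def theta : K →+* K where
  toFun x := x ^ 3 ^ m
  map_one' := one_pow _
  map_mul' x y := mul_pow x y _
  map_zero' := zero_pow (by positivity)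
  map_add' x y := F.theta_add x y

/-- The homomorphism `g ↦ φ_{a+b}(g^θ) φ_{3a+b}(g)`. -/
noncomputable def slHom : SL(2, K) →* GG K :=
  MonoidHom.mk' (fun g => rootHom 8 (Matrix.SpecialLinearGroup.map F.theta g) * rootHom 10 g) fun g h => by
    rw [map_mul, map_mul, map_mul, mul_assoc, mul_assoc (rootHom 8 _) (rootHom 10 g), ← mul_assoc (rootHom 10 g),
      ← rootHom_commute, mul_assoc (rootHom 8 _) (rootHom 10 g)]

theorem theta_upper (t : K) : Matrix.SpecialLinearGroup.map F.theta (SL2.upper t) = SL2.upper (t ^ 3 ^ m) := by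
  refine SL2.ext_entries ?_ ?_ ?_ ?_ <;> simp [SL2.upper, theta]

theorem theta_lower (t : K) : Matrix.SpecialLinearGroup.map F.theta (SL2.lower t) = SL2.lower (t ^ 3 ^ m) := by
  refine SL2.ext_entries ?_ ?_ ?_ ?_ <;> simp [SL2.lower, theta]

theorem theta_diag (a : Kˣ) : Matrix.SpecialLinearGroup.map F.theta (SL2.diag a) = SL2.diag (a ^ 3 ^ m) := by
  refine SL2.ext_entries ?_ ?_ ?_ ?_ <;> simp [SL2.diag, theta]

theorem slHom_apply (g : SL(2, K)) :
    F.slHom g = rootHom 8 (Matrix.SpecialLinearGroup.map F.theta g) * rootHom 10 g := rfl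

theorem slHom_upper (t : K) : F.slHom (SL2.upper t) = uWord (3 ^ m) 0 t 0 := by
  rw [slHom_apply, theta_upper, rootHom_upper, rootHom_upper, uWord_middle]

theorem slHom_lower (t : K) : F.slHom (SL2.lower t) = vWord (3 ^ m) 0 (-t) 0 := by
  rw [slHom_apply, theta_lower, rootHom_lower, rootHom_lower,
    show (⟨ng chevG2 (8 : Fin 12).val, Checked.ng_lt (D := chevG2) (8 : Fin 12).isLt⟩ : Fin 12) = 3 from rfl,
    show (⟨ng chevG2 (10 : Fin 12).val, Checked.ng_lt (D := chevG2) (10 : Fin 12).isLt⟩ : Fin 12) = 1 from rfl]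
  simp [vWord, X_zero, (odd_theta m).neg_pow]

theorem slHom_mem (g : SL(2, K)) : F.slHom g ∈ twistedG2 K (3 ^ m) :=
  range_le_of_gens (fun t => F.slHom_upper t ▸ uWord_mem _ _ _ _) (fun t => F.slHom_lower t ▸ vWord_mem _ _ _ _)
    ⟨g, rfl⟩

theorem slHom_diag (a : Kˣ) : F.slHom (SL2.diag a) = tor (a ^ (3 ^ m + 1)) (a ^ (3 * 3 ^ m + 1)) := by
  rw [slHom_apply, theta_diag, rootHom_diag, rootHom_diag, tor_mul]
  obtain ⟨h1, h2, h3, h4⟩ := cor_values
  rw [show ((8 : Fin 12) : ℕ) = 8 from rfl, show ((10 : Fin 12) : ℕ) = 10 from rfl, h1, h2, h3, h4, zpow_one,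
    zpow_one, pow_succ a (3 ^ m), pow_succ a (3 * 3 ^ m), mul_comm 3 (3 ^ m), pow_mul]
  norm_cast

theorem invol_commute_slHom (g : SL(2, K)) : invol K m * F.slHom g = F.slHom g * invol K m := by
  have hchi : ∀ r : Fin 12, r = 8 ∨ r = 10 ∨ r = 3 ∨ r = 1 →
      ∀ t : K, invol K m * X r t = X r t * invol K m := by
    intro r hr t
    rw [← mul_inv_eq_iff_eq_mul, invol, hEl, tor_conj_X]
    have e1 : ((-1 : Kˣ)) ^ (2 * 3 ^ m + 1) = -1 := (odd_two_mul_add_one _).neg_one_pow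
    have e2 : ((-1 : Kˣ)) ^ (3 * 3 ^ m + 2) = -1 :=
      ((Odd.mul (by decide) (odd_theta m)).add_even (by decide)).neg_one_pow
    rw [e1, e2, show chi (-1 : Kˣ) (-1) r = 1 from ?_, Units.val_one, one_mul]
    rcases hr with rfl | rfl | rfl | rfl
    · show (-1 : Kˣ) ^ (-1 : ℤ) * (-1) ^ (1 : ℤ) = 1; simp
    · show (-1 : Kˣ) ^ (3 : ℤ) * (-1) ^ (-1 : ℤ) = 1; simp [zpow_ofNat, (show Odd 3 by decide).neg_one_pow]
    · show (-1 : Kˣ) ^ (1 : ℤ) * (-1) ^ (-1 : ℤ) = 1; simp
    · show (-1 : Kˣ) ^ (-3 : ℤ) * (-1) ^ (1 : ℤ) = 1; simp [zpow_neg, zpow_ofNat, (show Odd 3 by decide).neg_one_pow]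
  have h : F.slHom.range ≤ Subgroup.centralizer {invol K m} := by
    refine range_le_of_gens (fun t => ?_) (fun t => ?_) <;> rw [Subgroup.mem_centralizer_singleton_iff]
    · rw [F.slHom_upper, uWord_middle, mul_assoc, ← hchi 10 (by decide), ← mul_assoc, ← hchi 8 (by decide),
        mul_assoc]
    · rw [F.slHom_lower]
      simp only [vWord, zero_pow (show 3 ^ m ≠ 0 by positivity), add_zero, zero_add, neg_zero, X_zero, mul_one,
        one_mul, zero_pow (Nat.succ_ne_zero (3 ^ m)), zero_pow (Nat.succ_ne_zero (2 * 3 ^ m))]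
      rw [mul_assoc, ← hchi 1 (by decide), ← mul_assoc, ← hchi 3 (by decide), mul_assoc]
  exact (Subgroup.mem_centralizer_singleton_iff.1 (h ⟨g, rfl⟩)).symm

theorem slHom_lower_eq_one {c : K} (h : F.slHom (SL2.lower c) = 1) : c = 0 := by
  have h1 : F.slHom (SL2.weyl * SL2.lower c * SL2.weyl⁻¹) = 1 := by
    rw [map_mul, map_mul, h, map_inv, mul_one, mul_inv_cancel]
  have h2 : SL2.weyl * SL2.lower c * SL2.weyl⁻¹ = SL2.upper (-c) := by
    refine SL2.ext_entries ?_ ?_ ?_ ?_ <;>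
      simp [SL2.mul_00, SL2.mul_01, SL2.mul_10, SL2.mul_11, SL2.inv_00, SL2.inv_01, SL2.inv_10, SL2.inv_11,
        SL2.weyl, SL2.lower, SL2.upper]
  rw [h2, slHom_upper] at h1
  simpa using (F.uWord_eq_one h1).2.1

/-- An element of the image lying in `H¹` comes from a diagonal matrix. -/
theorem slHom_mem_borel {g : SL(2, K)} (h : F.slHom g ∈ chevG2.borelSubgroup K) : g 1 0 = 0 := by
  by_contra hc
  have hA : ∀ x : K, F.slHom (SL2.upper x) ∈ chevG2.borelSubgroup K := fun x =>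
    F.slHom_upper x ▸ Subgroup.mem_sup_left (uWord_mem_pos _ _ _ _)
  rw [sl_decomp hc, map_mul, map_mul] at h
  have h1 : F.slHom (SL2.lower (g 1 0)) ∈ chevG2.borelSubgroup K := by
    have := mul_mem (inv_mem (hA ((g 0 0 - 1) / g 1 0))) (mul_mem h (inv_mem (hA ((g 1 1 - 1) / g 1 0))))
    simpa [mul_assoc] using this
  refine hc (F.slHom_lower_eq_one (Subgroup.mem_bot.1 (rooted_G2.borel_inf_negUnipotent.le
    (Subgroup.mem_inf.2 ⟨h1, F.slHom_lower (g 1 0) ▸ vWord_mem_neg _ _ _ _⟩))))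

theorem slHom_diag_upper {a : Kˣ} {x : K} {μ : Kˣ} (h : F.slHom (SL2.diag a * SL2.upper x) = hEl (3 ^ m) μ) :
    x = 0 ∧ a ^ (3 ^ m + 1) = μ ^ (2 * 3 ^ m + 1) ∧ a ^ (3 * 3 ^ m + 1) = μ ^ (3 * 3 ^ m + 2) := by
  rw [map_mul, slHom_diag, slHom_upper] at h
  have hu : uWord (3 ^ m) (0 : K) x 0 = 1 := Subgroup.mem_bot.1 (rooted_G2.posUnipotent_inf_diagonal.le
    (Subgroup.mem_inf.2 ⟨uWord_mem_pos _ _ _ _, by
      rw [eq_inv_mul_of_mul_eq h]
      exact mul_mem (inv_mem (mem_diagonal_iff.2 ⟨_, _, rfl⟩)) (mem_diagonal_iff.2 ⟨_, _, rfl⟩)⟩))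
  rw [hu, mul_one] at h
  exact ⟨(F.uWord_eq_one hu).2.1, tor_inj h⟩

theorem slHom_eq_one_iff {g : SL(2, K)} : F.slHom g = 1 ↔ g = 1 ∨ g = -1 := by
  constructor
  · intro h
    obtain ⟨a, x, rfl⟩ := sl_borel (F.slHom_mem_borel (h ▸ one_mem _))
    obtain ⟨rfl, -, h2⟩ := F.slHom_diag_upper (μ := 1) (h.trans (hEl_one _).symm)
    rw [one_pow] at h2
    have h3 := F.sq_eq_one_of_fix_middle (μ := (a : K)) (by rw [← Units.val_pow_eq_pow_val, h2, Units.val_one])
    rw [SL2.upper_zero, mul_one]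
    rcases sq_eq_one_iff.1 h3 with e | e
    · rw [show a = 1 from Units.ext e]; exact Or.inl SL2.diag_one
    · rw [show a = -1 from Units.ext (by rw [e]; rfl)]
      refine Or.inr (SL2.ext_entries ?_ ?_ ?_ ?_) <;> simp [SL2.diag]
  · rintro (rfl | rfl)
    · exact map_one _
    · have : (-1 : SL(2, K)) = SL2.diag (-1) := by
        refine SL2.ext_entries ?_ ?_ ?_ ?_ <;> simp [SL2.diag]
      rw [this, slHom_diag, ((odd_theta m).add_odd odd_one).neg_one_pow,
        ((Odd.mul (by decide) (odd_theta m)).add_odd odd_one).neg_one_pow, tor_one]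

theorem card_mod_four : Fintype.card K % 4 = 3 := by
  rw [F.card_field, pow_succ, pow_mul, Nat.mul_mod, Nat.pow_mod]
  norm_num

theorem slHom_ne_invol (g : SL(2, K)) : F.slHom g ≠ invol K m := by
  intro h
  obtain ⟨a, x, rfl⟩ := sl_borel (F.slHom_mem_borel (h ▸ F.H1_le_borel F.invol_mem))
  obtain ⟨-, h1, h2⟩ := F.slHom_diag_upper (μ := -1) h
  rw [(odd_two_mul_add_one _).neg_one_pow] at h1
  have h3 : IsSquare (-1 : K) := by
    obtain ⟨k, hk⟩ : Even (3 ^ m + 1) := (odd_theta m).add_odd odd_one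
    exact ⟨(a : K) ^ k, by rw [← pow_add, ← hk, ← Units.val_pow_eq_pow_val, h1, Units.val_neg, Units.val_one]⟩
  exact FiniteField.isSquare_neg_one_iff.1 h3 F.card_mod_four

end Facts

end Cfsg.Agent.Lib.Ree
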