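import Cfsg.Agent.Lib.Ree.Points
import Cfsg.Agent.Lib.Ree.SLEmbed
import Mathlib.LinearAlgebra.Matrix.ProjectiveSpecialLinearGroup

/-!
The centraliser of the involution of `H¹`, and the Sylow 2-subgroups of `²G₂(q)`.
-/

set_option autoImplicit false

namespace Cfsg.Agent.Lib.Ree

set_option maxHeartbeats 400000

open Cfsg.Lie Cfsg.Agent.Lib.Chev
open scoped MatrixGroups

variable {K : Type*} [Field K] [Fintype K] {m : ℕ}

namespace Facts

variable (F : Facts K m)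
include F

/-- The centraliser of the involution. -/
noncomputable abbrev CJ : Subgroup ↥(RG K m) := Subgroup.centralizer {F.invG}

theorem mem_CJ {g : ↥(RG K m)} : g ∈ F.CJ ↔ invol K m * (g : GG K) = (g : GG K) * invol K m := by
  rw [Subgroup.mem_centralizer_singleton_iff, Subtype.ext_iff]
  exact ⟨fun h => h.symm, fun h => h.symm⟩

theorem invol_commute_hEl (μ : Kˣ) : invol K m * hEl (3 ^ m) μ = hEl (3 ^ m) μ * invol K m := by
  rw [invol, hEl_mul, hEl_mul, mul_comm]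

/-- The elements commuting with the involution. -/
theorem CJ_shape {g : GG K} (hg : g ∈ twistedG2 K (3 ^ m)) (hc : invol K m * g = g * invol K m) :
    (∃ (u : K) (μ : Kˣ), g = uWord (3 ^ m) 0 u 0 * hEl (3 ^ m) μ) ∨
      ∃ (u u' : K) (μ : Kˣ), g = uWord (3 ^ m) 0 u 0 * F.longEl * hEl (3 ^ m) μ * uWord (3 ^ m) 0 u' 0 := by
  set j := invol K m with hj
  have hjd := (Subgroup.mem_inf.1 F.invol_mem).1
  have hconj : ∀ t u v : K, j * uWord (3 ^ m) t u v * j⁻¹ ∈ U1 K (3 ^ m) := fun t u v => by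
    rw [F.invol_conj_uWord]; exact F.uWord_mem_U1 _ _ _
  rcases F.cover hg with ⟨a, ha, h, hh, rfl⟩ | ⟨a, ha, h, hh, b, hb, rfl⟩
  · obtain ⟨t, u, v, rfl⟩ := (F.unip _).1 ha
    obtain ⟨μ, rfl⟩ := F.torus_shape hh
    have e : j * uWord (3 ^ m) t u v * j⁻¹ * hEl (3 ^ m) μ = uWord (3 ^ m) t u v * hEl (3 ^ m) μ := by
      calc j * uWord (3 ^ m) t u v * j⁻¹ * hEl (3 ^ m) μ
          = j * (uWord (3 ^ m) t u v * hEl (3 ^ m) μ) * ((hEl (3 ^ m) μ)⁻¹ * j⁻¹ * hEl (3 ^ m) μ) := by group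
        _ = uWord (3 ^ m) t u v * hEl (3 ^ m) μ * j * ((hEl (3 ^ m) μ)⁻¹ * j⁻¹ * hEl (3 ^ m) μ) := by rw [hc]
        _ = uWord (3 ^ m) t u v * (hEl (3 ^ m) μ * j) * (j * hEl (3 ^ m) μ)⁻¹ * hEl (3 ^ m) μ := by group
        _ = uWord (3 ^ m) t u v * (j * hEl (3 ^ m) μ) * (j * hEl (3 ^ m) μ)⁻¹ * hEl (3 ^ m) μ := by
          rw [hj, F.invol_commute_hEl]
        _ = _ := by group
    obtain ⟨e1, -⟩ := F.pos_mul_diag_eq (hconj t u v) (F.uWord_mem_U1 t u v) hh hh e
    obtain ⟨rfl, rfl⟩ := (F.invol_commute_uWord_iff t u v).1 (mul_inv_eq_iff_eq_mul.1 e1)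
    exact Or.inl ⟨u, μ, rfl⟩
  · obtain ⟨t, u, v, rfl⟩ := (F.unip _).1 ha
    obtain ⟨μ, rfl⟩ := F.torus_shape hh
    obtain ⟨t', u', v', rfl⟩ := (F.unip _).1 hb
    set h := hEl (3 ^ m) μ
    have hn : j * F.longEl = F.longEl * j := by rw [F.longEl_mul_diag hjd, invol_inv]
    have hjh : j * h = h * j := F.invol_commute_hEl μ
    have e : j * uWord (3 ^ m) t u v * j⁻¹ * F.longEl * h * (j * uWord (3 ^ m) t' u' v' * j⁻¹) =
        uWord (3 ^ m) t u v * F.longEl * h * uWord (3 ^ m) t' u' v' := by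
      calc j * uWord (3 ^ m) t u v * j⁻¹ * F.longEl * h * (j * uWord (3 ^ m) t' u' v' * j⁻¹)
          = j * uWord (3 ^ m) t u v * j⁻¹ * F.longEl * (h * j) * uWord (3 ^ m) t' u' v' * j⁻¹ := by group
        _ = j * uWord (3 ^ m) t u v * j⁻¹ * (F.longEl * j) * h * uWord (3 ^ m) t' u' v' * j⁻¹ := by
          rw [← hjh]; group
        _ = j * (uWord (3 ^ m) t u v * F.longEl * h * uWord (3 ^ m) t' u' v') * j⁻¹ := by rw [← hn]; group
        _ = _ := by rw [hc]; group
    obtain ⟨e1, -, e2⟩ := F.cell_unique (hconj t u v) (F.uWord_mem_U1 t u v) hh hh (hconj t' u' v')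
      (F.uWord_mem_U1 t' u' v') e
    obtain ⟨rfl, rfl⟩ := (F.invol_commute_uWord_iff t u v).1 (mul_inv_eq_iff_eq_mul.1 e1)
    obtain ⟨rfl, rfl⟩ := (F.invol_commute_uWord_iff t' u' v').1 (mul_inv_eq_iff_eq_mul.1 e2)
    exact Or.inr ⟨u, u', μ, rfl⟩

theorem card_CJ_le : Nat.card ↥F.CJ ≤ 3 ^ (2 * m + 1) * ((3 ^ (2 * m + 1)) ^ 2 - 1) := by
  classical
  let f : K × Kˣ ⊕ K × K × Kˣ → GG K := Sum.elim
    (fun p => uWord (3 ^ m) 0 p.1 0 * hEl (3 ^ m) p.2)
    (fun p => uWord (3 ^ m) 0 p.1 0 * F.longEl * hEl (3 ^ m) p.2.2 * uWord (3 ^ m) 0 p.2.1 0)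
  have hsub : (fun g : ↥(RG K m) => (g : GG K)) '' (F.CJ : Set ↥(RG K m)) ⊆ Set.range f := by
    rintro _ ⟨g, hg, rfl⟩
    rcases F.CJ_shape g.2 (F.mem_CJ.1 hg) with ⟨u, μ, e⟩ | ⟨u, u', μ, e⟩
    · exact ⟨Sum.inl (u, μ), e.symm⟩
    · exact ⟨Sum.inr (u, u', μ), e.symm⟩
  calc Nat.card ↥F.CJ = ((fun g : ↥(RG K m) => (g : GG K)) '' (F.CJ : Set ↥(RG K m))).ncard := by
        rw [Set.ncard_image_of_injective _ Subtype.val_injective]; exact Nat.card_coe_set_eq _
    _ ≤ (Set.range f).ncard := Set.ncard_le_ncard hsub (Set.finite_range f)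
    _ ≤ Nat.card (K × Kˣ ⊕ K × K × Kˣ) := by
        rw [← Nat.card_coe_set_eq]; exact Nat.card_le_card_of_surjective _ Set.rangeFactorization_surjective
    _ = _ := by
        rw [Nat.card_sum, Nat.card_prod, Nat.card_prod, Nat.card_prod, Nat.card_units, F.card_nat]
        set q := 3 ^ (2 * m + 1)
        rw [show q ^ 2 - 1 = (q + 1) * (q - 1) by rw [← Nat.sq_sub_sq, one_pow]]
        ring

/-- `SL₂(q) → G`. -/
noncomputable def slG : SL(2, K) →* ↥(RG K m) :=
  MonoidHom.codRestrict F.slHom _ F.slHom_mem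

theorem slG_eq_one_iff {g : SL(2, K)} : F.slG g = 1 ↔ g = 1 ∨ g = -1 := by
  rw [← F.slHom_eq_one_iff]
  exact ⟨fun h => congrArg Subtype.val h, fun h => Subtype.ext h⟩

theorem slG_ne_invG (g : SL(2, K)) : F.slG g ≠ F.invG := fun h => F.slHom_ne_invol g (congrArg Subtype.val h)

theorem slG_eq_iff {g h : SL(2, K)} : F.slG g = F.slG h ↔ g = h ∨ g = -h := by
  rw [← mul_inv_eq_one, ← map_inv, ← map_mul, slG_eq_one_iff, mul_inv_eq_one, mul_inv_eq_iff_eq_mul]
  rw [show (-1 : SL(2, K)) * h = -h from neg_one_mul h]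

theorem slG_mem_CJ (g : SL(2, K)) : F.slG g ∈ F.CJ := F.mem_CJ.2 (F.invol_commute_slHom g)

theorem invG_mem_CJ : F.invG ∈ F.CJ := F.mem_CJ.2 rfl

theorem invG_sq : F.invG * F.invG = 1 := Subtype.ext (invol_mul_invol m)

theorem invG_ne_one : F.invG ≠ 1 := fun h => F.invol_ne_one (congrArg Subtype.val h)

theorem center_le_ker : Subgroup.center SL(2, K) ≤ (F.slG.codRestrict F.CJ F.slG_mem_CJ).ker := by
  intro g hg
  exact Subtype.ext (F.slG_eq_one_iff.2 ((SL2.mem_center_iff_eq g).1 hg))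

/-- `PSL₂(q) → C(j)`. -/
noncomputable def pslC : Matrix.ProjectiveSpecialLinearGroup (Fin 2) K →* ↥F.CJ :=
  QuotientGroup.lift _ (F.slG.codRestrict F.CJ F.slG_mem_CJ) F.center_le_ker

theorem pslC_mk (g : SL(2, K)) : ((F.pslC (QuotientGroup.mk g) : ↥F.CJ) : ↥(RG K m)) = F.slG g := rfl

/-- The involution as a homomorphism on the group of order two. -/
noncomputable def invHom : Multiplicative (ZMod 2) →* ↥F.CJ :=
  MonoidHom.mk' (fun z => if Multiplicative.toAdd z = 0 then 1 else ⟨F.invG, F.invG_mem_CJ⟩) fun a b => by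
    have hsq : (⟨F.invG, F.invG_mem_CJ⟩ : ↥F.CJ) * ⟨F.invG, F.invG_mem_CJ⟩ = 1 := Subtype.ext F.invG_sq
    have two : ∀ x : ZMod 2, x = 0 ∨ x = 1 := by decide
    rw [toAdd_mul]
    rcases two (Multiplicative.toAdd a) with ha | ha <;> rcases two (Multiplicative.toAdd b) with hb | hb <;>
      simp [ha, hb, hsq, show (1 : ZMod 2) + 1 = 0 from rfl]

theorem invHom_commute (z : Multiplicative (ZMod 2)) (x : Matrix.ProjectiveSpecialLinearGroup (Fin 2) K) :
    Commute (F.invHom z) (F.pslC x) := by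
  induction x using QuotientGroup.induction_on with | _ g => ?_
  show Commute (if Multiplicative.toAdd z = 0 then (1 : ↥F.CJ) else ⟨F.invG, F.invG_mem_CJ⟩) _
  split_ifs
  · exact Commute.one_left _
  · exact Subtype.ext (Subgroup.mem_centralizer_singleton_iff.1 (F.slG_mem_CJ g)).symm

/-- The product homomorphism `Z₂ × PSL₂(q) → C(j)`. -/
noncomputable def prodHom : Multiplicative (ZMod 2) × Matrix.ProjectiveSpecialLinearGroup (Fin 2) K →* ↥F.CJ :=
  MonoidHom.noncommCoprod F.invHom F.pslC F.invHom_commute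

theorem prodHom_bijective : Function.Bijective F.prodHom := by
  classical
  let Φ := F.prodHom
  have hinj : Function.Injective Φ := by
    rw [injective_iff_map_eq_one]
    rintro ⟨z, x⟩ h
    induction x using QuotientGroup.induction_on with | _ g => ?_
    have h' : (if Multiplicative.toAdd z = 0 then (1 : ↥F.CJ) else ⟨F.invG, F.invG_mem_CJ⟩) *
        F.pslC (QuotientGroup.mk g) = 1 := h
    split_ifs at h' with hz
    · rw [one_mul] at h'
      have hg : g ∈ Subgroup.center SL(2, K) :=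
        (SL2.mem_center_iff_eq g).2 (F.slG_eq_one_iff.1 (congrArg Subtype.val h'))
      refine Prod.ext ?_ ((QuotientGroup.eq_one_iff g).2 hg)
      exact Multiplicative.toAdd.injective hz
    · have h2 : F.invG * F.slG g = 1 := congrArg Subtype.val h'
      refine absurd ?_ (F.slG_ne_invG g)
      rw [eq_inv_of_mul_eq_one_right h2]
      exact inv_eq_of_mul_eq_one_left F.invG_sq
  have hcard : Nat.card (Multiplicative (ZMod 2) × Matrix.ProjectiveSpecialLinearGroup (Fin 2) K) =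
      3 ^ (2 * m + 1) * ((3 ^ (2 * m + 1)) ^ 2 - 1) := by
    have h := Subgroup.card_eq_card_quotient_mul_card_subgroup (Subgroup.center SL(2, K))
    rw [SL2.card_SLtwo, SL2.card_center_odd F.two_ne_zero', F.card_field] at h
    rw [Nat.card_prod, h, Nat.card_congr (Multiplicative.toAdd), Nat.card_zmod, mul_comm]
  have hle : Nat.card ↥F.CJ ≤
      Nat.card (Multiplicative (ZMod 2) × Matrix.ProjectiveSpecialLinearGroup (Fin 2) K) := hcard ▸ F.card_CJ_le
  exact (Nat.bijective_iff_injective_and_card Φ).2 ⟨hinj, le_antisymm (Nat.card_le_card_of_injective Φ hinj) hle⟩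

/-- `Z₂ × PSL₂(q) ≅ C(j)`. -/
theorem centralizer_iso :
    Nonempty (↥F.CJ ≃* Multiplicative (ZMod 2) × Matrix.ProjectiveSpecialLinearGroup (Fin 2) K) :=
  ⟨(MulEquiv.ofBijective F.prodHom F.prodHom_bijective).symm⟩

/-- An element commuting with the involution is `ψ g` or `j ψ g`. -/
theorem CJ_decomp {x : ↥(RG K m)} (hx : x ∈ F.CJ) : ∃ g, x = F.slG g ∨ x = F.invG * F.slG g := by
  obtain ⟨⟨z, y⟩, e⟩ := F.prodHom_bijective.2 ⟨x, hx⟩
  induction y using QuotientGroup.induction_on with | _ g => ?_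
  refine ⟨g, ?_⟩
  have e' : (if Multiplicative.toAdd z = 0 then (1 : ↥F.CJ) else ⟨F.invG, F.invG_mem_CJ⟩) *
      F.pslC (QuotientGroup.mk g) = ⟨x, hx⟩ := e
  split_ifs at e' with hz
  · exact Or.inl (by rw [one_mul] at e'; exact (congrArg Subtype.val e').symm)
  · exact Or.inr (congrArg Subtype.val e').symm

/-- An involution of `H¹` is the element `h(-1)`. -/
theorem eq_invG {a : ↥(RG K m)} (haH : (a : GG K) ∈ chevG2.diagonalSubgroup K) (ha1 : a ≠ 1) (ha2 : a * a = 1) :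
    a = F.invG := by
  obtain ⟨μ, e⟩ := F.torus_shape (Subgroup.mem_inf.2 ⟨haH, a.2⟩)
  have h2 : μ * μ = 1 := F.hEl_injective (by
    rw [← hEl_mul, ← e, hEl_one]; exact congrArg Subtype.val ha2)
  rcases mul_self_eq_one_iff.1 (show (μ : K) * μ = 1 from congrArg Units.val h2) with h | h
  · exact absurd (Subtype.ext (by rw [e, show μ = 1 from Units.ext h, hEl_one]; rfl)) ha1
  · exact Subtype.ext (by rw [e, show μ = -1 from Units.ext h]; rfl)

end Facts

end Cfsg.Agent.Lib.Ree
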