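import Cfsg.Agent.Lib.Ree.Cell

/-!
The action of `²G₂(q)` on the cosets of `B¹`: joint stabilisers of three points.
-/

set_option autoImplicit false

namespace Cfsg.Agent.Lib.Ree

set_option maxHeartbeats 400000

open Cfsg.Lie Cfsg.Agent.Lib.Chev

variable {K : Type*} [Field K]

/-- The ambient group `²G₂`. -/
abbrev RG (K : Type*) [Field K] (m : ℕ) : Subgroup (GG K) := twistedG2 K (3 ^ m)

/-- `B¹` inside the group. -/
abbrev RB (K : Type*) [Field K] (m : ℕ) : Subgroup ↥(RG K m) :=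
  (chevG2.borelSubgroup K ⊓ twistedG2 K (3 ^ m)).subgroupOf (twistedG2 K (3 ^ m))

theorem mem_RB {m : ℕ} {g : ↥(RG K m)} : g ∈ RB K m ↔ (g : GG K) ∈ chevG2.borelSubgroup K :=
  ⟨fun h => (Subgroup.mem_inf.1 (Subgroup.mem_subgroupOf.1 h)).1,
    fun h => Subgroup.mem_subgroupOf.2 (Subgroup.mem_inf.2 ⟨h, g.2⟩)⟩

/-- The element of `U¹` with the given parameters, in the group. -/
noncomputable def uG (m : ℕ) (t u v : K) : ↥(RG K m) := ⟨uWord (3 ^ m) t u v, uWord_mem _ _ _ _⟩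

namespace Facts

variable [Fintype K] {m : ℕ} (F : Facts K m)
include F

/-- The element of the group given by a parameter of the torus. -/
noncomputable def torG (μ : Kˣ) : ↥(RG K m) := ⟨hEl (3 ^ m) μ, (Subgroup.mem_inf.1 (F.hEl_mem μ)).2⟩

/-- The representative of the longest element in the group. -/
noncomputable def longG : ↥(RG K m) := ⟨F.longEl, F.longEl_mem⟩

/-- The involution in the group. -/
noncomputable def invG : ↥(RG K m) := ⟨invol K m, F.invol_mem_G⟩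


theorem uG_mem_RB (t u v : K) : uG m t u v ∈ RB K m :=
  mem_RB.2 (Subgroup.mem_sup_left (uWord_mem_pos _ _ _ _))

theorem uWord_mem_U1 (t u v : K) : uWord (3 ^ m) t u v ∈ U1 K (3 ^ m) := (F.unip _).2 ⟨_, _, _, rfl⟩

theorem RB_split {g : ↥(RG K m)} (hg : g ∈ RB K m) : ∃ t u v : K, ∃ μ : Kˣ, g = uG m t u v * F.torG μ := by
  obtain ⟨a, ha, h, hh, e⟩ := F.borel_split _ (Subgroup.mem_inf.2 ⟨mem_RB.1 hg, g.2⟩)
  obtain ⟨t, u, v, rfl⟩ := (F.unip _).1 ha
  obtain ⟨μ, rfl⟩ := F.torus_shape hh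
  exact ⟨t, u, v, μ, Subtype.ext e⟩

/-- A point other than the base point is `u n B`. -/
theorem point_form {g : ↥(RG K m)} (hg : g ∉ RB K m) :
    ∃ t u v : K, (g : ↥(RG K m) ⧸ RB K m) = ((uG m t u v * F.longG : ↥(RG K m)) : ↥(RG K m) ⧸ RB K m) := by
  rcases F.cover g.2 with ⟨a, ha, h, hh, e⟩ | ⟨a, ha, h, hh, b, hb, e⟩
  · exact absurd (mem_RB.2 (e ▸ mul_mem (F.U1_le_borel ha) (F.H1_le_borel hh))) hg
  · obtain ⟨t, u, v, rfl⟩ := (F.unip _).1 ha
    refine ⟨t, u, v, QuotientGroup.eq.2 ?_⟩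
    rw [mem_RB]
    have : ((g⁻¹ * (uG m t u v * F.longG) : ↥(RG K m)) : GG K) = b⁻¹ * h⁻¹ := by
      simp only [Subgroup.coe_mul, InvMemClass.coe_inv, e, uG, longG]
      group
    rw [this]
    exact mul_mem (inv_mem (F.U1_le_borel hb)) (inv_mem (F.H1_le_borel hh))

/-- The stabiliser of the two base points is the torus. -/
theorem two_point {g : ↥(RG K m)} (h1 : g ∈ RB K m)
    (h2 : g • ((F.longG : ↥(RG K m)) : ↥(RG K m) ⧸ RB K m) = (F.longG : ↥(RG K m) ⧸ RB K m)) :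
    ∃ μ : Kˣ, g = F.torG μ := by
  obtain ⟨t, u, v, μ, rfl⟩ := F.RB_split h1
  refine ⟨μ, ?_⟩
  rw [MulAction.Quotient.smul_coe, smul_eq_mul, eq_comm, QuotientGroup.eq] at h2
  obtain ⟨t', u', v', ν, e⟩ := F.RB_split h2
  have e' : ((uG m t u v * F.torG μ * F.longG : ↥(RG K m)) : GG K) =
      ((F.longG * (uG m t' u' v' * F.torG ν) : ↥(RG K m)) : GG K) := by
    rw [← e, mul_inv_cancel_left]
  simp only [Subgroup.coe_mul, uG, torG, longG] at e'
  have hm := (Subgroup.mem_inf.1 (F.hEl_mem μ)).1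
  have hn := (Subgroup.mem_inf.1 (F.hEl_mem ν)).1
  have e2 : uWord (3 ^ m) t u v * F.longEl * (hEl (3 ^ m) μ)⁻¹ * 1 =
      1 * F.longEl * hEl (3 ^ m) ν * ((hEl (3 ^ m) ν)⁻¹ * uWord (3 ^ m) t' u' v' * hEl (3 ^ m) ν) := by
    rw [mul_one, one_mul, mul_assoc (uWord (3 ^ m) t u v), F.longEl_mul_diag (inv_mem hm), inv_inv, ← mul_assoc, e']
    group
  have hv' : (hEl (3 ^ m) ν)⁻¹ * uWord (3 ^ m) t' u' v' * hEl (3 ^ m) ν ∈ U1 K (3 ^ m) := by
    refine Subgroup.mem_inf.2 ⟨?_, mul_mem (mul_mem (inv_mem (Subgroup.mem_inf.1 (F.hEl_mem ν)).2) (uWord_mem _ _ _ _))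
      (Subgroup.mem_inf.1 (F.hEl_mem ν)).2⟩
    simpa using (Subgroup.mem_normalizer_iff.1 (inv_mem (rooted_G2.diagonal_le_normalizer_posUnipotent hn)) _).1
      (uWord_mem_pos (3 ^ m) t' u' v')
  obtain ⟨ea, -, -⟩ := F.cell_unique (F.uWord_mem_U1 t u v) (one_mem _) (inv_mem (F.hEl_mem μ)) (F.hEl_mem ν)
    (one_mem _) hv' e2
  refine Subtype.ext ?_
  rw [Subgroup.coe_mul]
  show uWord (3 ^ m) t u v * _ = _
  rw [ea, one_mul]

/-- When a torus element fixes a third point `u n B`, it commutes with `u`. -/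
theorem third_point (μ : Kˣ) (t u v : K) :
    F.torG μ • ((uG m t u v * F.longG : ↥(RG K m)) : ↥(RG K m) ⧸ RB K m) =
        ((uG m t u v * F.longG : ↥(RG K m)) : ↥(RG K m) ⧸ RB K m) ↔
      hEl (3 ^ m) μ * uWord (3 ^ m) t u v = uWord (3 ^ m) t u v * hEl (3 ^ m) μ := by
  have hm := (Subgroup.mem_inf.1 (F.hEl_mem μ)).1
  rw [MulAction.Quotient.smul_coe, smul_eq_mul, QuotientGroup.eq, mem_RB]
  simp only [Subgroup.coe_mul, InvMemClass.coe_inv, uG, torG, longG]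
  set n := F.longEl
  set a := uWord (3 ^ m) t u v
  set h := hEl (3 ^ m) μ
  constructor
  · intro hb
    obtain ⟨c, hc, k, hk, e⟩ := F.borel_split _ (Subgroup.mem_inf.2
      ⟨hb, mul_mem (inv_mem (mul_mem (Subgroup.mem_inf.1 (F.hEl_mem μ)).2 (mul_mem (uWord_mem _ _ _ _) F.longEl_mem)))
        (mul_mem (uWord_mem _ _ _ _) F.longEl_mem)⟩)
    have e1 : a * n = h * a * n * (c * k) := by
      rw [← e]; group
    have hconj : h * a * h⁻¹ ∈ U1 K (3 ^ m) := Subgroup.mem_inf.2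
      ⟨(Subgroup.mem_normalizer_iff.1 (rooted_G2.diagonal_le_normalizer_posUnipotent hm) _).1 (uWord_mem_pos _ _ _ _),
        mul_mem (mul_mem (Subgroup.mem_inf.1 (F.hEl_mem μ)).2 (uWord_mem _ _ _ _))
          (inv_mem (Subgroup.mem_inf.1 (F.hEl_mem μ)).2)⟩
    have hk' := (Subgroup.mem_inf.1 hk).1
    have hv : k⁻¹ * c * k ∈ U1 K (3 ^ m) := by
      refine Subgroup.mem_inf.2 ⟨?_, mul_mem (mul_mem (inv_mem (Subgroup.mem_inf.1 hk).2) (Subgroup.mem_inf.1 hc).2)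
        (Subgroup.mem_inf.1 hk).2⟩
      simpa using (Subgroup.mem_normalizer_iff.1 (inv_mem (rooted_G2.diagonal_le_normalizer_posUnipotent hk')) _).1
        (Subgroup.mem_inf.1 hc).1
    have hnh : n * h⁻¹ = h * n := by rw [F.longEl_mul_diag (inv_mem hm), inv_inv]
    have e2 : a * n * 1 * 1 = h * a * h⁻¹ * n * (h⁻¹ * k) * (k⁻¹ * c * k) := by
      rw [mul_one, mul_one, e1, mul_assoc (h * a * h⁻¹), ← mul_assoc n, hnh]
      group
    obtain ⟨ea, -, -⟩ := F.cell_unique (F.uWord_mem_U1 t u v) hconj (one_mem _)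
      (mul_mem (inv_mem (F.hEl_mem μ)) hk) (one_mem _) hv e2
    exact (eq_mul_inv_iff_mul_eq.1 ea).symm
  · intro hc
    have hnh : n⁻¹ * h⁻¹ * n = h := by
      calc n⁻¹ * h⁻¹ * n = n⁻¹ * (n * h * n⁻¹) * n := by rw [F.longEl_conj_diag hm]
        _ = h := by group
    have : (h * (a * n))⁻¹ * (a * n) = h := by
      calc (h * (a * n))⁻¹ * (a * n) = n⁻¹ * ((h * a)⁻¹ * a) * n := by group
        _ = n⁻¹ * ((a * h)⁻¹ * a) * n := by rw [hc]
        _ = n⁻¹ * h⁻¹ * n := by group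
        _ = h := hnh
    rw [this]
    exact F.H1_le_borel (F.hEl_mem μ)

/-- The joint stabiliser of the standard triple. -/
theorem triple_le (t u v : K) (hne : uWord (3 ^ m) t u v ≠ 1) :
    Nat.card ↥(MulAction.stabilizer ↥(RG K m) ((1 : ↥(RG K m)) : ↥(RG K m) ⧸ RB K m) ⊓
      MulAction.stabilizer ↥(RG K m) ((F.longG : ↥(RG K m)) : ↥(RG K m) ⧸ RB K m) ⊓
      MulAction.stabilizer ↥(RG K m) ((uG m t u v * F.longG : ↥(RG K m)) : ↥(RG K m) ⧸ RB K m)) ≤ 2 := by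
  set S := MulAction.stabilizer ↥(RG K m) ((1 : ↥(RG K m)) : ↥(RG K m) ⧸ RB K m) ⊓
      MulAction.stabilizer ↥(RG K m) ((F.longG : ↥(RG K m)) : ↥(RG K m) ⧸ RB K m) ⊓
      MulAction.stabilizer ↥(RG K m) ((uG m t u v * F.longG : ↥(RG K m)) : ↥(RG K m) ⧸ RB K m) with hS
  have hsub : (S : Set ↥(RG K m)) ⊆ {1, F.invG} := by
    intro g hg
    simp only [hS, SetLike.mem_coe, Subgroup.mem_inf, MulAction.mem_stabilizer_iff] at hg
    obtain ⟨⟨h1, h2⟩, h3⟩ := hg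
    have hgB : g ∈ RB K m := by
      rwa [MulAction.Quotient.smul_coe, smul_eq_mul, mul_one, eq_comm, QuotientGroup.eq, inv_one, one_mul] at h1
    obtain ⟨μ, rfl⟩ := F.two_point hgB h2
    rcases F.fix_cases hne ((F.third_point μ t u v).1 h3) with rfl | ⟨rfl, -, -⟩
    · exact Or.inl (Subtype.ext (hEl_one _))
    · exact Or.inr rfl
  calc Nat.card ↥S = (S : Set ↥(RG K m)).ncard := Nat.card_coe_set_eq _
    _ ≤ ({1, F.invG} : Set ↥(RG K m)).ncard := Set.ncard_le_ncard hsub (Set.toFinite _)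
    _ ≤ 2 := (Set.ncard_insert_le _ _).trans (by simp)

/-- Joint stabilisers of three points have order at most two. -/
theorem three_le (x y z : ↥(RG K m) ⧸ RB K m) (hxy : x ≠ y) (hxz : x ≠ z) (hyz : y ≠ z) :
    Nat.card ↥(MulAction.stabilizer ↥(RG K m) x ⊓ MulAction.stabilizer ↥(RG K m) y ⊓
      MulAction.stabilizer ↥(RG K m) z) ≤ 2 := by
  have key : ∀ (g : ↥(RG K m)) (x y z : ↥(RG K m) ⧸ RB K m),
      Nat.card ↥(MulAction.stabilizer ↥(RG K m) (g • x) ⊓ MulAction.stabilizer ↥(RG K m) (g • y) ⊓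
        MulAction.stabilizer ↥(RG K m) (g • z)) =
      Nat.card ↥(MulAction.stabilizer ↥(RG K m) x ⊓ MulAction.stabilizer ↥(RG K m) y ⊓
        MulAction.stabilizer ↥(RG K m) z) := by
    intro g x y z
    rw [MulAction.stabilizer_smul_eq_stabilizer_map_conj, MulAction.stabilizer_smul_eq_stabilizer_map_conj,
      MulAction.stabilizer_smul_eq_stabilizer_map_conj]
    rw [← Subgroup.map_inf _ _ _ (MulAut.conj g).injective, ← Subgroup.map_inf _ _ _ (MulAut.conj g).injective]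
    exact Subgroup.card_map_of_injective (MulAut.conj g).injective
  obtain ⟨a, rfl⟩ := QuotientGroup.mk_surjective x
  obtain ⟨b, hb⟩ := QuotientGroup.mk_surjective (a⁻¹ • y)
  have hbB : b ∉ RB K m := by
    intro hb'
    apply hxy
    have e : (b : ↥(RG K m) ⧸ RB K m) = ((1 : ↥(RG K m)) : ↥(RG K m) ⧸ RB K m) :=
      QuotientGroup.eq.2 (by rw [mul_one]; exact inv_mem hb')
    rw [e, eq_inv_smul_iff] at hb
    rw [← hb, MulAction.Quotient.smul_coe, smul_eq_mul, mul_one]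
  obtain ⟨t, u, v, e⟩ := F.point_form hbB
  set w := uG m t u v with hw
  have hy : y = (a * w) • ((F.longG : ↥(RG K m)) : ↥(RG K m) ⧸ RB K m) := by
    rw [mul_smul, MulAction.Quotient.smul_coe, smul_eq_mul, ← e, hb, smul_inv_smul]
  have hx : ((a : ↥(RG K m)) : ↥(RG K m) ⧸ RB K m) = (a * w) • ((1 : ↥(RG K m)) : ↥(RG K m) ⧸ RB K m) := by
    rw [MulAction.Quotient.smul_coe, smul_eq_mul, mul_one, QuotientGroup.eq, ← mul_assoc, inv_mul_cancel, one_mul]
    exact F.uG_mem_RB t u v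
  obtain ⟨c, hc⟩ := QuotientGroup.mk_surjective ((a * w)⁻¹ • z)
  have hz : z = (a * w) • (c : ↥(RG K m) ⧸ RB K m) := by rw [hc, smul_inv_smul]
  rw [hx, hy, hz, key]
  have hcB : c ∉ RB K m := by
    intro hc'
    apply hxz
    have e' : (c : ↥(RG K m) ⧸ RB K m) = ((1 : ↥(RG K m)) : ↥(RG K m) ⧸ RB K m) :=
      QuotientGroup.eq.2 (by rw [mul_one]; exact inv_mem hc')
    rw [hx, hz, e']
  obtain ⟨t', u', v', e'⟩ := F.point_form hcB
  rw [e']
  refine F.triple_le t' u' v' fun h1 => hyz ?_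
  have h1' : uG m t' u' v' = 1 := Subtype.ext h1
  rw [hy, hz, e', h1', one_mul]

/-- A triple with stabiliser of order two. -/
theorem exists_three_eq :
    ∃ x y z : ↥(RG K m) ⧸ RB K m, x ≠ y ∧ x ≠ z ∧ y ≠ z ∧
      Nat.card ↥(MulAction.stabilizer ↥(RG K m) x ⊓ MulAction.stabilizer ↥(RG K m) y ⊓
        MulAction.stabilizer ↥(RG K m) z) = 2 := by
  have hn : F.longG ∉ RB K m := fun h => F.longEl_notMem_borel (mem_RB.1 h)
  have hn' : uG m 0 1 0 * F.longG ∉ RB K m := fun h => hn (by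
    simpa using mul_mem (inv_mem (F.uG_mem_RB 0 1 0)) h)
  have hne : uWord (3 ^ m) (0 : K) 1 0 ≠ 1 := fun h => one_ne_zero (F.uWord_eq_one h).2.1
  refine ⟨((1 : ↥(RG K m)) : ↥(RG K m) ⧸ RB K m), F.longG, (uG m 0 1 0 * F.longG : ↥(RG K m)), ?_, ?_, ?_,
    le_antisymm (F.triple_le 0 1 0 hne) ?_⟩
  · exact fun h => hn (by simpa using QuotientGroup.eq.1 h)
  · exact fun h => hn' (by simpa using QuotientGroup.eq.1 h)
  · intro h
    have hb := QuotientGroup.eq.1 h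
    rw [mem_RB] at hb
    simp only [Subgroup.coe_mul, InvMemClass.coe_inv, uG, longG, ← mul_assoc] at hb
    obtain ⟨c, hc, k, hk, e⟩ := F.borel_split _ (Subgroup.mem_inf.2
      ⟨hb, mul_mem (mul_mem (inv_mem F.longEl_mem) (uWord_mem _ _ _ _)) F.longEl_mem⟩)
    have e1 : uWord (3 ^ m) (0 : K) 1 0 = F.longEl * c * F.longEl⁻¹ * k⁻¹ := by
      have h2 : uWord (3 ^ m) (0 : K) 1 0 = F.longEl * (c * k) * F.longEl⁻¹ := by rw [← e]; group
      rw [h2, ← F.longEl_conj_diag (Subgroup.mem_inf.1 hk).1]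
      group
    have h3 := rooted_G2.borel_inf_negBorel.le (Subgroup.mem_inf.2
      ⟨Subgroup.mem_sup_left (uWord_mem_pos (3 ^ m) (0 : K) 1 0), e1.symm ▸ mul_mem
        (Subgroup.mem_sup_left (F.longEl_conj_pos (Subgroup.mem_inf.1 hc).1))
        (Subgroup.mem_sup_right (inv_mem (Subgroup.mem_inf.1 hk).1))⟩)
    exact hne (Subgroup.mem_bot.1 (rooted_G2.posUnipotent_inf_diagonal.le
      (Subgroup.mem_inf.2 ⟨uWord_mem_pos _ _ _ _, h3⟩)))
  · have hmem : ∀ x : ↥(RG K m) ⧸ RB K m, F.invG • x = x → F.invG ∈ MulAction.stabilizer ↥(RG K m) x :=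
      fun x hx => hx
    have hj : F.invG = F.torG (-1) := rfl
    have hB : F.invG ∈ RB K m := mem_RB.2 (F.H1_le_borel F.invol_mem)
    have h1 : F.invG • ((1 : ↥(RG K m)) : ↥(RG K m) ⧸ RB K m) = ((1 : ↥(RG K m)) : ↥(RG K m) ⧸ RB K m) := by
      rw [MulAction.Quotient.smul_coe, smul_eq_mul, mul_one, QuotientGroup.eq, mul_one]
      exact inv_mem hB
    have h2 : F.invG • ((F.longG : ↥(RG K m)) : ↥(RG K m) ⧸ RB K m) = (F.longG : ↥(RG K m) ⧸ RB K m) := by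
      rw [MulAction.Quotient.smul_coe, smul_eq_mul, QuotientGroup.eq, mem_RB]
      simp only [Subgroup.coe_mul, InvMemClass.coe_inv, invG, longG, mul_inv_rev, invol_inv]
      have hd := F.longEl_conj_diag (Subgroup.mem_inf.1 F.invol_mem).1
      rw [invol_inv] at hd
      have : F.longEl⁻¹ * invol K m * F.longEl = invol K m := by
        nth_rw 1 [← hd]; group
      rw [this]
      exact F.H1_le_borel F.invol_mem
    have h3 := (F.third_point (-1) 0 1 0).2 ((F.invol_commute_uWord_iff 0 1 0).2 ⟨rfl, rfl⟩)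
    rw [← hj] at h3
    have hle : Subgroup.zpowers F.invG ≤ MulAction.stabilizer ↥(RG K m) ((1 : ↥(RG K m)) : ↥(RG K m) ⧸ RB K m) ⊓
        MulAction.stabilizer ↥(RG K m) ((F.longG : ↥(RG K m)) : ↥(RG K m) ⧸ RB K m) ⊓
        MulAction.stabilizer ↥(RG K m) ((uG m 0 1 0 * F.longG : ↥(RG K m)) : ↥(RG K m) ⧸ RB K m) :=
      Subgroup.zpowers_le.2 (Subgroup.mem_inf.2 ⟨Subgroup.mem_inf.2 ⟨hmem _ h1, hmem _ h2⟩, hmem _ h3⟩)
    refine le_trans (le_of_eq ?_) (Nat.card_le_card_of_injective _ (Subgroup.inclusion_injective hle))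
    rw [Nat.card_zpowers, orderOf_eq_prime (p := 2) (by rw [pow_two]; exact Subtype.ext (invol_mul_invol m))
      fun h => F.invol_ne_one (congrArg Subtype.val h)]

end Facts

end Cfsg.Agent.Lib.Ree
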