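import Cfsg.Agent.Lib.Ree.SylowTwo

/-!
The centraliser and the normaliser of a Sylow 2-subgroup of `²G₂(q)`.
-/

set_option autoImplicit false

namespace Cfsg.Agent.Lib.Ree

set_option maxHeartbeats 400000

open Cfsg.Lie Cfsg.Agent.Lib.Chev
open scoped MatrixGroups Pointwise

variable {K : Type*} [Field K] [Fintype K] {m : ℕ}

omit [Fintype K] in
/-- Elements commuting up to sign with `weyl` and `mElt` lie in the quaternion group they generate. -/
theorem quat_cases (h3 : (3 : K) = 0) {g : SL(2, K)} {s t : K} (hs : s = 1 ∨ s = -1) (ht : t = 1 ∨ t = -1)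
    (hw : ((g * SL2.weyl : SL(2, K)) : Matrix (Fin 2) (Fin 2) K) = s • ((SL2.weyl * g : SL(2, K)) : Matrix (Fin 2) (Fin 2) K))
    (hM : ((g * mElt h3 : SL(2, K)) : Matrix (Fin 2) (Fin 2) K) = t • ((mElt h3 * g : SL(2, K)) : Matrix (Fin 2) (Fin 2) K)) :
    (g = 1 ∨ g = -1) ∨ (g = SL2.weyl ∨ g = -SL2.weyl) ∨ (g = mElt h3 ∨ g = -mElt h3) ∨
      (g = SL2.weyl * mElt h3 ∨ g = -(SL2.weyl * mElt h3)) := by
  obtain ⟨m00, m01, m10, m11⟩ := mElt_entries h3
  have h2 : (2 : K) ≠ 0 := fun h => one_ne_zero (α := K) (by linear_combination h3 - h)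
  have hd := SL2.det_entries g
  have a0 := congrFun (congrFun hw 0) 0
  have a1 := congrFun (congrFun hw 0) 1
  have b0 := congrFun (congrFun hM 0) 0
  have b1 := congrFun (congrFun hM 0) 1
  simp only [Matrix.smul_apply, smul_eq_mul, SL2.mul_00, SL2.mul_01, SL2.weyl_00, SL2.weyl_01, SL2.weyl_10,
    SL2.weyl_11, m00, m01, m10, m11, mul_zero, mul_one, zero_mul, one_mul, add_zero, zero_add] at a0 a1 b0 b1
  set a := g 0 0
  set b := g 0 1
  set c := g 1 0
  set d := g 1 1
  have hz : ∀ x : K, 2 * x = 0 → x = 0 := fun x hx => (mul_eq_zero.1 hx).resolve_left h2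
  have hu : ∀ x : K, x * x = 1 → x = 1 ∨ x = -1 := fun x hx => mul_self_eq_one_iff.1 hx
  have fin : ∀ k : SL(2, K), ∀ x : K, (x = 1 ∨ x = -1) → a = x * k 0 0 → b = x * k 0 1 → c = x * k 1 0 →
      d = x * k 1 1 → g = k ∨ g = -k := by
    intro k x hx ha hb hc hd'
    rcases hx with rfl | rfl
    · exact Or.inl (SL2.ext_entries (by simpa using ha) (by simpa using hb) (by simpa using hc) (by simpa using hd'))
    · refine Or.inr (SL2.ext_entries ?_ ?_ ?_ ?_) <;> simp only [Matrix.SpecialLinearGroup.coe_neg, Matrix.neg_apply]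
      · simpa using ha
      · simpa using hb
      · simpa using hc
      · simpa using hd'
  rcases hs with rfl | rfl <;> rcases ht with rfl | rfl <;> simp only [one_mul, neg_one_mul] at a0 a1 b0 b1
  · have hb : b = 0 := hz b (by linear_combination b0 - a0)
    have hc : c = 0 := by linear_combination -a0 - hb
    have hda : d = a := by linear_combination -a1
    refine Or.inl (fin 1 a (hu a ?_) (by simp) (by simp [hb]) (by simp [hc]) (by simp [hda]))
    rw [hb, hc, hda] at hd; linear_combination hd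
  · have ha : a = 0 := hz a (by linear_combination b0 + a0)
    have hd0 : d = 0 := by linear_combination -a1 + ha
    have hc : c = -b := by linear_combination -a0
    refine Or.inr (Or.inl (fin SL2.weyl b (hu b ?_) (by simp [ha]) (by simp) (by simp [hc]) (by simp [hd0])))
    rw [ha, hd0, hc] at hd; linear_combination hd
  · have hc : c = b := by linear_combination a0
    have hda : d = -a := by linear_combination a1
    have hab : b = a := hz (b - a) (by linear_combination -b1 - hda) |> sub_eq_zero.1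
    refine Or.inr (Or.inr (Or.inl (fin (mElt h3) a (hu a ?_) (by simp [m00]) (by simp [m01, hab])
      (by simp [m10, hc, hab]) (by simp [m11, hda]))))
    rw [hc, hab, hda] at hd; linear_combination hd + (a * a) * h3
  · have hc : c = b := by linear_combination a0
    have hda : d = -a := by linear_combination a1
    have hab : b = -a := hz (b + a) (by linear_combination b0 - hc) |> eq_neg_of_add_eq_zero_left
    refine Or.inr (Or.inr (Or.inr (fin (SL2.weyl * mElt h3) a (hu a ?_) ?_ ?_ ?_ ?_)))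
    · rw [hc, hab, hda] at hd; linear_combination hd + (a * a) * h3
    all_goals simp [SL2.mul_00, SL2.mul_01, SL2.mul_10, SL2.mul_11, m00, m01, m10, m11, hc, hab, hda]

namespace Facts

variable (F : Facts K m)
include F

/-- An element of `SL₂` whose image commutes with the images of `weyl` and `mElt` gives an element of the
four-group. -/
theorem fourGrp_of_commute {g : SL(2, K)} (hw : F.slG g * F.wG = F.wG * F.slG g)
    (hM : F.slG g * F.mG = F.mG * F.slG g) : F.slG g ∈ F.fourGrp := by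
  rw [wG, ← map_mul, ← map_mul, F.slG_eq_iff] at hw
  rw [mG, ← map_mul, ← map_mul, F.slG_eq_iff] at hM
  have key : ∀ {x y : SL(2, K)}, x = y ∨ x = -y →
      ∃ s : K, (s = 1 ∨ s = -1) ∧ (x : Matrix (Fin 2) (Fin 2) K) = s • (y : Matrix (Fin 2) (Fin 2) K) := by
    rintro x y (rfl | rfl)
    · exact ⟨1, Or.inl rfl, (one_smul _ _).symm⟩
    · exact ⟨-1, Or.inr rfl, by simp⟩
  obtain ⟨s, hs, es⟩ := key hw
  obtain ⟨t, ht, et⟩ := key hM
  rw [F.mem_fourGrp]
  rcases quat_cases F.three_eq_zero hs ht es et with h | h | h | h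
  · exact Or.inl (F.slG_eq_one_iff.2 h)
  · exact Or.inr (Or.inl (F.slG_eq_iff.2 h))
  · exact Or.inr (Or.inr (Or.inl (F.slG_eq_iff.2 h)))
  · exact Or.inr (Or.inr (Or.inr ((F.slG_eq_iff.2 h).trans (map_mul _ _ _))))

theorem invG_mem_two8 : F.invG ∈ F.two8 := Or.inr (by rw [F.invG_sq]; exact one_mem _)

theorem fourGrp_le_two8 : F.fourGrp ≤ F.two8 := fun _ hx => Or.inl hx

/-- `C(S) = S`. -/
theorem centralizer_two8 : Subgroup.centralizer (F.two8 : Set ↥(RG K m)) = F.two8 := by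
  refine le_antisymm (fun x hx => ?_) fun x hx => ?_
  · have hc : ∀ y ∈ F.two8, y * x = x * y := Subgroup.mem_centralizer_iff.1 hx
    obtain ⟨g, e⟩ := F.CJ_decomp (Subgroup.mem_centralizer_singleton_iff.2 (hc _ F.invG_mem_two8).symm)
    have hg : ∀ y ∈ F.fourGrp, F.slG g * y = y * F.slG g := by
      intro y hy
      rcases e with rfl | rfl
      · exact (hc y (F.fourGrp_le_two8 hy)).symm
      · have h1 := (hc y (F.fourGrp_le_two8 hy)).symm
        rw [← mul_assoc y, ← F.invG_commute_range (F.fourGrp_le_range hy), mul_assoc, mul_assoc] at h1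
        exact mul_left_cancel h1
    have h4 := F.fourGrp_of_commute (hg _ (F.mem_fourGrp.2 (Or.inr (Or.inl rfl))))
      (hg _ (F.mem_fourGrp.2 (Or.inr (Or.inr (Or.inl rfl)))))
    rcases e with rfl | rfl
    · exact Or.inl h4
    · exact Or.inr (by rw [← mul_assoc, F.invG_sq, one_mul]; exact h4)
  · rw [Subgroup.mem_centralizer_iff]
    intro y hy
    have h1 := F.two8_exp (mul_mem hy hx)
    calc y * x = y * x * ((y * x) * (y * x))⁻¹ := by rw [h1, inv_one, mul_one]
      _ = (x⁻¹ * y⁻¹) := by group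
      _ = x * y := by rw [inv_eq_of_mul_eq_one_left (F.two8_exp hx), inv_eq_of_mul_eq_one_left (F.two8_exp hy)]

/-- The element of order three. -/
noncomputable def tG : ↥(RG K m) := F.slG (SL2.upper 1)

theorem tG_conj : F.tG * F.wG * F.tG⁻¹ = F.mG ∧ F.tG * F.mG * F.tG⁻¹ = F.wG * F.mG := by
  have h3 := F.three_eq_zero
  obtain ⟨a, b, c, d⟩ := mElt_entries h3
  refine ⟨?_, ?_⟩
  · rw [tG, wG, mG, ← map_inv, ← map_mul, ← map_mul, F.slG_eq_iff]
    refine Or.inr (SL2.ext_entries ?_ ?_ ?_ ?_) <;>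
      simp [SL2.mul_00, SL2.mul_01, SL2.mul_10, SL2.mul_11, SL2.upper_inv, Matrix.mul_apply, Fin.sum_univ_two, a, b,
        c, d] <;>
      first | linear_combination h3 | linear_combination -h3 | linear_combination (2 : K) * h3 | linear_combination -(2 : K) * h3
  · rw [tG, wG, mG, ← map_inv, ← map_mul, ← map_mul, ← map_mul, F.slG_eq_iff]
    refine Or.inr (SL2.ext_entries ?_ ?_ ?_ ?_) <;>
      simp [SL2.mul_00, SL2.mul_01, SL2.mul_10, SL2.mul_11, SL2.upper_inv, Matrix.mul_apply, Fin.sum_univ_two, a, b,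
        c, d] <;>
      first | linear_combination h3 | linear_combination -h3 | linear_combination (2 : K) * h3 | linear_combination -(2 : K) * h3

theorem tG_pow_three : F.tG ^ 3 = 1 := by
  rw [tG, ← map_pow, SL2.upper_pow, Nat.cast_ofNat, mul_one, F.three_eq_zero, SL2.upper_zero, map_one]

theorem tG_notMem_two8 : F.tG ∉ F.two8 := by
  intro h
  have h2 := F.two8_exp h
  have h3 := F.tG_pow_three
  rw [pow_succ, pow_two, h2, one_mul] at h3
  rcases F.slG_eq_one_iff.1 h3 with e | e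
  · exact one_ne_zero (α := K) (by simpa using congrArg (fun g : SL(2, K) => g 0 1) e)
  · exact F.two_ne_zero' (by have := congrArg (fun g : SL(2, K) => g 0 0) e; simp at this; linear_combination this)

/-- Some involution commuting with `j` and different from it is conjugate to it. -/
theorem exists_conj_invG : ∃ g : ↥(RG K m), g * F.invG * g⁻¹ ≠ F.invG ∧
    g * F.invG * g⁻¹ ∈ F.CJ := by
  set P : ↥(RG K m) ⧸ RB K m := ((uG m (1 : K) 0 0 * F.longG : ↥(RG K m)) : ↥(RG K m) ⧸ RB K m) with hP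
  have hmove : F.invG • P ≠ P := by
    intro h
    have h' : F.torG (-1) • P = P := h
    have := (F.invol_commute_uWord_iff 1 0 0).1 ((F.third_point (-1) 1 0 0).1 h')
    exact one_ne_zero this.1
  obtain ⟨p, hp⟩ := QuotientGroup.mk_surjective P
  obtain ⟨b, hb⟩ := QuotientGroup.mk_surjective (p⁻¹ • F.invG • P)
  have hbB : b ∉ RB K m := by
    intro hb'
    apply hmove
    have e : (b : ↥(RG K m) ⧸ RB K m) = ((1 : ↥(RG K m)) : ↥(RG K m) ⧸ RB K m) :=
      QuotientGroup.eq.2 (by rw [mul_one]; exact inv_mem hb')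
    rw [e, eq_inv_smul_iff, MulAction.Quotient.smul_coe, smul_eq_mul, mul_one, hp] at hb
    exact hb.symm
  obtain ⟨t, u, v, e⟩ := F.point_form hbB
  set g := p * uG m t u v with hg
  have hgP : P = g • ((1 : ↥(RG K m)) : ↥(RG K m) ⧸ RB K m) := by
    rw [MulAction.Quotient.smul_coe, smul_eq_mul, mul_one, ← hp, QuotientGroup.eq, hg, ← mul_assoc, inv_mul_cancel,
      one_mul]
    exact F.uG_mem_RB t u v
  have hgQ : F.invG • P = g • ((F.longG : ↥(RG K m)) : ↥(RG K m) ⧸ RB K m) := by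
    rw [hg, mul_smul, MulAction.Quotient.smul_coe (RB K m) (uG m t u v), smul_eq_mul, ← e, hb, smul_inv_smul]
  have hB : F.invG ∈ RB K m := mem_RB.2 (F.H1_le_borel F.invol_mem)
  have hbase : F.invG • ((1 : ↥(RG K m)) : ↥(RG K m) ⧸ RB K m) = ((1 : ↥(RG K m)) : ↥(RG K m) ⧸ RB K m) := by
    rw [MulAction.Quotient.smul_coe, smul_eq_mul, mul_one, QuotientGroup.eq, mul_one]
    exact inv_mem hB
  have hlong : F.invG • ((F.longG : ↥(RG K m)) : ↥(RG K m) ⧸ RB K m) = (F.longG : ↥(RG K m) ⧸ RB K m) := by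
    rw [MulAction.Quotient.smul_coe, smul_eq_mul,
      show F.invG * F.longG = F.longG * F.invG from Subtype.ext (by
        show invol K m * F.longEl = F.longEl * invol K m
        rw [F.longEl_mul_diag (Subgroup.mem_inf.1 F.invol_mem).1, invol_inv]),
      QuotientGroup.eq, mul_inv_rev, mul_assoc, inv_mul_cancel, mul_one]
    exact inv_mem hB
  set k := g * F.invG * g⁻¹ with hk
  have hkP : k • P = P := by rw [hgP, hk, mul_smul, mul_smul, inv_smul_smul, hbase]
  have hkQ : k • F.invG • P = F.invG • P := by rw [hgQ, hk, mul_smul, mul_smul, inv_smul_smul, hlong]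
  refine ⟨g, fun h => hmove (by rw [← h]; exact hkP), ?_⟩
  set k' := F.invG * k * F.invG with hk'
  have hjj : ∀ x : ↥(RG K m) ⧸ RB K m, F.invG • F.invG • x = x := fun x => by
    rw [← mul_smul, F.invG_sq, one_smul]
  have h1 : k' • P = P := by rw [hk', mul_smul, mul_smul, hkQ, hjj]
  have h2 : k' • F.invG • P = F.invG • P := by rw [hk', mul_smul, mul_smul, hjj, hkP]
  have h3 : (g⁻¹ * k' * g) • ((1 : ↥(RG K m)) : ↥(RG K m) ⧸ RB K m) = ((1 : ↥(RG K m)) : ↥(RG K m) ⧸ RB K m) := by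
    rw [mul_smul, mul_smul, ← hgP, h1, hgP, inv_smul_smul]
  have h4 : (g⁻¹ * k' * g) • ((F.longG : ↥(RG K m)) : ↥(RG K m) ⧸ RB K m) = (F.longG : ↥(RG K m) ⧸ RB K m) := by
    rw [mul_smul, mul_smul, ← hgQ, h2, hgQ, inv_smul_smul]
  have h5 : g⁻¹ * k' * g ∈ RB K m := by
    rwa [MulAction.Quotient.smul_coe, smul_eq_mul, mul_one, eq_comm, QuotientGroup.eq, inv_one, one_mul] at h3
  obtain ⟨μ, eμ⟩ := F.two_point h5 h4
  have hsq : g⁻¹ * k' * g * (g⁻¹ * k' * g) = 1 := by
    rw [hk', hk, show g⁻¹ * (F.invG * (g * F.invG * g⁻¹) * F.invG) * g *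
        (g⁻¹ * (F.invG * (g * F.invG * g⁻¹) * F.invG) * g) =
      g⁻¹ * F.invG * g * F.invG * g⁻¹ * (F.invG * F.invG) * g * F.invG * g⁻¹ * F.invG * g by group, F.invG_sq,
      show g⁻¹ * F.invG * g * F.invG * g⁻¹ * 1 * g * F.invG * g⁻¹ * F.invG * g =
        g⁻¹ * F.invG * g * (F.invG * F.invG) * g⁻¹ * F.invG * g by group, F.invG_sq,
      show g⁻¹ * F.invG * g * 1 * g⁻¹ * F.invG * g = g⁻¹ * (F.invG * F.invG) * g by group, F.invG_sq]
    group
  have hne : g⁻¹ * k' * g ≠ 1 := by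
    intro h
    have hk1 : F.invG * k * F.invG = 1 := by
      rw [← hk', show k' = g * (g⁻¹ * k' * g) * g⁻¹ by group, h]; group
    have hk2 : k = 1 := by
      calc k = F.invG * F.invG * k * (F.invG * F.invG) := by rw [F.invG_sq, one_mul, mul_one]
        _ = F.invG * (F.invG * k * F.invG) * F.invG := by group
        _ = 1 := by rw [hk1, mul_one, F.invG_sq]
    exact F.invG_ne_one (conj_eq_one_iff.1 hk2)
  have hfin := F.eq_invG (a := g⁻¹ * k' * g)
    (by rw [eμ]; exact (Subgroup.mem_inf.1 (F.hEl_mem μ)).1) hne hsq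
  have hkk : k' = k := by rw [show k' = g * (g⁻¹ * k' * g) * g⁻¹ by group, hfin]
  rw [Subgroup.mem_centralizer_singleton_iff]
  calc k * F.invG = F.invG * F.invG * k * F.invG := by rw [F.invG_sq, one_mul]
    _ = F.invG * k' := by rw [hk']; group
    _ = F.invG * k := by rw [hkk]

/-- The involution is moved by the normaliser of the Sylow subgroup. -/
theorem exists_normalizer_moves [Fact (Nat.Prime 2)] :
    ∃ n ∈ Subgroup.normalizer (F.two8 : Set ↥(RG K m)), n * F.invG * n⁻¹ ≠ F.invG := by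
  classical
  obtain ⟨g, hne, hg⟩ := F.exists_conj_invG
  set j' := g * F.invG * g⁻¹ with hj'
  have hsq : j' * j' = 1 := by rw [hj', show g * F.invG * g⁻¹ * (g * F.invG * g⁻¹) = g * (F.invG * F.invG) * g⁻¹ by group, F.invG_sq]; group
  have hcomm : j' * F.invG = F.invG * j' := Subgroup.mem_centralizer_singleton_iff.1 hg
  have hjj : F.invG * j' * (F.invG * j') = 1 := by
    rw [mul_assoc, ← mul_assoc j', hcomm, mul_assoc F.invG j', hsq, mul_one, F.invG_sq]
  let V : Subgroup ↥(RG K m) :=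
    { carrier := {x | x = 1 ∨ x = F.invG ∨ x = j' ∨ x = F.invG * j'}
      one_mem' := Or.inl rfl
      mul_mem' := by
        have h1 : ∀ x, F.invG * (F.invG * x) = x := fun x => by rw [← mul_assoc, F.invG_sq, one_mul]
        have h2 : ∀ x, j' * (j' * x) = x := fun x => by rw [← mul_assoc, hsq, one_mul]
        have h3 : ∀ x, j' * (F.invG * x) = F.invG * (j' * x) := fun x => by rw [← mul_assoc, hcomm, mul_assoc]
        intro a b ha hb
        simp only [Set.mem_setOf_eq] at ha hb ⊢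
        rcases ha with rfl | rfl | rfl | rfl <;> rcases hb with rfl | rfl | rfl | rfl <;>
          simp [mul_assoc, h1, h2, h3, F.invG_sq, hsq, hcomm]
      inv_mem' := by
        intro a ha
        simp only [Set.mem_setOf_eq] at ha ⊢
        rcases ha with rfl | rfl | rfl | rfl
        · simp
        · exact Or.inr (Or.inl (inv_eq_of_mul_eq_one_left F.invG_sq))
        · exact Or.inr (Or.inr (Or.inl (inv_eq_of_mul_eq_one_left hsq)))
        · exact Or.inr (Or.inr (Or.inr (inv_eq_of_mul_eq_one_left hjj))) }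
  have hV : IsPGroup 2 ↥V := fun x => ⟨1, Subtype.ext (by
    have hexp : ∀ y ∈ V, y * y = 1 := by
      rintro y (rfl | rfl | rfl | rfl)
      exacts [one_mul 1, F.invG_sq, hsq, hjj]
    simpa [pow_two] using hexp x x.2)⟩
  obtain ⟨Q, hQ⟩ := hV.exists_le_sylow
  obtain ⟨c, hc⟩ := MulAction.exists_smul_eq ↥(RG K m) F.sylowTwo Q
  have hmem : ∀ x ∈ V, c⁻¹ * x * c ∈ F.two8 := by
    intro x hx
    have h : x ∈ (c • F.sylowTwo : Sylow 2 ↥(RG K m)).toSubgroup := hc ▸ hQ hx
    rwa [Sylow.coe_subgroup_smul, Subgroup.mem_pointwise_smul_iff_inv_smul_mem, ← map_inv, MulAut.smul_def,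
      MulAut.conj_apply, inv_inv] at h
  obtain ⟨d, hd, hdne⟩ : ∃ d, d⁻¹ * F.invG * d ∈ F.two8 ∧ d⁻¹ * F.invG * d ≠ F.invG := by
    by_cases h : c⁻¹ * F.invG * c = F.invG
    · have e : (g⁻¹ * c)⁻¹ * F.invG * (g⁻¹ * c) = c⁻¹ * j' * c := by rw [hj']; group
      refine ⟨g⁻¹ * c, e ▸ hmem j' (Or.inr (Or.inr (Or.inl rfl))), fun h' => hne ?_⟩
      rw [e] at h'
      exact mul_left_cancel (mul_right_cancel (h'.trans h.symm))
    · exact ⟨c, hmem _ (Or.inr (Or.inl rfl)), h⟩
  have hcen : ∀ x ∈ F.two8, x ∈ Subgroup.centralizer ((F.sylowTwo : Sylow 2 ↥(RG K m)) : Set ↥(RG K m)) :=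
    fun x hx => by
      show x ∈ Subgroup.centralizer (F.two8 : Set ↥(RG K m))
      rw [F.centralizer_two8]; exact hx
  obtain ⟨n, hn, e⟩ := F.sylowTwo.conj_eq_normalizer_conj_of_mem_centralizer F.invG d (hcen _ F.invG_mem_two8)
    (hcen _ hd)
  exact ⟨n⁻¹, inv_mem hn, by rw [inv_inv, ← e]; exact hdne⟩

theorem mem_normalizer_of_conj {x : ↥(RG K m)} (h : ∀ y ∈ F.two8, x * y * x⁻¹ ∈ F.two8) :
    x ∈ Subgroup.normalizer (F.two8 : Set ↥(RG K m)) := by
  have hle : F.two8.map (MulAut.conj x).toMonoidHom ≤ F.two8 := by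
    rintro _ ⟨y, hy, rfl⟩; exact h y hy
  have heq : F.two8.map (MulAut.conj x).toMonoidHom = F.two8 :=
    Subgroup.eq_of_le_of_card_ge hle (by rw [Subgroup.card_map_of_injective (MulAut.conj x).injective])
  rw [Subgroup.mem_normalizer_iff]
  refine fun y => ⟨h y, fun hy => ?_⟩
  rw [← heq] at hy
  obtain ⟨z, hz, e⟩ := hy
  rwa [← (MulAut.conj x).injective e]

theorem tG_normalizes : F.tG ∈ Subgroup.normalizer (F.two8 : Set ↥(RG K m)) := by
  obtain ⟨h1, h2⟩ := F.tG_conj
  have h3 : F.tG * (F.wG * F.mG) * F.tG⁻¹ = F.wG := by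
    rw [show F.tG * (F.wG * F.mG) * F.tG⁻¹ = F.tG * F.wG * F.tG⁻¹ * (F.tG * F.mG * F.tG⁻¹) by group, h1, h2,
      ← mul_assoc, F.mG_wG, mul_assoc, F.mG_sq, mul_one]
  have h4 : ∀ y ∈ F.fourGrp, F.tG * y * F.tG⁻¹ ∈ F.fourGrp := by
    intro y hy
    rcases F.mem_fourGrp.1 hy with rfl | rfl | rfl | rfl
    · simp
    · rw [h1]; exact F.mem_fourGrp.2 (Or.inr (Or.inr (Or.inl rfl)))
    · rw [h2]; exact F.mem_fourGrp.2 (Or.inr (Or.inr (Or.inr rfl)))
    · rw [h3]; exact F.mem_fourGrp.2 (Or.inr (Or.inl rfl))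
  refine F.mem_normalizer_of_conj fun y hy => ?_
  rcases hy with hy | hy
  · exact Or.inl (h4 y hy)
  · refine Or.inr ?_
    have hc : F.invG * F.tG = F.tG * F.invG := F.invG_commute_range ⟨_, rfl⟩
    rw [← mul_assoc, ← mul_assoc, hc, mul_assoc F.tG]
    exact h4 _ hy

/-- The element of order three fixes only `1` and the involution in the Sylow subgroup. -/
theorem tG_fix {x : ↥(RG K m)} (hx : x ∈ F.two8) (h : F.tG * x * F.tG⁻¹ = x) : x = 1 ∨ x = F.invG := by
  obtain ⟨h1, h2⟩ := F.tG_conj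
  have hfour : ∀ y ∈ F.fourGrp, F.tG * y * F.tG⁻¹ = y → y = 1 := by
    intro y hy he
    rcases F.mem_fourGrp.1 hy with rfl | rfl | rfl | rfl
    · rfl
    · exact absurd (he.symm.trans h1) F.wG_ne_mG
    · exact absurd (mul_eq_right.1 (h2.symm.trans he)) F.wG_ne_one
    · rw [show F.tG * (F.wG * F.mG) * F.tG⁻¹ = F.tG * F.wG * F.tG⁻¹ * (F.tG * F.mG * F.tG⁻¹) by group, h1, h2,
        ← mul_assoc, F.mG_wG, mul_assoc, F.mG_sq, mul_one] at he
      exact absurd (mul_eq_left.1 he.symm) F.mG_ne_one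
  rcases hx with hx | hx
  · exact Or.inl (hfour x hx h)
  · refine Or.inr ?_
    have htc : F.tG * F.invG * F.tG⁻¹ = F.invG := by
      rw [show F.tG * F.invG = F.invG * F.tG from (F.invG_commute_range ⟨_, rfl⟩).symm, mul_inv_cancel_right]
    have h' := hfour _ hx (by
      rw [show F.tG * (F.invG * x) * F.tG⁻¹ = F.tG * F.invG * F.tG⁻¹ * (F.tG * x * F.tG⁻¹) by group, h, htc])
    rw [eq_inv_of_mul_eq_one_right h', inv_eq_of_mul_eq_one_left F.invG_sq]

theorem card_normalizer_two8 [Fact (Nat.Prime 2)] :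
    Nat.card ↥(Subgroup.normalizer (F.two8 : Set ↥(RG K m))) = 168 := by
  classical
  set N := Subgroup.normalizer (F.two8 : Set ↥(RG K m)) with hN
  letI : MulAction ↥N ↥(RG K m) :=
    MulAction.compHom ↥(RG K m) ((MulAut.conj (G := ↥(RG K m))).comp N.subtype)
  have hsmul : ∀ (n : ↥N) (x : ↥(RG K m)), n • x = (n : ↥(RG K m)) * x * (n : ↥(RG K m))⁻¹ := fun _ _ => rfl
  have h2N : F.two8 ≤ N := Subgroup.le_normalizer
  have htc : F.tG * F.invG * F.tG⁻¹ = F.invG := by
    rw [show F.tG * F.invG = F.invG * F.tG from (F.invG_commute_range ⟨_, rfl⟩).symm, mul_inv_cancel_right]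
  -- the stabiliser
  set St := MulAction.stabilizer ↥N F.invG with hSt
  have hstmem : ∀ n : ↥N, n ∈ St ↔ (n : ↥(RG K m)) ∈ F.CJ := fun n => by
    rw [hSt, MulAction.mem_stabilizer_iff, hsmul, mul_inv_eq_iff_eq_mul, Subgroup.mem_centralizer_singleton_iff]
  have hjc : ∀ x ∈ F.two8, x ∈ F.CJ := fun x hx => Subgroup.mem_centralizer_singleton_iff.2 (by
    have h1 : x ∈ Subgroup.centralizer (F.two8 : Set ↥(RG K m)) := F.centralizer_two8.symm ▸ hx
    exact (Subgroup.mem_centralizer_iff.1 h1 _ F.invG_mem_two8).symm)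
  have h8 : 8 ∣ Nat.card ↥St := by
    let f : ↥F.two8 →* ↥St :=
      { toFun := fun x => ⟨⟨x, h2N x.2⟩, (hstmem _).2 (hjc x x.2)⟩
        map_one' := rfl
        map_mul' := fun _ _ => rfl }
    exact F.card_two8 ▸ Subgroup.card_dvd_of_injective f fun a b h =>
      Subtype.ext (congrArg (fun z : ↥St => ((z : ↥N) : ↥(RG K m))) h)
  have h3 : 3 ∣ Nat.card ↥St := by
    have ht : (⟨F.tG, F.tG_normalizes⟩ : ↥N) ∈ St :=
      (hstmem _).2 (Subgroup.mem_centralizer_singleton_iff.2 (F.invG_commute_range ⟨_, rfl⟩).symm)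
    have ho : orderOf (⟨⟨F.tG, F.tG_normalizes⟩, ht⟩ : ↥St) = 3 := by
      have : Fact (Nat.Prime 3) := ⟨Nat.prime_three⟩
      refine orderOf_eq_prime (Subtype.ext (Subtype.ext F.tG_pow_three)) fun h => F.tG_notMem_two8 ?_
      have : F.tG = 1 := congrArg (fun z : ↥St => ((z : ↥N) : ↥(RG K m))) h
      rw [this]; exact one_mem _
    exact ho ▸ orderOf_dvd_natCard _
  -- the orbit
  have horb : ∀ x, x ∈ MulAction.orbit ↥N F.invG → x ∈ F.two8 ∧ x ≠ 1 := by
    rintro _ ⟨n, rfl⟩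
    refine ⟨(Subgroup.mem_normalizer_iff.1 n.2 _).1 F.invG_mem_two8, fun h => F.invG_ne_one ?_⟩
    exact conj_eq_one_iff.1 (show (n : ↥(RG K m)) * F.invG * (n : ↥(RG K m))⁻¹ = 1 from h)
  obtain ⟨h1, h2⟩ := F.tG_conj
  have ht : ∀ x, x ∈ MulAction.orbit ↥N F.invG → F.tG * x * F.tG⁻¹ ∈ MulAction.orbit ↥N F.invG := fun x hx =>
    MulAction.orbit_eq_iff.2 hx ▸ MulAction.mem_orbit x (⟨F.tG, F.tG_normalizes⟩ : ↥N)
  have h4 : 4 ≤ Nat.card (MulAction.orbit ↥N F.invG) := by
    obtain ⟨n, hn, hne⟩ := F.exists_normalizer_moves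
    set x := n * F.invG * n⁻¹ with hx
    have hxo : x ∈ MulAction.orbit ↥N F.invG := ⟨⟨n, hn⟩, rfl⟩
    obtain ⟨hx8, hx1⟩ := horb x hxo
    -- a triangle moved by the element of order three
    have tri : ∀ y : ↥(RG K m), y ∈ F.fourGrp → y ≠ 1 → (y = F.wG ∨ y = F.mG ∨ y = F.wG * F.mG) := fun y hy h =>
      (F.mem_fourGrp.1 hy).resolve_left h
    have hsub : ∃ a b c : ↥(RG K m), a ∈ MulAction.orbit ↥N F.invG ∧ b ∈ MulAction.orbit ↥N F.invG ∧
        c ∈ MulAction.orbit ↥N F.invG ∧ a ≠ b ∧ a ≠ c ∧ b ≠ c ∧ a ≠ F.invG ∧ b ≠ F.invG ∧ c ≠ F.invG := by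
      have ha : F.tG * x * F.tG⁻¹ ≠ x := fun h => (F.tG_fix hx8 h).elim hx1 hne
      have h3t : F.tG * (F.tG * (F.tG * x * F.tG⁻¹) * F.tG⁻¹) * F.tG⁻¹ = x := by
        calc F.tG * (F.tG * (F.tG * x * F.tG⁻¹) * F.tG⁻¹) * F.tG⁻¹ = F.tG ^ 3 * x * (F.tG ^ 3)⁻¹ := by rw [pow_succ, pow_two]; group
          _ = x := by rw [F.tG_pow_three]; group
      have hfix : ∀ y, F.tG * y * F.tG⁻¹ = F.invG → y = F.invG := fun y e =>
        mul_left_cancel (mul_right_cancel (e.trans htc.symm))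
      refine ⟨x, F.tG * x * F.tG⁻¹, F.tG * (F.tG * x * F.tG⁻¹) * F.tG⁻¹, hxo, ht _ hxo, ht _ (ht _ hxo), ha.symm,
        fun e => ha ?_, fun e => ha (mul_left_cancel (mul_right_cancel e)).symm, hne, fun e => hne (hfix x e),
        fun e => hne (hfix x (hfix _ e))⟩
      calc F.tG * x * F.tG⁻¹ = F.tG * (F.tG * (F.tG * x * F.tG⁻¹) * F.tG⁻¹) * F.tG⁻¹ := by rw [← e]
        _ = x := h3t
    obtain ⟨a, b, c, ha, hb, hc, hab, hac, hbc, haj, hbj, hcj⟩ := hsub
    have hs : ({a, b, c, F.invG} : Set ↥(RG K m)) ⊆ MulAction.orbit ↥N F.invG := by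
      simp [Set.insert_subset_iff, ha, hb, hc, MulAction.mem_orbit_self]
    rw [Nat.card_coe_set_eq]
    refine le_trans (le_of_eq ?_) (Set.ncard_le_ncard hs (Set.toFinite _))
    rw [Set.ncard_insert_of_notMem (by simp [hab, hac, haj]) (Set.toFinite _),
      Set.ncard_insert_of_notMem (by simp [hbc, hbj]) (Set.toFinite _), Set.ncard_pair hcj]
  have h7 : Nat.card (MulAction.orbit ↥N F.invG) ≤ 7 := by
    rw [Nat.card_coe_set_eq]
    have hs : MulAction.orbit ↥N F.invG ⊆ (F.two8 : Set ↥(RG K m)) \ {1} := fun x hx => ⟨(horb x hx).1, (horb x hx).2⟩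
    refine (Set.ncard_le_ncard hs (Set.toFinite _)).trans (le_of_eq ?_)
    rw [Set.ncard_sdiff_singleton_of_mem (one_mem F.two8), ← Nat.card_coe_set_eq, SetLike.coe_sort_coe, F.card_two8]
  -- the stabiliser is small
  have hle : Nat.card ↥St ≤ 48 := by
    have himg : ∀ n : ↥St, ∀ y ∈ F.fourGrp, ((n : ↥N) : ↥(RG K m)) * y * ((n : ↥N) : ↥(RG K m))⁻¹ ∈ F.fourGrp := by
      intro n y hy
      have hn8 := (Subgroup.mem_normalizer_iff.1 n.1.2 y).1 (F.fourGrp_le_two8 hy)
      refine hn8.resolve_right fun h => F.invG_notMem_range ?_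
      obtain ⟨g, e⟩ := F.CJ_decomp ((hstmem n.1).1 n.2)
      have hr : ((n : ↥N) : ↥(RG K m)) * y * ((n : ↥N) : ↥(RG K m))⁻¹ ∈ F.slG.range := by
        rcases e with e | e <;> rw [e]
        · exact mul_mem (mul_mem ⟨g, rfl⟩ (F.fourGrp_le_range hy)) (inv_mem ⟨g, rfl⟩)
        · rw [show F.invG * F.slG g * y * (F.invG * F.slG g)⁻¹ = F.invG * (F.slG g * y * (F.slG g)⁻¹) * F.invG⁻¹ by
            group, F.invG_commute_range (mul_mem (mul_mem ⟨g, rfl⟩ (F.fourGrp_le_range hy)) (inv_mem ⟨g, rfl⟩)),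
            mul_inv_cancel_right]
          exact mul_mem (mul_mem ⟨g, rfl⟩ (F.fourGrp_le_range hy)) (inv_mem ⟨g, rfl⟩)
      exact (Subgroup.mul_mem_cancel_right _ hr).1 (F.fourGrp_le_range h)
    let S3 : Finset ↥(RG K m) := {F.wG, F.mG, F.wG * F.mG}
    have hS3 : ∀ n : ↥St, ∀ y ∈ F.fourGrp, y ≠ 1 →
        ((n : ↥N) : ↥(RG K m)) * y * ((n : ↥N) : ↥(RG K m))⁻¹ ∈ S3 := fun n y hy hy1 => by
      simpa [S3] using (F.mem_fourGrp.1 (himg n y hy)).resolve_left fun e => hy1 (conj_eq_one_iff.1 e)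
    let K0 : Finset (↥(RG K m) × ↥(RG K m)) := (S3 ×ˢ S3).filter fun p => p.1 ≠ p.2
    let img : ↥St → ↥(RG K m) × ↥(RG K m) := fun n =>
      (((n : ↥N) : ↥(RG K m)) * F.wG * ((n : ↥N) : ↥(RG K m))⁻¹,
        ((n : ↥N) : ↥(RG K m)) * F.mG * ((n : ↥N) : ↥(RG K m))⁻¹)
    have hwf : F.wG ∈ F.fourGrp := F.mem_fourGrp.2 (Or.inr (Or.inl rfl))
    have hmf : F.mG ∈ F.fourGrp := F.mem_fourGrp.2 (Or.inr (Or.inr (Or.inl rfl)))
    have hK0 : K0.card = 6 := by
      have hS3c : S3.card = 3 := by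
        rw [Finset.card_insert_of_notMem, Finset.card_pair]
        · exact fun h => F.wG_ne_one (mul_eq_right.1 h.symm)
        · simp only [Finset.mem_insert, Finset.mem_singleton, not_or]
          exact ⟨F.wG_ne_mG, fun h => F.mG_ne_one (mul_eq_left.1 h.symm)⟩
      have : K0 = S3.offDiag := by ext ⟨a, b⟩; simp [K0, Finset.mem_offDiag, and_assoc]
      rw [this, Finset.offDiag_card, hS3c]
    let _ : Fintype ↥St := Fintype.ofFinite _
    rw [Nat.card_eq_fintype_card, ← Finset.card_univ]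
    refine (Finset.card_le_mul_card_image (f := img) Finset.univ 8 fun z hz => ?_).trans
      (Nat.mul_le_mul_left 8 ((Finset.card_le_card ?_).trans hK0.le))
    · obtain ⟨n0, -, hn0⟩ := Finset.mem_image.1 hz
      have hinj : ∀ n : ↥St, img n = z → ((n0⁻¹ * n : ↥St) : ↥N).1 ∈ F.two8 := by
        intro n hn
        set a := ((n0 : ↥N) : ↥(RG K m)) with ha
        set b := ((n : ↥N) : ↥(RG K m)) with hb
        obtain ⟨e1, e2⟩ := Prod.ext_iff.1 (hn.trans hn0.symm)
        show a⁻¹ * b ∈ F.two8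
        have key : ∀ y, b * y * b⁻¹ = a * y * a⁻¹ → y * (a⁻¹ * b) = a⁻¹ * b * y := fun y e => by
          calc y * (a⁻¹ * b) = a⁻¹ * (a * y * a⁻¹) * b := by group
            _ = a⁻¹ * (b * y * b⁻¹) * b := by rw [e]
            _ = a⁻¹ * b * y := by group
        have kw := key _ e1
        have km := key _ e2
        have hj : F.invG * (a⁻¹ * b) = a⁻¹ * b * F.invG :=
          (Subgroup.mem_centralizer_singleton_iff.1
            (mul_mem (inv_mem ((hstmem n0.1).1 n0.2)) ((hstmem n.1).1 n.2))).symm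
        refine F.centralizer_two8.le (Subgroup.mem_centralizer_iff.2 fun y hy => ?_)
        have h4 : ∀ y ∈ F.fourGrp, y * (a⁻¹ * b) = a⁻¹ * b * y := fun y hy => by
          rcases F.mem_fourGrp.1 hy with rfl | rfl | rfl | rfl
          · simp
          · exact kw
          · exact km
          · rw [mul_assoc F.wG, km, ← mul_assoc F.wG, kw, mul_assoc]
        rcases hy with hy | hy
        · exact h4 y hy
        · have e := h4 _ hy
          rw [mul_assoc, ← mul_assoc (a⁻¹ * b), ← hj, mul_assoc F.invG (a⁻¹ * b)] at e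
          exact mul_left_cancel e
      calc _ ≤ (Finset.univ : Finset ↥St).card ⊓ (F.two8 : Set ↥(RG K m)).ncard := ?_
        _ ≤ 8 := by rw [← Nat.card_coe_set_eq, SetLike.coe_sort_coe, F.card_two8]; exact inf_le_right
      refine le_inf (Finset.card_le_univ _) ?_
      rw [← Set.ncard_coe_finset]
      refine Set.ncard_le_ncard_of_injOn (fun n : ↥St => ((n0⁻¹ * n : ↥St) : ↥N).1)
        (fun n hn => hinj n (Finset.mem_filter.1 hn).2) ?_ (Set.toFinite _)
      exact fun x _ y _ e => mul_left_cancel (Subtype.ext (Subtype.ext e))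
    · intro z hz
      obtain ⟨n, -, rfl⟩ := Finset.mem_image.1 hz
      refine Finset.mem_filter.2 ⟨Finset.mem_product.2
        ⟨hS3 n _ hwf F.wG_ne_one, hS3 n _ hmf F.mG_ne_one⟩, fun e => F.wG_ne_mG ?_⟩
      exact mul_left_cancel (mul_right_cancel e)
  have hcard : Nat.card ↥N = Nat.card (MulAction.orbit ↥N F.invG) * Nat.card ↥St := by
    rw [Subgroup.card_eq_card_quotient_mul_card_subgroup St,
      Nat.card_congr (MulAction.orbitEquivQuotientStabilizer ↥N F.invG)]
  have hv : ¬ 16 ∣ Nat.card ↥N := fun h => by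
    have h' : 2 ^ 4 ∣ Nat.card ↥(RG K m) := dvd_trans h N.card_subgroup_dvd_card
    have := (Nat.prime_two.pow_dvd_iff_le_factorization Nat.card_pos.ne').1 h'
    rw [F.factorization_two] at this
    omega
  obtain ⟨d, hd⟩ := Nat.Coprime.mul_dvd_of_dvd_of_dvd (by norm_num) h8 h3
  rw [hcard] at hv ⊢
  have hd0 : 0 < Nat.card ↥St := Nat.card_pos
  have : d = 1 ∨ d = 2 := by omega
  have hmod : Nat.card (MulAction.orbit ↥N F.invG) % 3 = 1 := by
    set tN : ↥N := ⟨F.tG, F.tG_normalizes⟩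
    have : Fact (Nat.Prime 3) := ⟨Nat.prime_three⟩
    have hP : IsPGroup 3 ↥(Subgroup.zpowers tN) := IsPGroup.of_card (n := 1) (by
      rw [Nat.card_zpowers, pow_one]
      refine orderOf_eq_prime (Subtype.ext F.tG_pow_three) fun h => F.tG_notMem_two8 ?_
      rw [show F.tG = 1 from congrArg Subtype.val h]; exact one_mem _)
    have hmod := hP.card_modEq_card_fixedPoints ↑(MulAction.orbit ↥N F.invG)
    have hfix : MulAction.fixedPoints ↥(Subgroup.zpowers tN) ↑(MulAction.orbit ↥N F.invG) =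
        {⟨F.invG, MulAction.mem_orbit_self _⟩} := by
      refine Set.ext fun y => ⟨fun hy => ?_, ?_⟩
      · obtain ⟨y8, y1⟩ := horb _ y.2
        have e : F.tG * (y : ↥(RG K m)) * F.tG⁻¹ = y := congrArg Subtype.val (hy ⟨tN, Subgroup.mem_zpowers _⟩)
        exact Subtype.ext ((F.tG_fix y8 e).resolve_left y1)
      · rintro rfl ⟨g, hg⟩
        refine Subtype.ext ?_
        show g • F.invG = F.invG
        exact MulAction.mem_stabilizer_iff.1 (Subgroup.zpowers_le.2 (show tN ∈ MulAction.stabilizer ↥N F.invG from htc) hg)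
    rw [hfix] at hmod
    have h1 : Nat.card ({⟨F.invG, MulAction.mem_orbit_self _⟩} : Set ↑(MulAction.orbit ↥N F.invG)) = 1 := by
      rw [Nat.card_coe_set_eq, Set.ncard_singleton]
    rw [h1] at hmod
    exact hmod
  rcases this with rfl | rfl
  · generalize Nat.card (MulAction.orbit ↥N F.invG) = o at *
    rw [hd] at hv ⊢
    interval_cases o <;> first | (norm_num; done) | (norm_num at hv; done) | omega
  · exact absurd (Dvd.dvd.mul_left ⟨3, hd.trans (by norm_num)⟩ _) hv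

end Facts

end Cfsg.Agent.Lib.Ree

namespace Cfsg.Agent.Lib.Ree

open scoped Pointwise

variable {K : Type*} [Field K] [Fintype K] {m : ℕ}

/-- Centraliser and normaliser of any conjugate of the standard Sylow 2-subgroup. -/
theorem sylow_two_transfer [Fact (Nat.Prime 2)] (F : Facts K m) (g : ↥(RG K m)) :
    Subgroup.centralizer (((g • F.sylowTwo : Sylow 2 ↥(RG K m)) : Subgroup ↥(RG K m)) : Set ↥(RG K m)) =
        ((g • F.sylowTwo : Sylow 2 ↥(RG K m)) : Subgroup ↥(RG K m)) ∧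
      Nat.card ↥(Subgroup.normalizer
        (((g • F.sylowTwo : Sylow 2 ↥(RG K m)) : Subgroup ↥(RG K m)) : Set ↥(RG K m))) = 168 := by
  have e : ((g • F.sylowTwo : Sylow 2 ↥(RG K m)) : Subgroup ↥(RG K m)) = F.two8.map (MulAut.conj g).toMonoidHom := by
    rw [Sylow.coe_subgroup_smul]; rfl
  rw [e]
  constructor
  · conv_rhs => rw [← F.centralizer_two8]
    ext x
    rw [Subgroup.mem_centralizer_iff, Subgroup.mem_map]
    constructor
    · intro hx
      refine ⟨g⁻¹ * x * g, Subgroup.mem_centralizer_iff.2 fun y hy => ?_, by simp [mul_assoc]⟩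
      have := hx (g * y * g⁻¹) ⟨y, hy, rfl⟩
      calc y * (g⁻¹ * x * g) = g⁻¹ * (g * y * g⁻¹ * x) * g := by group
        _ = g⁻¹ * (x * (g * y * g⁻¹)) * g := by rw [this]
        _ = g⁻¹ * x * g * y := by group
    · rintro ⟨z, hz, rfl⟩ _ ⟨y, hy, rfl⟩
      simp only [MulEquiv.coe_toMonoidHom, ← map_mul]
      rw [Subgroup.mem_centralizer_iff.1 hz y hy]
  · rw [← F.card_normalizer_two8, show Subgroup.normalizer ((F.two8.map (MulAut.conj g).toMonoidHom : Subgroup ↥(RG K m)) : Set ↥(RG K m)) =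
      (Subgroup.normalizer (F.two8 : Set ↥(RG K m))).map (MulAut.conj g).toMonoidHom from
        (Subgroup.map_equiv_normalizer_eq F.two8 (MulAut.conj g)).symm,
      Subgroup.card_map_of_injective (MulAut.conj g).injective]

end Cfsg.Agent.Lib.Ree
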