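import Cfsg.Agent.Lib.Ree.UnipLayers
import Cfsg.Agent.Lib.Ree.Normalizer
import Cfsg.Agent.Lib.Ree.SylowThree
import Cfsg.Agent.Lib.Schur.Sylow
import Cfsg.Agent.Lib.Twisted.IsoG2
import Cfsg.Agent.Lib.Twisted.Ree.G2
import Cfsg.Agent.Lib.ElementOrders.Singer

/-!
The Schur multiplier of the small Ree groups is trivial.
-/

set_option autoImplicit false

namespace Cfsg.Agent.Lib.Ree

open Cfsg.Lie Cfsg.Agent.Lib.Chev Cfsg.Agent.Lib.Schur.LayerKill
open scoped commutatorElement Pointwise MatrixGroups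

variable {K : Type*} [Field K] [Fintype K] {m : ℕ}

namespace Facts

variable (F : Facts K m)
include F

section Three

variable {Γ : Type*} [Group Γ] {σ : Γ →* ↥(RG K m)}

theorem uG_conj_torG (μ : Kˣ) (t u v : K) : F.torG μ * uG m t u v * (F.torG μ)⁻¹ =
    uG m ((μ : K) * t) ((μ : K) ^ (3 * 3 ^ m + 1) * u) ((μ : K) ^ (3 * 3 ^ m + 2) * v) :=
  Subtype.ext (F.hEl_conj_uWord μ t u v)

theorem uG_mem_RU_mult (t u v : K) : uG m t u v ∈ F.RU := F.mem_RU.2 (F.uWord_mem_U1 t u v)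

theorem exists_uG_mult {g : ↥(RG K m)} (hg : g ∈ F.RU) : ∃ t u v, g = uG m t u v := by
  obtain ⟨t, u, v, e⟩ := (F.unip _).1 (F.mem_RU.1 hg)
  exact ⟨t, u, v, Subtype.ext e⟩

theorem uG_zero_add (u v u' v' : K) : uG m 0 u v * uG m 0 u' v' = uG m 0 (u + u') (v + v') :=
  Subtype.ext (F.uWord_zero_add u v u' v')

theorem uG_zero_zero : uG m (0 : K) 0 0 = 1 := Subtype.ext F.uWord_zero

theorem uG_eq_one {t u v : K} (h : uG m t u v = 1) : t = 0 ∧ u = 0 ∧ v = 0 :=
  F.uWord_eq_one (congrArg Subtype.val h)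

theorem conj_RU (μ : Kˣ) {g : ↥(RG K m)} (hg : g ∈ F.RU) : F.torG μ * g * (F.torG μ)⁻¹ ∈ F.RU := by
  obtain ⟨t, u, v, rfl⟩ := F.exists_uG_mult hg
  rw [F.uG_conj_torG]
  exact F.uG_mem_RU_mult _ _ _

theorem torG_mul_mult (μ ν : Kˣ) : F.torG μ * F.torG ν = F.torG (μ * ν) := Subtype.ext (hEl_mul _ μ ν)

theorem torG_inv_mult (μ : Kˣ) : (F.torG μ)⁻¹ = F.torG μ⁻¹ :=
  inv_eq_of_mul_eq_one_right (by rw [F.torG_mul_mult, mul_inv_cancel]; exact Subtype.ext (hEl_one _))

/-- In a central extension the derived group of the preimage of `U` meets the kernel trivially. -/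
theorem commutator_preimage_inf_ker (hm : 1 ≤ m) (hs : Function.Surjective σ) (hc : σ.ker ≤ Subgroup.center Γ) :
    ⁅F.RU.comap σ, F.RU.comap σ⁆ ⊓ σ.ker = ⊥ := by
  classical
  set P := F.RU.comap σ with hP
  have hcen : ∀ z, σ z = 1 → ∀ g, Commute z g := fun z hz g => (Subgroup.mem_center_iff.1 (hc hz) g).symm
  have hmem : ∀ t u v, Function.surjInv hs (uG m t u v) ∈ P := fun t u v => by
    rw [hP, Subgroup.mem_comap, Function.surjInv_eq hs]; exact F.uG_mem_RU_mult t u v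
  let Lf : K → K → K → P := fun t u v => ⟨Function.surjInv hs (uG m t u v), hmem t u v⟩
  let τ : P →* ↥(RG K m) := σ.comp P.subtype
  have hτ : ∀ t u v, τ (Lf t u v) = uG m t u v := fun t u v => Function.surjInv_eq hs _
  have hτP : ∀ x : P, τ x ∈ F.RU := fun x => x.2
  let Z : Subgroup P := τ.ker
  let H : Kˣ → Γ := fun μ => Function.surjInv hs (F.torG μ)
  have hH : ∀ μ, σ (H μ) = F.torG μ := fun μ => Function.surjInv_eq hs _
  have hconjP : ∀ μ, ∀ x ∈ P, H μ * x * (H μ)⁻¹ ∈ P ∧ (H μ)⁻¹ * x * H μ ∈ P := by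
    intro μ x hx
    refine ⟨?_, ?_⟩
    · rw [hP, Subgroup.mem_comap, map_mul, map_mul, map_inv, hH]
      exact F.conj_RU μ hx
    · rw [hP, Subgroup.mem_comap, map_mul, map_mul, map_inv, hH]
      have := F.conj_RU μ⁻¹ hx
      rwa [← F.torG_inv_mult, inv_inv] at this
  let φ : Kˣ → MulAut P := fun μ =>
    { toFun := fun x => ⟨H μ * x * (H μ)⁻¹, (hconjP μ x x.2).1⟩
      invFun := fun x => ⟨(H μ)⁻¹ * x * H μ, (hconjP μ x x.2).2⟩
      left_inv := fun x => Subtype.ext (by simp [mul_assoc])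
      right_inv := fun x => Subtype.ext (by simp [mul_assoc])
      map_mul' := fun x y => Subtype.ext (by simp [mul_assoc]) }
  have hτφ : ∀ μ x, τ (φ μ x) = F.torG μ * τ x * (F.torG μ)⁻¹ := fun μ x => by
    show σ (H μ * x * (H μ)⁻¹) = _
    rw [map_mul, map_mul, map_inv, hH]
    rfl
  -- membership in the closures, read in the image
  set S1 := Subgroup.closure ((Z : Set P) ∪ Set.range fun v => Lf 0 0 v) with hS1def
  set S2 := Subgroup.closure ((Z : Set P) ∪ ((Set.range fun v => Lf 0 0 v) ∪ Set.range fun u => Lf 0 u 0)) with hS2def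
  have toZ : ∀ x y : P, τ x = τ y → x⁻¹ * y ∈ Z := fun x y e => by
    show τ (x⁻¹ * y) = 1
    rw [map_mul, map_inv, e, inv_mul_cancel]
  have memS1 : ∀ (x : P) v, τ x = uG m 0 0 v → x ∈ S1 := fun x v e => by
    rw [show x = Lf 0 0 v * ((Lf 0 0 v)⁻¹ * x) by group]
    exact mul_mem (Subgroup.subset_closure (Or.inr ⟨v, rfl⟩))
      (Subgroup.subset_closure (Or.inl (toZ _ _ ((hτ 0 0 v).trans e.symm))))
  have memS2 : ∀ (x : P) u v, τ x = uG m 0 u v → x ∈ S2 := fun x u v e => by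
    have e' : τ (Lf 0 u 0 * Lf 0 0 v) = τ x := by
      rw [map_mul, hτ, hτ, e, F.uG_zero_add, add_zero, zero_add]
    rw [show x = Lf 0 u 0 * Lf 0 0 v * ((Lf 0 u 0 * Lf 0 0 v)⁻¹ * x) by group]
    exact mul_mem (mul_mem (Subgroup.subset_closure (Or.inr (Or.inr ⟨u, rfl⟩)))
      (Subgroup.subset_closure (Or.inr (Or.inl ⟨v, rfl⟩)))) (Subgroup.subset_closure (Or.inl (toZ _ _ e')))
  have T : ThreeLayers Z (fun v => Lf 0 0 v) (fun u => Lf 0 u 0) (fun t => Lf t 0 0)
      (fun μ : Kˣ => (μ : K) ^ (3 * 3 ^ m + 2)) (fun μ : Kˣ => (μ : K) ^ (3 * 3 ^ m + 1))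
      (fun μ : Kˣ => (μ : K) ^ 1) φ := by
    refine ⟨?_, ?_, ?_, ?_, fun a b => ?_, fun a b => ?_, fun a b => ?_, fun g a => ?_, fun g a => ?_, fun a b => ?_,
      fun μ a => ?_, fun μ a => ?_, fun μ a => ?_, fun a ha => ?_, fun a ha => ?_⟩
    · intro z hz
      rw [Subgroup.mem_center_iff]
      exact fun g => Subtype.ext (hcen z hz g).symm.eq
    · rw [eq_top_iff]
      intro x _
      obtain ⟨t, u, v, e⟩ := F.exists_uG_mult (hτP x)
      obtain ⟨u', v', e'⟩ := F.top_decomp t u v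
      have h1 : (Lf t 0 0)⁻¹ * x ∈ S2 := memS2 _ u' v' (by
        rw [map_mul, map_inv, hτ, e, inv_mul_eq_iff_eq_mul]; exact Subtype.ext e')
      rw [show x = Lf t 0 0 * ((Lf t 0 0)⁻¹ * x) by group]
      refine mul_mem (Subgroup.subset_closure (Or.inr (Or.inr ⟨t, rfl⟩))) (Subgroup.closure_mono ?_ h1)
      exact Set.union_subset_union_right _ Set.subset_union_left
    · intro μ z hz
      refine Subtype.ext ?_
      show H μ * z * (H μ)⁻¹ = z
      rw [← (hcen z hz (H μ)).eq, mul_inv_cancel_right]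
    · intro μ ν g
      refine Subtype.ext ?_
      show H μ * (H ν * g * (H ν)⁻¹) * (H μ)⁻¹ = H ν * (H μ * g * (H μ)⁻¹) * (H ν)⁻¹
      set z := (H ν * H μ)⁻¹ * (H μ * H ν)
      have hz : σ z = 1 := by
        simp only [z, map_mul, map_inv, hH, F.torG_mul_mult, mul_comm μ ν, inv_mul_cancel]
      have e : H μ * H ν = H ν * H μ * z := (mul_inv_cancel_left _ _).symm
      calc H μ * (H ν * g * (H ν)⁻¹) * (H μ)⁻¹ = (H μ * H ν) * g * (H μ * H ν)⁻¹ := by group
        _ = H ν * H μ * (z * g * z⁻¹) * (H ν * H μ)⁻¹ := by rw [e]; group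
        _ = _ := by rw [(hcen z hz g).eq, mul_inv_cancel_right]; group
    · refine toZ _ _ ?_
      rw [map_mul, hτ, hτ, hτ, F.uG_zero_add, add_zero]
    · exact memS1 _ 0 (by rw [map_mul, map_inv, map_mul, hτ, hτ, hτ, inv_mul_eq_iff_eq_mul, F.uG_zero_add,
        F.uG_zero_add, add_zero, add_zero, add_zero])
    · obtain ⟨u, v, e⟩ := F.top_mul a b
      exact memS2 _ u v (by rw [map_mul, map_inv, map_mul, hτ, hτ, hτ, inv_mul_eq_iff_eq_mul]; exact Subtype.ext e)
    · show τ ⁅g, Lf 0 0 a⁆ = 1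
      obtain ⟨t, u, v, e⟩ := F.exists_uG_mult (hτP g)
      rw [map_commutatorElement, hτ, e, commutatorElement_eq_one_iff_mul_comm]
      exact Subtype.ext (F.uWord_central t u v a)
    · obtain ⟨t, u, v, e⟩ := F.exists_uG_mult (hτP g)
      obtain ⟨w, hw⟩ := F.commutator_middle t u v a
      exact memS1 _ w (by rw [map_commutatorElement, hτ, e, commutatorElement_def]; exact Subtype.ext hw)
    · obtain ⟨u, v, e⟩ := F.top_mul a b
      obtain ⟨u', v', e'⟩ := F.top_mul b a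
      have hd : ∀ u v : K, (uG m 0 u v)⁻¹ = uG m 0 (-u) (-v) := fun u v => Subtype.ext (F.uWord_zero_inv u v)
      have hab : uG m a 0 0 * uG m b 0 0 = uG m (a + b) 0 0 * uG m 0 (-u) (-v) := by
        rw [← hd, eq_mul_inv_iff_mul_eq]; exact (Subtype.ext e).symm
      have hba : uG m b 0 0 * uG m a 0 0 = uG m (a + b) 0 0 * uG m 0 (-u') (-v') := by
        rw [← hd, eq_mul_inv_iff_mul_eq, add_comm a b]; exact (Subtype.ext e').symm
      have hD : τ ⁅Lf a 0 0, Lf b 0 0⁆ = uG m (a + b) 0 0 * uG m 0 (-u + u') (-v + v') * (uG m (a + b) 0 0)⁻¹ := by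
        rw [map_commutatorElement, hτ, hτ, commutatorElement_def, mul_assoc _ _ (uG m b 0 0)⁻¹, ← mul_inv_rev, hab, hba,
          mul_inv_rev, hd, neg_neg, neg_neg, mul_assoc, ← mul_assoc (uG m 0 (-u) (-v)), F.uG_zero_add, mul_assoc]
      have hU : τ ⁅Lf a 0 0, Lf b 0 0⁆ ∈ F.RU := hτP _
      obtain ⟨u'', v'', e''⟩ := F.exists_of_mem_der (F.mem_RU.1 hU) (by
        rw [hD]
        exact conj_der_mem F.three_eq_zero (moves_uWord F.three_eq_zero _ _ _ _) (F.uWord_mem_der _ _))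
      exact memS2 _ u'' v'' (Subtype.ext e'')
    · refine toZ _ _ ?_
      rw [hτφ, hτ, hτ, F.uG_conj_torG, mul_zero, mul_zero]
    · exact memS1 _ 0 (by
        rw [map_mul, map_inv, hτφ, hτ, hτ, F.uG_conj_torG, mul_zero, mul_zero, inv_mul_cancel, F.uG_zero_zero])
    · exact memS2 _ 0 0 (by
        rw [map_mul, map_inv, hτφ, hτ, hτ, F.uG_conj_torG, mul_zero, mul_zero, pow_one, inv_mul_cancel,
          F.uG_zero_zero])
    · exact (F.uG_eq_one ((hτ 0 0 a).symm.trans ha)).2.2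
    · have hS : ∀ x ∈ S1, ∃ v, τ x = uG m 0 0 v := by
        intro x hx
        induction hx using Subgroup.closure_induction with
        | mem y hy =>
          rcases hy with hy | ⟨v, rfl⟩
          · exact ⟨0, (show τ y = 1 from hy).trans F.uG_zero_zero.symm⟩
          · exact ⟨v, hτ 0 0 v⟩
        | one => exact ⟨0, (map_one τ).trans F.uG_zero_zero.symm⟩
        | mul x y _ _ hx hy =>
          obtain ⟨v, e⟩ := hx
          obtain ⟨w, e'⟩ := hy
          exact ⟨v + w, by rw [map_mul, e, e', F.uG_zero_add, add_zero]⟩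
        | inv x _ hx =>
          obtain ⟨v, e⟩ := hx
          exact ⟨-v, by rw [map_inv, e, inv_eq_iff_mul_eq_one, F.uG_zero_add, add_zero, add_neg_cancel, F.uG_zero_zero]⟩
      obtain ⟨v, e⟩ := hS _ ha
      exact (F.uWord_injective (congrArg Subtype.val ((hτ 0 a 0).symm.trans e))).2.1
  have hne : ∀ k, Odd k → ∃ μ : Kˣ, (μ : K) ^ k ≠ 1 := fun k hk =>
    ⟨-1, by rw [Units.val_neg, Units.val_one, hk.neg_one_pow]; exact F.neg_one_ne_one⟩
  have hodd : Odd (3 * 3 ^ m + 2) := ((show Odd 3 by decide).mul (Odd.pow (by decide))).add_even (by decide)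
  have heven : Even (3 * 3 ^ m + 1) := ((show Odd 3 by decide).mul (Odd.pow (by decide))).add_one
  have hne₂ : ∃ μ : Kˣ, (μ : K) ^ (3 * 3 ^ m + 1) ≠ 1 := by
    obtain ⟨g, hg⟩ := isCyclic_iff_exists_orderOf_eq_natCard.1 (inferInstance : IsCyclic Kˣ)
    refine ⟨g, fun e => ?_⟩
    have h2 : g ^ 2 = 1 := Units.ext (by simpa using F.sq_eq_one_of_fix_middle e)
    have := Nat.le_of_dvd (by norm_num) (orderOf_dvd_of_pow_eq_one h2)
    rw [hg, Nat.card_units, F.card_nat] at this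
    have : 3 ^ 2 ≤ 3 ^ (2 * m + 1) := Nat.pow_le_pow_right (by norm_num) (by omega)
    omega
  have hone : Function.Injective fun μ : Kˣ => μ ^ 1 := fun a b e => by simpa using e
  have hfin := inf_commutator_eq_bot T (fun μ => pow_ne_zero _ μ.ne_zero) (hne _ hodd) (fun μ => pow_ne_zero _ μ.ne_zero)
    hne₂ (F.pairOK_self _ F.last_surj hm) (Or.inr (F.pairOK_even _ _ F.pow_last_injective hodd heven))
    (Or.inl (F.pairOK_one_d hm))
    (F.pairOK_self _ F.middle_surj hm) (Or.inl (F.pairOK_even _ _ hone odd_one heven))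
    (F.pairOK_self _ (fun a ha => ⟨Units.mk0 a ha, 1, Or.inl rfl, by simp⟩) hm)
  rw [eq_bot_iff]
  rintro x ⟨hx, hxk⟩
  rw [← Subgroup.map_subtype_commutator] at hx
  obtain ⟨y, hy, rfl⟩ := hx
  have : y ∈ Z ⊓ commutator P := ⟨hxk, hy⟩
  rw [hfin, Subgroup.mem_bot] at this
  rw [this]
  exact one_mem _

/-- The kernel of a stem extension is prime to three. -/
theorem not_three_dvd_card_ker (hm : 1 ≤ m) [Finite Γ] (hσ : Cfsg.IsStemExtension σ) :
    ¬ 3 ∣ Nat.card σ.ker := by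
  have : Fact (Nat.Prime 3) := ⟨Nat.prime_three⟩
  obtain ⟨Q₀⟩ : Nonempty (Sylow 3 Γ) := inferInstance
  obtain ⟨g, hg⟩ := MulAction.exists_smul_eq ↥(RG K m) (Q₀.mapSurjective hσ.1) F.sylowU
  obtain ⟨g', rfl⟩ := hσ.1 g
  let Q := g' • Q₀
  have hQ : ∀ q ∈ (Q : Subgroup Γ), σ q ∈ F.RU := by
    intro q hq
    rw [Sylow.coe_subgroup_smul, Subgroup.mem_pointwise_smul_iff_inv_smul_mem] at hq
    show σ q ∈ (F.sylowU : Subgroup ↥(RG K m))
    rw [← hg, Sylow.coe_subgroup_smul, Subgroup.mem_pointwise_smul_iff_inv_smul_mem]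
    refine ⟨_, hq, ?_⟩
    simp [MulAut.smul_def]
  refine Cfsg.Agent.Lib.Schur.not_dvd_card_ker hσ Q fun a ha hak => Subtype.ext ?_
  have h1 : (a : Γ) ∈ ⁅F.RU.comap σ, F.RU.comap σ⁆ := by
    have h2 : (a : Γ) ∈ (commutator (Q : Subgroup Γ)).map (Q : Subgroup Γ).subtype :=
      Subgroup.mem_map_of_mem _ ha
    rw [Subgroup.map_subtype_commutator] at h2
    exact Subgroup.commutator_mono (fun q hq => hQ q hq) (fun q hq => hQ q hq) h2
  exact Subgroup.mem_bot.1 ((F.commutator_preimage_inf_ker hm hσ.1 hσ.2.1).le ⟨h1, hak⟩)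

/-- The kernel of a stem extension is odd. -/
theorem not_two_dvd_card_ker [Finite Γ] (hσ : Cfsg.IsStemExtension σ) : ¬ 2 ∣ Nat.card σ.ker := by
  classical
  haveI : Fact (Nat.Prime 2) := ⟨Nat.prime_two⟩
  have hs := hσ.1
  have hc := hσ.2.1
  have hcen : ∀ z, σ z = 1 → ∀ g, Commute z g := fun z hz g => (Subgroup.mem_center_iff.1 (hc hz) g).symm
  let L : ↥(RG K m) → Γ := Function.surjInv hs
  have hL : ∀ x, σ (L x) = x := Function.surjInv_eq hs
  let c : ↥(RG K m) → ↥(RG K m) → Γ := fun x y => ⁅L x, L y⁆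
  have hwd : ∀ a b, ⁅a, b⁆ = c (σ a) (σ b) := fun a b =>
    ChevBrComm (by rw [hL]) (by rw [hL])
  have hk : ∀ x y, Commute x y → σ (c x y) = 1 := fun x y h => by
    show σ ⁅L x, L y⁆ = 1
    rw [map_commutatorElement, hL, hL, commutatorElement_eq_one_iff_mul_comm]
    exact h.eq
  have hab : ∀ x ∈ F.two8, ∀ y ∈ F.two8, Commute x y := fun x hx y hy => by
    have hxy := F.two8_exp (mul_mem hx hy)
    have hx2 := F.two8_exp hx
    have hy2 := F.two8_exp hy
    calc x * y = x * (x * y * (x * y)) * y := by rw [hxy, mul_one]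
      _ = x * x * (y * x) * (y * y) := by group
      _ = y * x := by rw [hx2, hy2, one_mul, mul_one]
  have hmulL : ∀ x ∈ F.two8, ∀ y ∈ F.two8, ∀ z ∈ F.two8, c (x * y) z = c y z * c x z := by
    intro x hx y hy z hz
    have := hwd (L x * L y) (L z)
    rw [map_mul, hL, hL, hL, comm_mul_left_of (hcen _ (hk y z (hab y hy z hz)) _)] at this
    exact this.symm
  have hmulR : ∀ x ∈ F.two8, ∀ y ∈ F.two8, ∀ z ∈ F.two8, c x (y * z) = c x y * c x z := by
    intro x hx y hy z hz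
    have := hwd (L x) (L y * L z)
    rw [map_mul, hL, hL, hL, comm_mul_right_of (hcen _ (hk x z (hab x hx z hz)) _)] at this
    exact this.symm
  have hconj : ∀ g x y, Commute x y → c (g * x * g⁻¹) (g * y * g⁻¹) = c x y := by
    intro g x y h
    have e := hwd (L g * L x * (L g)⁻¹) (L g * L y * (L g)⁻¹)
    simp only [map_mul, map_inv, hL] at e
    rw [← e, show ⁅L g * L x * (L g)⁻¹, L g * L y * (L g)⁻¹⁆ = L g * ⁅L x, L y⁆ * (L g)⁻¹ by
      simp only [commutatorElement_def]; group, ← (hcen _ (hk x y h) (L g)).eq, mul_inv_cancel_right]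
  have hone : ∀ x, c x 1 = 1 ∧ c x x = 1 := fun x => ⟨by
    have := hwd (L x) 1
    rw [map_one, hL, commutatorElement_one_right] at this
    exact this.symm, commutatorElement_self _⟩
  -- the radical of the commutator pairing
  let R : Set ↥(RG K m) := {x | x ∈ F.two8 ∧ ∀ y ∈ F.two8, c y x = 1}
  have hRmul : ∀ x ∈ R, ∀ y ∈ R, x * y ∈ R := fun x hx y hy =>
    ⟨mul_mem hx.1 hy.1, fun z hz => by rw [hmulR z hz x hx.1 y hy.1, hx.2 z hz, hy.2 z hz, one_mul]⟩
  have hRconj : ∀ n ∈ Subgroup.normalizer (F.two8 : Set ↥(RG K m)), ∀ x ∈ R, n * x * n⁻¹ ∈ R := by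
    intro n hn x hx
    refine ⟨(Subgroup.mem_normalizer_iff.1 hn x).1 hx.1, fun y hy => ?_⟩
    have hy' : n⁻¹ * y * n ∈ F.two8 := (Subgroup.mem_normalizer_iff.1 hn _).2 (by group; exact hy)
    have := hconj n (n⁻¹ * y * n) x (hab _ hy' x hx.1)
    rw [show n * (n⁻¹ * y * n) * n⁻¹ = y by group] at this
    rw [this, hx.2 _ hy']
  obtain ⟨t1, t2⟩ := F.tG_conj
  have t3 : F.tG * (F.wG * F.mG) * F.tG⁻¹ = F.wG := by
    rw [show F.tG * (F.wG * F.mG) * F.tG⁻¹ = F.tG * F.wG * F.tG⁻¹ * (F.tG * F.mG * F.tG⁻¹) by group, t1, t2,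
      ← mul_assoc, F.mG_wG, mul_assoc, F.mG_sq, mul_one]
  have htc : F.tG * F.invG * F.tG⁻¹ = F.invG := by
    rw [show F.tG * F.invG = F.invG * F.tG from (F.invG_commute_range ⟨_, rfl⟩).symm, mul_inv_cancel_right]
  have hw8 : F.wG ∈ F.two8 := F.fourGrp_le_two8 (F.mem_fourGrp.2 (Or.inr (Or.inl rfl)))
  have hm8 : F.mG ∈ F.two8 := F.fourGrp_le_two8 (F.mem_fourGrp.2 (Or.inr (Or.inr (Or.inl rfl))))
  have hi := F.invG_mem_two8
  have hiR : F.invG ∈ R := by
    refine ⟨hi, fun y hy => ?_⟩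
    have a : c F.mG F.invG = c F.wG F.invG := by
      have := hconj F.tG F.wG F.invG (hab _ hw8 _ hi); rwa [t1, htc] at this
    have b : c (F.wG * F.mG) F.invG = c F.mG F.invG := by
      have := hconj F.tG F.mG F.invG (hab _ hm8 _ hi); rwa [t2, htc] at this
    rw [hmulL _ hw8 _ hm8 _ hi, mul_eq_left] at b
    have h0 : c 1 F.invG = 1 := by
      have := hmulL 1 (one_mem _) 1 (one_mem _) _ hi
      rw [one_mul] at this
      exact left_eq_mul.mp this
    have hfour : ∀ y ∈ F.fourGrp, c y F.invG = 1 := fun y hy => by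
      rcases F.mem_fourGrp.1 hy with rfl | rfl | rfl | rfl
      · exact h0
      · exact b
      · rw [a, b]
      · rw [hmulL _ hw8 _ hm8 _ hi, a, b, one_mul]
    rcases hy with hy | hy
    · exact hfour y hy
    · rw [show y = F.invG * (F.invG * y) by rw [← mul_assoc, F.invG_sq, one_mul],
        hmulL _ hi _ (F.fourGrp_le_two8 hy) _ hi, hfour _ hy, (hone F.invG).2, one_mul]
  obtain ⟨n, hn, hne⟩ := F.exists_normalizer_moves
  set j := n * F.invG * n⁻¹
  have hjR : j ∈ R := hRconj n hn _ hiR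
  have hw : F.wG ∈ R ∧ F.mG ∈ R := by
    have hj1 : j ≠ 1 := fun e => F.invG_ne_one (conj_eq_one_iff.1 e)
    obtain ⟨f, hf, hf1, hfR⟩ : ∃ f ∈ F.fourGrp, f ≠ 1 ∧ f ∈ R := by
      rcases hjR.1 with h | h
      · exact ⟨j, h, hj1, hjR⟩
      · refine ⟨F.invG * j, h, fun e => hne ?_, hRmul _ hiR _ hjR⟩
        show j = F.invG
        rw [eq_inv_of_mul_eq_one_right e, inv_eq_of_mul_eq_one_left F.invG_sq]
    have ht := F.tG_normalizes
    rcases F.mem_fourGrp.1 hf with rfl | rfl | rfl | rfl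
    · exact absurd rfl hf1
    · exact ⟨hfR, t1 ▸ hRconj _ ht _ hfR⟩
    · have := t2 ▸ hRconj _ ht _ hfR
      exact ⟨t3 ▸ hRconj _ ht _ this, hfR⟩
    · have := t3 ▸ hRconj _ ht _ hfR
      exact ⟨this, t1 ▸ hRconj _ ht _ this⟩
  have hall : ∀ y ∈ F.two8, y ∈ R := by
    have h1R : (1 : ↥(RG K m)) ∈ R := ⟨one_mem _, fun y _ => (hone y).1⟩
    have hfour : ∀ y ∈ F.fourGrp, y ∈ R := fun y hy => by
      rcases F.mem_fourGrp.1 hy with rfl | rfl | rfl | rfl
      exacts [h1R, hw.1, hw.2, hRmul _ hw.1 _ hw.2]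
    intro y hy
    rcases hy with hy | hy
    · exact hfour y hy
    · rw [show y = F.invG * (F.invG * y) by rw [← mul_assoc, F.invG_sq, one_mul]]
      exact hRmul _ hiR _ (hfour _ hy)
  -- a Sylow subgroup of `Γ` over `two8` is commutative
  obtain ⟨Q₀⟩ : Nonempty (Sylow 2 Γ) := inferInstance
  obtain ⟨g, hg⟩ := MulAction.exists_smul_eq ↥(RG K m) (Q₀.mapSurjective hσ.1) F.sylowTwo
  obtain ⟨g', rfl⟩ := hσ.1 g
  let Q := g' • Q₀
  have hQ : ∀ q ∈ (Q : Subgroup Γ), σ q ∈ F.two8 := by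
    intro q hq
    rw [Sylow.coe_subgroup_smul, Subgroup.mem_pointwise_smul_iff_inv_smul_mem] at hq
    show σ q ∈ (F.sylowTwo : Subgroup ↥(RG K m))
    rw [← hg, Sylow.coe_subgroup_smul, Subgroup.mem_pointwise_smul_iff_inv_smul_mem]
    refine ⟨_, hq, ?_⟩
    simp [MulAut.smul_def]
  refine Cfsg.Agent.Lib.Schur.not_dvd_card_ker_of_commute hσ Q fun a ha b hb => ?_
  rw [← commutatorElement_eq_one_iff_mul_comm, hwd]
  exact (hall _ (hQ b hb)).2 _ (hQ a ha)
where
  ChevBrComm {a b a' b' : Γ} (ha : σ a = σ a') (hb : σ b = σ b') : ⁅a, b⁆ = ⁅a', b'⁆ :=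
    Cfsg.Agent.Lib.Schur.ChevBr.comm_eq hσ.2.1 ha hb

end Three

section Odd

omit F in
/-- A Sylow subgroup is cyclic if some element has order divisible by its order. -/
theorem isCyclic_sylow_of_orderOf {G : Type*} [Group G] [Finite G] {p : ℕ} [Fact p.Prime] (P : Sylow p G) {g : G}
    (h : p ^ (Nat.card G).factorization p ∣ orderOf g) : IsCyclic P := by
  set k := (Nat.card G).factorization p
  have hpos : orderOf g ≠ 0 := (orderOf_pos g).ne'
  set g' := g ^ (orderOf g / p ^ k)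
  have ho : orderOf g' = p ^ k := orderOf_pow_orderOf_div hpos h
  let S : Sylow p G := Sylow.ofCard (Subgroup.zpowers g') (by rw [Nat.card_zpowers, ho])
  haveI : IsCyclic S := show IsCyclic (Subgroup.zpowers g') from inferInstance
  exact isCyclic_of_surjective _ (Sylow.equiv S P).surjective

theorem sylow_odd_isCyclic [Finite ↥(RG K m)] {p : ℕ} [Fact p.Prime] (hp2 : p ≠ 2) (hp3 : p ≠ 3)
    (P : Sylow p ↥(RG K m)) : IsCyclic P := by
  classical
  have hp : p.Prime := Fact.out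
  set q := 3 ^ (2 * m + 1) with hqdef
  set k := (Nat.card ↥(RG K m)).factorization p
  have hq1 : 1 ≤ q := Nat.one_le_pow _ _ (by norm_num)
  have hpq : Nat.Coprime p q := Nat.Coprime.pow_right _ ((Nat.coprime_primes hp Nat.prime_three).2 hp3)
  have hpd : p ^ k ∣ (q - 1) * ((q + 1) * (q * q - q + 1)) := by
    have h1 : p ^ k ∣ q ^ 3 * ((q - 1) * ((q + 1) * (q * q - q + 1))) := by
      have h2 := Nat.ordProj_dvd (Nat.card ↥(RG K m)) p
      refine dvd_trans h2 (dvd_of_eq ?_)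
      rw [F.card_group, ← hqdef]
      have : q ≤ q * q := Nat.le_mul_self q
      zify [this, hq1]
      ring
    exact (hpq.pow k 3).dvd_of_dvd_mul_left h1
  have hcop : ∀ a : ℕ, ((a : ZMod p) ≠ 0) → Nat.Coprime (p ^ k) a := fun a ha =>
    Nat.Coprime.pow_left k (hp.coprime_iff_not_dvd.2 fun h => ha ((ZMod.natCast_eq_zero_iff a p).2 h))
  have h3p : (3 : ZMod p) ≠ 0 := fun h => hp3 ((Nat.prime_dvd_prime_iff_eq hp Nat.prime_three).1
    ((ZMod.natCast_eq_zero_iff 3 p).1 (by exact_mod_cast h)))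
  have h2p : (2 : ZMod p) ≠ 0 := fun h => hp2 ((Nat.prime_dvd_prime_iff_eq hp Nat.prime_two).1
    ((ZMod.natCast_eq_zero_iff 2 p).1 (by exact_mod_cast h)))
  set x : ZMod p := (q : ZMod p) with hx
  have hx0 : x ≠ 0 := fun h => (hp.coprime_iff_not_dvd.1 hpq) ((ZMod.natCast_eq_zero_iff q p).1 h)
  have e1 : ((q - 1 : ℕ) : ZMod p) = x - 1 := by rw [Nat.cast_sub hq1, Nat.cast_one]
  have e2 : ((q + 1 : ℕ) : ZMod p) = x + 1 := by push_cast; rfl
  have e3 : ((q * q - q + 1 : ℕ) : ZMod p) = x * x - x + 1 := by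
    rw [Nat.cast_add, Nat.cast_sub (Nat.le_mul_self q), Nat.cast_mul, Nat.cast_one]
  by_cases hA : x - 1 = 0
  · have hd : p ^ k ∣ q - 1 := by
      refine (Nat.Coprime.mul_right (hcop _ ?_) (hcop _ ?_)).dvd_of_dvd_mul_right hpd
      · rw [e2]; exact fun h => h2p (by linear_combination h - hA)
      · rw [e3, sub_eq_zero.1 hA]; simp
    obtain ⟨g, hg⟩ := isCyclic_iff_exists_orderOf_eq_natCard.1 (inferInstance : IsCyclic Kˣ)
    refine isCyclic_sylow_of_orderOf P (g := F.torG g) (hd.trans (dvd_of_eq ?_))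
    let T : Kˣ →* ↥(RG K m) :=
      { toFun := F.torG, map_one' := Subtype.ext (hEl_one _), map_mul' := fun a b => (F.torG_mul_mult a b).symm }
    rw [show F.torG g = T g from rfl, orderOf_injective T (fun a b e => F.hEl_injective (congrArg Subtype.val e)),
      hg, Nat.card_units, F.card_nat]
  by_cases hB : x + 1 = 0
  · have hd : p ^ k ∣ q + 1 := by
      have h3 : x * x - x + 1 ≠ 0 := fun h => h3p (by linear_combination h - (x - 2) * hB)
      have := (hcop _ (e1 ▸ hA)).dvd_of_dvd_mul_left hpd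
      exact (hcop _ (e3 ▸ h3)).dvd_of_dvd_mul_right this
    obtain ⟨y, hy⟩ := Cfsg.Agent.Lib.ElementOrders.exists_orderOf_eq_pow_card_sub_one (F := K) (n := 2) (d := 2)
      (by norm_num) le_rfl
    rw [F.card_field, ← hqdef] at hy
    have hdet : ((y ^ (q - 1) : GL (Fin 2) K) : Matrix (Fin 2) (Fin 2) K).det = 1 := by
      rw [Units.val_pow_eq_pow_val, Matrix.det_pow, hqdef, ← F.card_field]
      exact FiniteField.pow_card_sub_one_eq_one _ (Matrix.GeneralLinearGroup.det_ne_zero y)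
    let s : SL(2, K) := ⟨_, hdet⟩
    have hs : orderOf s = q + 1 := by
      rw [← orderOf_injective Matrix.SpecialLinearGroup.toGL Matrix.SpecialLinearGroup.toGL_injective,
        show Matrix.SpecialLinearGroup.toGL s = y ^ (q - 1) from Units.ext rfl]
      have hqq : q ^ 2 - 1 = (q - 1) * (q + 1) := by
        rw [mul_comm, show q ^ 2 - 1 = q ^ 2 - 1 ^ 2 by rw [one_pow], Nat.sq_sub_sq]
      have hq3 : 3 ≤ q := Nat.le_self_pow (by omega) 3
      rw [orderOf_pow' _ (by omega), hy, hqq, Nat.gcd_eq_right (dvd_mul_right _ _),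
        Nat.mul_div_cancel_left _ (by omega)]
    refine isCyclic_sylow_of_orderOf P (g := F.slG s) ?_
    have h2 : s ^ (2 * orderOf (F.slG s)) = 1 := by
      have h : F.slG (s ^ orderOf (F.slG s)) = 1 := by rw [map_pow, pow_orderOf_eq_one]
      rw [mul_comm 2, pow_mul]
      rcases F.slG_eq_one_iff.1 h with e | e <;> rw [e] <;> simp
    have h3 := (hd.trans (dvd_of_eq hs.symm)).trans (orderOf_dvd_of_pow_eq_one h2)
    exact (Nat.Coprime.pow_left k ((Nat.coprime_primes hp Nat.prime_two).2 hp2)).dvd_of_dvd_mul_left h3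
  -- the rest is seen in degree seven
  have hd : p ^ k ∣ q * q - q + 1 := by
    have := (hcop _ (e1 ▸ hA)).dvd_of_dvd_mul_left hpd
    exact (hcop _ (e2 ▸ hB)).dvd_of_dvd_mul_left this
  rcases Nat.eq_zero_or_pos k with hk | hk
  · exact isCyclic_sylow_of_orderOf P (g := 1) (by rw [show (Nat.card ↥(RG K m)).factorization p = 0 from hk, pow_zero]; exact one_dvd _)
  have hC : x * x - x + 1 = 0 := by
    rw [← e3, ZMod.natCast_eq_zero_iff]
    exact (dvd_pow_self p hk.ne').trans hd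
  have hx3 : x ^ 3 = -1 := by linear_combination (x + 1) * hC
  haveI hch : CharP K Twisted.g2Iso.p := F.charP
  haveI : Fact Twisted.g2Iso.p.Prime := ⟨Nat.prime_three⟩
  let R₀ : ↥(RG K m) →* Matrix (Fin Twisted.g2Iso.V.length) (Fin Twisted.g2Iso.V.length) K :=
    (Twisted.IsoData.repSel Twisted.g2Iso_facts).comp (Subgroup.inclusion (twistedG2_le_group (3 ^ m)))
  let ρ : ↥(RG K m) →* GL (Fin Twisted.g2Iso.V.length) K := R₀.toHomUnits
  have hρ : Function.Injective ρ := by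
    rw [injective_iff_map_eq_one]
    intro g hg
    have h := Twisted.IsoData.eq_one_of_repSel Twisted.g2Iso_facts Twisted.ReeG.coreGen
      (Subgroup.inclusion (twistedG2_le_group (3 ^ m)) g) (congrArg Units.val hg)
    exact Subgroup.inclusion_injective _ (h.trans (map_one _).symm)
  obtain ⟨S, hS⟩ := (P.isPGroup'.map ρ).exists_le_sylow
  suffices IsCyclic S by
    haveI := this
    haveI : IsCyclic ((P : Subgroup ↥(RG K m)).map ρ) :=
      isCyclic_of_injective _ (Subgroup.inclusion_injective hS)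
    exact isCyclic_of_surjective _ ((P : Subgroup ↥(RG K m)).equivMapOfInjective ρ hρ).symm.surjective
  obtain ⟨g, hg⟩ := Cfsg.Agent.Lib.ElementOrders.exists_orderOf_eq_pow_card_sub_one (F := K)
    (n := Twisted.g2Iso.V.length) (d := 6) (by norm_num) (by decide)
  refine isCyclic_sylow_of_orderOf S (g := g) ?_
  rw [hg]
  set a := (Nat.card (GL (Fin Twisted.g2Iso.V.length) K)).factorization p
  have hlen : Twisted.g2Iso.V.length = 7 := rfl
  have ha : p ^ a ∣ ∏ i : Fin Twisted.g2Iso.V.length,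
      (q ^ Twisted.g2Iso.V.length - q ^ (i : ℕ)) :=
    (Nat.ordProj_dvd _ p).trans (dvd_of_eq (by rw [Matrix.card_GL_field, F.card_field]))
  rw [F.card_field, ← hqdef]
  have hcop' : ∀ j : ℕ, x ^ j ≠ 1 → Nat.Coprime (p ^ a) (q ^ j - 1) := fun j hj =>
    Nat.Coprime.pow_left a (hp.coprime_iff_not_dvd.2 fun h => hj (by
      have := (ZMod.natCast_eq_zero_iff _ p).2 h
      rw [Nat.cast_sub (Nat.one_le_pow _ _ hq1), sub_eq_zero] at this
      simpa [x] using this))
  have hcq : ∀ j : ℕ, Nat.Coprime (p ^ a) (q ^ j) := fun j => hpq.pow a j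
  have hfac : ∀ i : ℕ, i ≤ 7 → q ^ 7 - q ^ i = q ^ i * (q ^ (7 - i) - 1) := fun i hi => by
    rw [Nat.mul_sub, mul_one, ← pow_add, Nat.add_sub_cancel' hi]
  have hprod : ∏ i : Fin Twisted.g2Iso.V.length, (q ^ Twisted.g2Iso.V.length - q ^ (i : ℕ)) =
      (q ^ 6 - 1) * (q ^ 1 * ((q ^ 7 - 1) * (q ^ 2 * (q ^ 5 - 1)) * (q ^ 3 * (q ^ 4 - 1)) * (q ^ 4 * (q ^ 3 - 1)) *
        (q ^ 5 * (q ^ 2 - 1)) * (q ^ 6 * (q ^ 1 - 1)))) := by
    rw [hlen, Fin.prod_univ_seven]
    show (q ^ 7 - q ^ 0) * (q ^ 7 - q ^ 1) * (q ^ 7 - q ^ 2) * (q ^ 7 - q ^ 3) * (q ^ 7 - q ^ 4) * (q ^ 7 - q ^ 5) *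
      (q ^ 7 - q ^ 6) = _
    rw [hfac 1 (by norm_num), hfac 2 (by norm_num), hfac 3 (by norm_num), hfac 4 (by norm_num), hfac 5 (by norm_num),
      hfac 6 (by norm_num), pow_zero]
    ring
  rw [hprod] at ha
  refine Nat.Coprime.dvd_of_dvd_mul_right ?_ ha
  refine (hcq 1).mul_right (Nat.Coprime.mul_right (Nat.Coprime.mul_right (Nat.Coprime.mul_right (Nat.Coprime.mul_right
    (Nat.Coprime.mul_right (hcop' 7 ?_) ?_) ?_) ?_) ?_) ?_)
  · intro h
    exact hA (by linear_combination h - x * (x ^ 3 - 1) * hx3)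
  · refine (hcq 2).mul_right (hcop' 5 fun h => hx0 ?_)
    linear_combination -h + x ^ 2 * hx3 - hC
  · refine (hcq 3).mul_right (hcop' 4 fun h => hB ?_)
    linear_combination -h + x * hx3
  · refine (hcq 4).mul_right (hcop' 3 fun h => h2p ?_)
    linear_combination hx3 - h
  · refine (hcq 5).mul_right (hcop' 2 fun h => ?_)
    exact (mul_ne_zero hA hB) (by linear_combination h)
  · refine (hcq 6).mul_right (hcop' 1 fun h => hA ?_)
    linear_combination h

/-- **The multiplier of the small Ree groups is trivial.** -/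
theorem hasCyclicSchurMultiplier_one (hm : 1 ≤ m) : Cfsg.HasCyclicSchurMultiplier ↥(RG K m) 1 := by
  haveI : Finite ↥(RG K m) := inferInstance
  refine Cfsg.Agent.Lib.Schur.hasCyclicSchurMultiplier_one_of_forall_prime _ fun Γ _ _ σ hσ p hp => ?_
  have : Fact p.Prime := ⟨hp⟩
  rcases eq_or_ne p 2 with rfl | hp2
  · exact F.not_two_dvd_card_ker hσ
  rcases eq_or_ne p 3 with rfl | hp3
  · exact F.not_three_dvd_card_ker hm hσ
  obtain ⟨P⟩ : Nonempty (Sylow p ↥(RG K m)) := inferInstance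
  have := F.sylow_odd_isCyclic hp2 hp3 P
  exact Cfsg.Agent.Lib.Schur.not_dvd_card_ker_of_isCyclic hσ P

end Odd

end Facts

end Cfsg.Agent.Lib.Ree
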