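import Mathlib
import Cfsg.Agent.Lib.AbelianConj.Basic

/-!
Cyclic Sylow subgroups for primes of order six modulo `q`, from a faithful seven-dimensional representation.
-/

set_option autoImplicit false

namespace Cfsg.Agent.Lib.Ree

set_option maxHeartbeats 400000

open Matrix

variable {K : Type*} [Field K] [Fintype K] {G : Type*} [Group G] [Finite G] {p : ℕ} [Fact p.Prime]

/-- The fixed space of an element. -/
def fixSpace (ρ : G →* Matrix (Fin 7) (Fin 7) K) (x : G) : Submodule K (Fin 7 → K) :=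
  LinearMap.ker ((ρ x - 1).mulVecLin)

omit [Fintype K] [Finite G] in
theorem mem_fixSpace {ρ : G →* Matrix (Fin 7) (Fin 7) K} {x : G} {v : Fin 7 → K} :
    v ∈ fixSpace ρ x ↔ ρ x *ᵥ v = v := by
  rw [fixSpace, LinearMap.mem_ker, Matrix.mulVecLin_apply, Matrix.sub_mulVec, Matrix.one_mulVec, sub_eq_zero]

/-- An element of order `p` preserving a subspace has there a fixed space of the same cardinality modulo `p`. -/
theorem card_fix_modEq (ρ : G →* Matrix (Fin 7) (Fin 7) K) {x : G} (hx : orderOf x = p)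
    (W : Submodule K (Fin 7 → K)) (hW : ∀ (g : G), g ∈ Subgroup.zpowers x → ∀ v ∈ W, ρ g *ᵥ v ∈ W) :
    Nat.card ↥W ≡ Nat.card ↥(W ⊓ fixSpace ρ x) [MOD p] := by
  letI : MulAction ↥(Subgroup.zpowers x) ↥W :=
    { smul := fun g v => ⟨ρ g *ᵥ v, hW g g.2 v v.2⟩
      one_smul := fun v => Subtype.ext (by show ρ 1 *ᵥ (v : Fin 7 → K) = v; rw [map_one, Matrix.one_mulVec])
      mul_smul := fun g h v => Subtype.ext (by
        show ρ ((g : G) * h) *ᵥ (v : Fin 7 → K) = ρ g *ᵥ (ρ h *ᵥ (v : Fin 7 → K))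
        rw [map_mul, Matrix.mulVec_mulVec]) }
  have hP : IsPGroup p ↥(Subgroup.zpowers x) := IsPGroup.of_card (n := 1) (by rw [Nat.card_zpowers, hx, pow_one])
  refine (hP.card_modEq_card_fixedPoints ↥W).trans ?_
  refine congrArg (· % p) (Nat.card_congr
    { toFun := fun v => ⟨v.1.1, v.1.2, mem_fixSpace.2 (congrArg Subtype.val (v.2 ⟨x, Subgroup.mem_zpowers x⟩))⟩
      invFun := fun v => ⟨⟨v.1, v.2.1⟩, fun g => ?_⟩
      left_inv := fun v => rfl
      right_inv := fun v => rfl })
  refine Subtype.ext ?_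
  show ρ g *ᵥ v.1 = v.1
  obtain ⟨n, hn⟩ := (isOfFinOrder_of_finite x).mem_powers_iff_mem_zpowers.2 g.2
  simp only at hn
  rw [← hn, map_pow]
  clear hn
  induction n with
  | zero => rw [pow_zero, Matrix.one_mulVec]
  | succ n ih => rw [pow_succ, ← Matrix.mulVec_mulVec, mem_fixSpace.1 v.2.2, ih]

theorem order_six {q : ℕ} (hp : 3 < p) (hq : ((q : ZMod p)) ^ 2 - (q : ZMod p) + 1 = 0) {n : ℕ}
    (h1 : 1 ≤ n) (h7 : n ≤ 7) (h : (q : ZMod p) ^ n = 1) : n = 6 := by
  set z : ZMod p := (q : ZMod p)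
  have hc : ∀ k : ℕ, k ∈ [1, 2, 3] → (k : ZMod p) ≠ 0 := fun k hk h0 => by
    have := Nat.le_of_dvd (by simp at hk; omega) ((ZMod.natCast_eq_zero_iff k p).1 h0)
    simp at hk; omega
  have h2 : (2 : ZMod p) ≠ 0 := hc 2 (by simp)
  have h3 : (3 : ZMod p) ≠ 0 := hc 3 (by simp)
  have e3 : z ^ 3 = -1 := by linear_combination (z + 1) * hq
  have k1 : z ≠ 1 := fun e => one_ne_zero (α := ZMod p) (by rw [e] at hq; linear_combination hq)
  have k2 : z ≠ -1 := fun e => h3 (by rw [e] at hq; linear_combination hq)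
  interval_cases n
  · exact absurd (by simpa using h) k1
  · rcases sq_eq_one_iff.1 h with e | e
    exacts [absurd e k1, absurd e k2]
  · exact absurd (by linear_combination e3 - h : (2 : ZMod p) = 0) h2
  · exact absurd (by linear_combination -h + z * e3 : z = -1) k2
  · exfalso
    have e : z ^ 2 = -1 := by linear_combination -h + z ^ 2 * e3
    have : z = 0 := by linear_combination e - hq
    rw [this] at e
    simp at e
  · rfl
  · exact absurd (by linear_combination h - z * (z ^ 3 - 1) * e3 : z = 1) k1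

omit [Fintype K] [Finite G] [Fact p.Prime] in
theorem sum_pow_fix (ρ : G →* Matrix (Fin 7) (Fin 7) K) {x : G} (hx : x ^ p = 1) (v : Fin 7 → K) :
    (∑ k ∈ Finset.range p, ρ (x ^ k)) *ᵥ v ∈ fixSpace ρ x := by
  rw [mem_fixSpace, Matrix.mulVec_mulVec, Finset.mul_sum]
  congr 1
  simp only [← map_mul, ← pow_succ']
  have h := Finset.sum_range_succ' (fun k => ρ (x ^ k)) p
  rw [Finset.sum_range_succ, hx, pow_zero] at h
  exact add_right_cancel h.symm

variable {q : ℕ} (hq : Nat.card K = q) (hp : 3 < p) (hp6 : ((q : ZMod p)) ^ 2 - (q : ZMod p) + 1 = 0)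
  (ρ : G →* Matrix (Fin 7) (Fin 7) K) (hρ : Function.Injective ρ)
include hq hp hp6 hρ

theorem finrank_fix {x : G} (hx : orderOf x = p) : Module.finrank K ↥(fixSpace ρ x) = 1 := by
  have h := card_fix_modEq ρ hx ⊤ fun _ _ _ _ => trivial
  rw [top_inf_eq] at h
  rw [Nat.card_congr (Submodule.topEquiv (R := K) (M := Fin 7 → K)).toEquiv,
    Module.natCard_eq_pow_finrank (K := K) (V := Fin 7 → K),
    Module.natCard_eq_pow_finrank (K := K) (V := ↥(fixSpace ρ x)), Module.finrank_fintype_fun_eq_card,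
    Fintype.card_fin, hq, ← ZMod.natCast_eq_natCast_iff, Nat.cast_pow, Nat.cast_pow] at h
  set d := Module.finrank K ↥(fixSpace ρ x) with hd
  have hd7 : d ≤ 7 := (Submodule.finrank_le _).trans_eq (by simp)
  have hne : d ≠ 7 := by
    intro hd'
    have htop : fixSpace ρ x = ⊤ := Submodule.eq_top_of_finrank_eq (by rw [← hd, hd']; simp)
    have hx1 : ρ x = 1 := Matrix.ext_iff_mulVec.2 fun v => by
      rw [Matrix.one_mulVec]; exact mem_fixSpace.1 (htop ▸ trivial)
    rw [← map_one ρ] at hx1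
    rw [hρ hx1, orderOf_one] at hx
    omega
  have hz : (q : ZMod p) ≠ 0 := fun h0 => by rw [h0] at hp6; simp at hp6
  have := order_six hp hp6 (n := 7 - d) (by omega) (by omega)
    (mul_right_cancel₀ (pow_ne_zero d hz) (by rw [← pow_add, one_mul, Nat.sub_add_cancel hd7]; exact h))
  omega

theorem fix_eq {x y : G} (hx : orderOf x = p) (hy : orderOf y = p) (hc : x * y = y * x) :
    fixSpace ρ x = fixSpace ρ y := by
  have hW : ∀ g ∈ Subgroup.zpowers y, ∀ v ∈ fixSpace ρ x, ρ g *ᵥ v ∈ fixSpace ρ x := by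
    intro g hg v hv
    have hcg : Commute x g := by
      obtain ⟨n, rfl⟩ := hg; exact (show Commute x y from hc).zpow_right n
    rw [mem_fixSpace] at hv ⊢
    rw [Matrix.mulVec_mulVec, ← map_mul, hcg.eq, map_mul, ← Matrix.mulVec_mulVec, hv]
  have h := card_fix_modEq ρ hy _ hW
  have h1 := finrank_fix hq hp hp6 ρ hρ hx
  rcases Nat.le_one_iff_eq_zero_or_eq_one.1
    ((Submodule.finrank_mono (inf_le_left : fixSpace ρ x ⊓ fixSpace ρ y ≤ fixSpace ρ x)).trans_eq h1) with h0 | h0
  · exfalso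
    rw [Module.natCard_eq_pow_finrank (K := K) (V := ↥(fixSpace ρ x)),
      Module.natCard_eq_pow_finrank (K := K) (V := ↥(fixSpace ρ x ⊓ fixSpace ρ y)), h1, h0, hq,
      ← ZMod.natCast_eq_natCast_iff, pow_one, pow_zero, Nat.cast_one] at h
    have := order_six hp hp6 (n := 1) le_rfl (by omega) (by rw [pow_one]; exact h)
    omega
  · have e1 : fixSpace ρ x ⊓ fixSpace ρ y = fixSpace ρ x :=
      Submodule.eq_of_le_of_finrank_eq inf_le_left (h0.trans h1.symm)
    exact Submodule.eq_of_le_of_finrank_eq (inf_eq_left.1 e1) (h1.trans (finrank_fix hq hp hp6 ρ hρ hy).symm)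

/-- Commuting elements of order `p` generate a cyclic group. -/
theorem mem_zpowers_of_commute (hp0 : (p : K) ≠ 0) {a b : G} (ha : orderOf a = p) (hb : orderOf b = p)
    (hc : a * b = b * a) : a ∈ Subgroup.zpowers b := by
  by_contra hab
  have hpa : a ^ p = 1 := ha ▸ pow_orderOf_eq_one a
  have hpb : b ^ p = 1 := hb ▸ pow_orderOf_eq_one b
  have hcc : Commute a b := hc
  set L := fixSpace ρ b with hL
  have hfix : ∀ i : ℕ, fixSpace ρ (a * b ^ i) = L := fun i => by
    refine fix_eq hq hp hp6 ρ hρ (orderOf_eq_prime ?_ fun h => hab ?_) hb ?_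
    · rw [(hcc.pow_right i).mul_pow, hpa, ← pow_mul, mul_comm, pow_mul, hpb, one_pow, mul_one]
    · rw [eq_inv_of_mul_eq_one_left h]
      exact inv_mem (Subgroup.npow_mem_zpowers b i)
    · exact (hcc.mul_left ((Commute.refl b).pow_left i)).eq
  -- averaging over the subgroups of order `p`
  have hkey : ∀ v : Fin 7 → K, v ∈ L := by
    intro v
    have hmem : ((∑ i ∈ Finset.range p, ∑ k ∈ Finset.range p, ρ ((a * b ^ i) ^ k)) +
        (∑ k ∈ Finset.range p, ρ (b ^ k))) *ᵥ v ∈ L := by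
      rw [Matrix.add_mulVec, Matrix.sum_mulVec]
      refine add_mem (sum_mem fun i _ => ?_) (sum_pow_fix ρ hpb v)
      rw [← hfix i]
      exact sum_pow_fix ρ (by rw [(hcc.pow_right i).mul_pow, hpa, ← pow_mul, mul_comm, pow_mul, hpb, one_pow, mul_one]) v
    have hB : ∀ k ∈ Finset.range p, k ≠ 0 →
        (∑ i ∈ Finset.range p, ρ (b ^ (i * k))) = ∑ i ∈ Finset.range p, ρ (b ^ i) := by
      intro k hk hk0
      refine Finset.sum_bij (fun i _ => i * k % p) (fun i _ => Finset.mem_range.2 (Nat.mod_lt _ (by omega))) ?_ ?_ ?_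
      · intro i hi i' hi' e
        have e' : (i : ZMod p) * k = (i' : ZMod p) * k := by
          rw [← Nat.cast_mul, ← Nat.cast_mul, ZMod.natCast_eq_natCast_iff']; exact e
        have hk' : (k : ZMod p) ≠ 0 := fun h0 => by
          have := Nat.le_of_dvd (by omega) ((ZMod.natCast_eq_zero_iff k p).1 h0)
          simp at hk; omega
        have := mul_right_cancel₀ hk' e'
        rw [ZMod.natCast_eq_natCast_iff', Nat.mod_eq_of_lt (Finset.mem_range.1 hi),
          Nat.mod_eq_of_lt (Finset.mem_range.1 hi')] at this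
        exact this
      · intro j hj
        have hk' : (k : ZMod p) ≠ 0 := fun h0 => by
          have := Nat.le_of_dvd (by omega) ((ZMod.natCast_eq_zero_iff k p).1 h0)
          simp at hk; omega
        refine ⟨((j : ZMod p) / k).val, Finset.mem_range.2 (ZMod.val_lt _), ?_⟩
        have e : ((((j : ZMod p) / k).val * k : ℕ) : ZMod p) = j := by
          rw [Nat.cast_mul, ZMod.natCast_zmod_val, div_mul_cancel₀ _ hk']
        rw [ZMod.natCast_eq_natCast_iff', Nat.mod_eq_of_lt (Finset.mem_range.1 hj)] at e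
        exact e
      · intro i _
        rw [← pow_mod_orderOf b (i * k), hb]
    have hsum : (∑ i ∈ Finset.range p, ∑ k ∈ Finset.range p, ρ ((a * b ^ i) ^ k)) +
        (∑ k ∈ Finset.range p, ρ (b ^ k)) =
        (p : K) • (1 : Matrix (Fin 7) (Fin 7) K) +
          (∑ k ∈ Finset.range p, ρ (a ^ k)) * (∑ k ∈ Finset.range p, ρ (b ^ k)) := by
      rw [Finset.sum_comm, Finset.sum_mul]
      have h1 : ∀ k ∈ Finset.range p, (∑ i ∈ Finset.range p, ρ ((a * b ^ i) ^ k)) =
          ρ (a ^ k) * ∑ i ∈ Finset.range p, ρ (b ^ (i * k)) := fun k _ => by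
        rw [Finset.mul_sum]
        exact Finset.sum_congr rfl fun i _ => by rw [(hcc.pow_right i).mul_pow, map_mul, ← pow_mul]
      rw [Finset.sum_congr rfl h1, ← Finset.add_sum_erase _ _ (Finset.mem_range.2 (show 0 < p by omega)),
        ← Finset.add_sum_erase _ (fun k => ρ (a ^ k) * ∑ j ∈ Finset.range p, ρ (b ^ j))
          (Finset.mem_range.2 (show 0 < p by omega)),
        Finset.sum_congr rfl (fun k hk => by
          rw [hB k (Finset.mem_of_mem_erase hk) (Finset.ne_of_mem_erase hk)] :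
          ∀ k ∈ (Finset.range p).erase 0, ρ (a ^ k) * ∑ i ∈ Finset.range p, ρ (b ^ (i * k)) =
            ρ (a ^ k) * ∑ j ∈ Finset.range p, ρ (b ^ j))]
      simp only [mul_zero, pow_zero, map_one, one_mul, Finset.sum_const, Finset.card_range]
      rw [← Nat.cast_smul_eq_nsmul K]
      abel
    rw [hsum, Matrix.add_mulVec, ← Matrix.mulVec_mulVec, Matrix.smul_mulVec, Matrix.one_mulVec] at hmem
    have hAB : (∑ k ∈ Finset.range p, ρ (a ^ k)) *ᵥ ((∑ k ∈ Finset.range p, ρ (b ^ k)) *ᵥ v) ∈ L := by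
      have h0 := sum_pow_fix ρ hpa ((∑ k ∈ Finset.range p, ρ (b ^ k)) *ᵥ v)
      rwa [show fixSpace ρ a = L by simpa using hfix 0] at h0
    have := L.smul_mem ((p : K)⁻¹) (by simpa using sub_mem hmem hAB : (p : K) • v ∈ L)
    rwa [smul_smul, inv_mul_cancel₀ hp0, one_smul] at this
  have h1 := finrank_fix hq hp hp6 ρ hρ hb
  rw [← hL, show L = ⊤ from eq_top_iff.2 fun v _ => hkey v, finrank_top] at h1
  simp at h1

/-- The `p`-subgroups are cyclic. -/
theorem cyclic_of_seven (hp0 : (p : K) ≠ 0) (P : Subgroup G) (hP : IsPGroup p ↥P) : IsCyclic ↥P := by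
  rcases subsingleton_or_nontrivial ↥P with h | h
  · infer_instance
  have hpdvd : p ∣ Nat.card ↥(Subgroup.center ↥P) := by
    have := hP.center_nontrivial
    obtain ⟨n, e⟩ := IsPGroup.iff_card.1 (hP.to_subgroup (Subgroup.center ↥P))
    rcases n with _ | n
    · rw [pow_zero, Nat.card_eq_one_iff_unique] at e
      exact absurd e.1 (not_subsingleton _)
    · exact e ▸ dvd_pow_self p n.succ_ne_zero
  obtain ⟨z, hz⟩ := exists_prime_orderOf_dvd_card' p hpdvd
  have hzP : orderOf ((z : ↥P) : G) = p := by rw [Subgroup.orderOf_coe, Subgroup.orderOf_coe, hz]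
  have key : ∀ u : ↥P, orderOf u = p → u ∈ Subgroup.zpowers (z : ↥P) := fun u hu => by
    have hc : (u : G) * (z : ↥P) = (z : ↥P) * u :=
      congrArg Subtype.val (Subgroup.mem_center_iff.1 z.2 u)
    obtain ⟨k, hk⟩ := mem_zpowers_of_commute hq hp hp6 ρ hρ hp0 (by rw [Subgroup.orderOf_coe, hu]) hzP hc
    exact ⟨k, Subtype.ext (by simpa using hk)⟩
  refine AbelianConj.isCyclic_of_unique hP (fun u v hu hv => ?_) (Or.inl (by omega))
  have e : Subgroup.zpowers v = Subgroup.zpowers (z : ↥P) :=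
    Subgroup.eq_of_le_of_card_ge (Subgroup.zpowers_le.2 (key v hv))
      (by rw [Nat.card_zpowers, Nat.card_zpowers, hv, Subgroup.orderOf_coe, hz])
  exact e ▸ key u hu

end Cfsg.Agent.Lib.Ree
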