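import Cfsg.Agent.Lib.Ree.Base
import Cfsg.Agent.Lib.Twisted.IsoG2
import Mathlib

/-!
The seven-dimensional representation of G2 in characteristic three, inside the adjoint module.
-/

set_option autoImplicit false

namespace Cfsg.Agent.Lib.Ree

set_option maxHeartbeats 400000

open Cfsg.Lie Cfsg.Agent.Lib.Chev Cfsg.Agent.Lib.Twisted

variable {K : Type*} [Field K]

/-- The selection of the seven coordinates. -/
theorem seven_sel : IsoData.selOK chevG2 g2Iso.A g2Iso.V = true := g2Iso_facts.V_sel

theorem seven_len : (7 : ℕ) = g2Iso.V.length := rfl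

/-- The seven-dimensional block of a matrix. -/
noncomputable def sevenBlk (g : GG K) : Matrix (Fin 7) (Fin 7) K :=
  IsoData.blk seven_sel seven_len (IsoData.toFin chevG2 (g : Matrix chevG2.Idx chevG2.Idx K))

theorem sevenBlk_one : sevenBlk (1 : GG K) = 1 := by
  rw [sevenBlk, Units.val_one, map_one, IsoData.blk_one]

theorem closed_seven [Finite K] [CharP K 3] {g : GG K} (hg : g ∈ chevG2.group K) :
    IsoData.Closed g2Iso.A g2Iso.V (IsoData.toFin chevG2 (g : Matrix chevG2.Idx chevG2.Idx K)) := by
  have : CharP K g2Iso.p := ‹CharP K 3›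
  induction hg using Subgroup.closure_induction with
  | mem x hx =>
    obtain ⟨r, t, e⟩ := hx
    obtain ⟨-, -, hneg, -, hcl, -⟩ := IsoData.rootFacts g2Iso_facts r.2
    have hx' : chevG2.x K r.val t = chevG2.xMat K r t := by rw [ChevalleyDatum.x, dif_pos r.2]
    rw [e, ← hx', IsoData.toFin_x chevG2 r.2 hneg]
    exact IsoData.closed_of_closedT hcl t
  | one => rw [Units.val_one, map_one]; exact IsoData.closed_one _ _ _
  | mul a b _ _ ha hb => rw [Units.val_mul, map_mul]; exact IsoData.closed_mul ha hb
  | inv a _ ha =>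
    have : Finite (GG K) := inferInstance
    have hord : (a⁻¹ : GG K) = a ^ (orderOf a - 1) := by
      refine inv_eq_of_mul_eq_one_right ?_
      rw [← pow_succ', Nat.sub_add_cancel (orderOf_pos a), pow_orderOf_eq_one]
    rw [hord, Units.val_pow_eq_pow_val, map_pow]
    generalize orderOf a - 1 = n
    induction n with
    | zero => rw [pow_zero]; exact IsoData.closed_one _ _ _
    | succ n ih => rw [pow_succ]; exact IsoData.closed_mul ih ha

/-- The representation on a subgroup of G2. -/
noncomputable def sevenRep [Finite K] [CharP K 3] (H : Subgroup (GG K)) (hH : H ≤ chevG2.group K) :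
    ↥H →* Matrix (Fin 7) (Fin 7) K where
  toFun g := sevenBlk (g : GG K)
  map_one' := sevenBlk_one
  map_mul' a b := by
    show sevenBlk ((a : GG K) * (b : GG K)) = sevenBlk (a : GG K) * sevenBlk (b : GG K)
    rw [sevenBlk, Units.val_mul, map_mul, IsoData.blk_mul seven_sel seven_len (closed_seven (hH a.2))
      (closed_seven (hH b.2))]
    rfl

theorem sevenBlk_tor (a b : Kˣ) : sevenBlk (tor a b) 4 4 = (chi a b 7 : K) := by
  have h : IsoData.pick seven_sel seven_len 4 =
      finSumFinEquiv (Sum.inr (⟨7, by decide⟩ : Fin chevG2.nroots)) := by decide +kernel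
  rw [sevenBlk, IsoData.blk, Matrix.submatrix_apply, h, IsoData.toFin_apply, tor, coe_torusHom,
    ← torusFun_cv]
  simp [ChevalleyDatum.charDiag]

end Cfsg.Agent.Lib.Ree
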