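import Cfsg.Agent.Lib.Ree.Centralizer
import Cfsg.Agent.Lib.Ree.Seven
import Cfsg.Agent.Lib.Ree.SevenRep
import Cfsg.Agent.Lib.SL2.Orders
import Cfsg.Agent.S1073

/-!
The Sylow subgroups of `²G₂(q)` for primes greater than three are cyclic.
-/

set_option autoImplicit false

namespace Cfsg.Agent.Lib.Ree

set_option maxHeartbeats 400000

open Cfsg.Lie Cfsg.Agent.Lib.Chev
open scoped MatrixGroups

/-- A cyclic subgroup containing the full `p`-part of the order forces cyclic Sylow subgroups. -/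
theorem sylow_cyclic_of_witness {G : Type*} [Group G] [Finite G] {p : ℕ} [Fact p.Prime] (C : Subgroup G)
    (hC : IsCyclic ↥C) (h : p ^ (Nat.card G).factorization p ∣ Nat.card ↥C) (P : Sylow p G) :
    IsCyclic ↥(P : Subgroup G) := by
  obtain ⟨Q, hQ⟩ := Sylow.exists_subgroup_card_pow_prime p h
  have hcard : Nat.card ↥(Q.map C.subtype) = p ^ (Nat.card G).factorization p := by
    rw [← hQ, Subgroup.card_map_of_injective C.subtype_injective]
  let S : Sylow p G := Sylow.ofCard (Q.map C.subtype) hcard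
  have : IsCyclic ↥(Q.map C.subtype) :=
    isCyclic_of_surjective (Q.equivMapOfInjective C.subtype C.subtype_injective) (MulEquiv.surjective _)
  have : IsCyclic ↥(S : Subgroup G) := this
  exact isCyclic_of_surjective (Sylow.equiv S P) (MulEquiv.surjective _)

variable {K : Type*} [Field K] [Fintype K] {m : ℕ}

theorem weyl_elliptic (h4 : Fintype.card K % 4 = 3) : SL2.IsElliptic (SL2.weyl : SL(2, K)) := by
  intro x hx
  have : IsSquare (-1 : K) := ⟨x, by simp [SL2.tr] at hx; linear_combination -hx⟩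
  exact FiniteField.isSquare_neg_one_iff.1 this h4

namespace Facts

variable (F : Facts K m)
include F

theorem exists_slG_order : ∃ x : ↥(RG K m), 3 ^ (2 * m + 1) + 1 ∣ 2 * orderOf x := by
  have he := weyl_elliptic F.card_mod_four
  obtain ⟨g, hg⟩ := (SL2.isCyclic_centralizer_elliptic he).exists_generator
  have hord : orderOf (g : SL(2, K)) = 3 ^ (2 * m + 1) + 1 := by
    rw [Subgroup.orderOf_coe, orderOf_eq_card_of_forall_mem_zpowers hg, SL2.card_centralizer_elliptic he,
      F.card_field]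
  refine ⟨F.slG g, hord ▸ orderOf_dvd_of_pow_eq_one ?_⟩
  have h : F.slG ((g : SL(2, K)) ^ orderOf (F.slG g)) = 1 := by rw [map_pow, pow_orderOf_eq_one]
  rw [mul_comm, pow_mul, sq]
  rcases F.slG_eq_one_iff.1 h with e | e <;> rw [e]
  · exact one_mul 1
  · exact (neg_mul_neg _ _).trans (one_mul 1)

theorem sevenRep_injective (hm : 1 ≤ m) :
    haveI := F.charP
    Function.Injective (sevenRep (RG K m) (twistedG2_le_group _)) := by
  haveI := F.charP
  set ρ := sevenRep (RG K m) (twistedG2_le_group (3 ^ m)) with hρ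
  haveI := (S1073.result hm F.card_field).1
  have hinv : ρ F.invG ≠ 1 := by
    intro h
    have h' : sevenBlk (invol K m) 4 4 = (1 : Matrix (Fin 7) (Fin 7) K) 4 4 := congrFun (congrFun h 4) 4
    rw [invol, hEl, sevenBlk_tor, (chi_hEl (3 ^ m) (-1 : Kˣ)).1, Matrix.one_apply_eq, (odd_theta m).neg_one_pow,
      Units.val_neg, Units.val_one] at h'
    exact F.neg_one_ne_one h'
  have hker : ρ.toHomUnits.ker = ⊥ := by
    rcases ρ.toHomUnits.normal_ker.eq_bot_or_eq_top with h | h
    · exact h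
    · exact absurd (congrArg Units.val (MonoidHom.mem_ker.1 (h ▸ Subgroup.mem_top F.invG))) hinv
  intro a b hab
  exact (MonoidHom.ker_eq_bot_iff _).1 hker (Units.ext hab)

/-- Sylow subgroups for primes greater than three are cyclic. -/
theorem sylow_cyclic_large (hm : 1 ≤ m) {p : ℕ} [Fact p.Prime] (hp : 3 < p) (P : Sylow p ↥(RG K m)) :
    IsCyclic ↥(P : Subgroup ↥(RG K m)) := by
  obtain ⟨r, hr⟩ : ∃ r, 3 ^ (2 * m + 1) = r + 1 := ⟨_, (Nat.succ_pred_eq_of_pos (by positivity)).symm⟩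
  have hpp : p.Prime := Fact.out
  have hcard : Nat.card ↥(RG K m) = (r + 1) ^ 3 * r * (r + 2) * ((r + 1) * r + 1) := by
    rw [F.card_group, hr, Nat.add_sub_cancel]
    ring
  have hnot3 : ¬ p ∣ 3 := fun h => absurd (Nat.le_of_dvd (by norm_num) h) (by omega)
  have hcopq : p.Coprime (r + 1) := by
    rw [← hr]
    exact Nat.Coprime.pow_right _ ((hpp.coprime_iff_not_dvd).2 hnot3)
  set v := (Nat.card ↥(RG K m)).factorization p
  have hv : p ^ v ∣ (r + 1) ^ 3 * r * (r + 2) * ((r + 1) * r + 1) := hcard ▸ Nat.ordProj_dvd _ p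
  rw [mul_assoc _ r, mul_assoc _ (r * (r + 2))] at hv
  replace hv : p ^ v ∣ r * (r + 2) * ((r + 1) * r + 1) :=
    (Nat.Coprime.pow v 3 hcopq).dvd_of_dvd_mul_left hv
  have cop : ∀ {n : ℕ}, ¬ p ∣ n → (p ^ v).Coprime n := fun h => ((hpp.coprime_iff_not_dvd).2 h).pow_left v
  by_cases h1 : p ∣ r
  · refine sylow_cyclic_of_witness ((H1 K (3 ^ m)).subgroupOf (RG K m)) ?_ ?_ P
    · have := F.torus_cyclic
      exact isCyclic_of_surjective (Subgroup.subgroupOfEquivOfLe
        (inf_le_right : H1 K (3 ^ m) ≤ RG K m)).symm (MulEquiv.surjective _)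
    · rw [Nat.card_congr (Subgroup.subgroupOfEquivOfLe (inf_le_right : H1 K (3 ^ m) ≤ RG K m)).toEquiv,
        F.card_torus, hr, Nat.add_sub_cancel]
      have n2 : ¬ p ∣ r + 2 := fun h => absurd (Nat.le_of_dvd (by norm_num) ((Nat.dvd_add_right h1).1 h)) (by omega)
      have n3 : ¬ p ∣ (r + 1) * r + 1 := fun h => hpp.not_dvd_one ((Nat.dvd_add_right (h1.mul_left _)).1 h)
      exact (cop n2).dvd_of_dvd_mul_right ((cop n3).dvd_of_dvd_mul_right hv)
  by_cases h2 : p ∣ r + 2
  · obtain ⟨x, hx⟩ := F.exists_slG_order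
    refine sylow_cyclic_of_witness (Subgroup.zpowers x) inferInstance ?_ P
    rw [hr, show r + 1 + 1 = r + 2 from rfl] at hx
    have n3 : ¬ p ∣ (r + 1) * r + 1 := fun h => by
      have e : (r + 1) * r + 1 + (r + 2) = r * (r + 2) + 3 := by ring
      exact hnot3 ((Nat.dvd_add_right (h2.mul_left r)).1 (e ▸ h.add h2))
    have n2 : ¬ p ∣ 2 := fun h => absurd (Nat.le_of_dvd (by norm_num) h) (by omega)
    rw [Nat.card_zpowers]
    exact (cop n2).dvd_of_dvd_mul_left
      (((cop h1).dvd_of_dvd_mul_left ((cop n3).dvd_of_dvd_mul_right hv)).trans hx)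
  by_cases h3 : p ∣ (r + 1) * r + 1
  · haveI := F.charP
    have hp6 : ((r + 1 : ℕ) : ZMod p) ^ 2 - ((r + 1 : ℕ) : ZMod p) + 1 = 0 := by
      have h := (ZMod.natCast_eq_zero_iff ((r + 1) * r + 1) p).2 h3
      push_cast at h ⊢
      linear_combination h
    have hp0 : (p : K) ≠ 0 := fun h => by
      rw [CharP.cast_eq_zero_iff K 3] at h
      exact absurd ((Nat.prime_dvd_prime_iff_eq Nat.prime_three hpp).1 h) (by omega)
    exact cyclic_of_seven (q := r + 1) (by rw [F.card_nat, hr]) hp hp6 _ (F.sevenRep_injective hm) hp0 _ P.2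
  · refine sylow_cyclic_of_witness ⊥ inferInstance ?_ P
    have h : p ^ v ∣ 1 := (((cop h1).mul_right (cop h2)).mul_right (cop h3)).dvd_of_dvd_mul_right
      (by rwa [one_mul])
    exact h.trans (one_dvd _)

end Facts

end Cfsg.Agent.Lib.Ree
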