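import Cfsg.Agent.Lib.Twisted.Core.Group
import Cfsg.Agent.Lib.Twisted.Ree.G2Action

/-!
The orbit system of `²G₂(q)`: one orbit, whose longest element is that of the Weyl group of G2.
-/

set_option autoImplicit false

namespace Cfsg.Agent.Lib.Ree

set_option maxHeartbeats 400000

open Cfsg.Lie Cfsg.Agent.Lib.Chev Cfsg.Agent.Lib.Twisted

variable {K : Type*} [Field K] {m : ℕ}

theorem root_lt : ∀ r : Fin chevG2.nroots, g2Iso.root r.val < chevG2.nroots := by decide +kernel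

theorem root_root : ∀ r : Fin chevG2.nroots, g2Iso.root (g2Iso.root r.val) = r.val := by decide +kernel

/-- The symmetry of the roots. -/
noncomputable def g2Rho : Equiv.Perm (Fin chevG2.nroots) :=
  Function.Involutive.toPerm (fun r => ⟨g2Iso.root r.val, root_lt r⟩) fun r => Fin.ext (root_root r)

theorem g2Rho_val (r : Fin chevG2.nroots) : (g2Rho r).val = g2Iso.root r.val := rfl

theorem root_pos : ∀ r : Fin chevG2.nroots,
    chevG2.nroots / 2 ≤ g2Iso.root r.val ↔ chevG2.nroots / 2 ≤ r.val := by decide +kernel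

theorem root_simple : ∀ i : Fin chevG2.rank, g2Iso.root (chevG2.simple i.val) = chevG2.simple (1 - i.val) := by
  decide +kernel

theorem root_refl : ∀ i : Fin chevG2.rank, ∀ r : Fin chevG2.nroots,
    g2Iso.root (refl G2.cert i.val r.val) = refl G2.cert (1 - i.val) (g2Iso.root r.val) := by decide +kernel

theorem expo_simple : ∀ i : Fin chevG2.rank,
    g2Iso.expo (ng chevG2 (chevG2.simple i.val)) = g2Iso.expo (chevG2.simple i.val) ∧
      Odd (g2Iso.expo (chevG2.simple i.val)) := by decide +kernel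

/-- The twist defining `²G₂`. -/
noncomputable def g2Twist (σ : ↥(chevG2.group K) →* ↥(chevG2.group K)) (hσ : ReeG.IsReeSigma (3 ^ m) σ) :
    Core.Twist chevG2 G2.cert K where
  hh := rooted_G2
  sigma := σ
  rho := g2Rho
  node i := 1 - i
  f r t := t ^ ReeG.lam (3 ^ m) r
  sigma_x r t g hg := by
    have e : g = xG checked_G2 r.val t := Subtype.ext (by rw [hg, xG, dif_pos r.2])
    rw [e, hσ.map_x r.val r.2 t, xG, dif_pos (root_lt r)]
    rfl
  rho_pos r := by rw [g2Rho_val]; exact root_pos r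
  node_lt i _ := by show 1 - i < 2; omega
  rho_simple i hi := by rw [g2Rho_val]; exact root_simple ⟨i, hi⟩
  rho_sigma i hi := Equiv.ext fun r => Fin.ext (by
    have h1 : (1 - i) < chevG2.rank := by show 1 - i < 2; omega
    rw [Equiv.Perm.mul_apply, Equiv.Perm.mul_apply, g2Rho_val, checked_G2.sigma_val hi, checked_G2.sigma_val h1,
      g2Rho_val]
    exact root_refl ⟨i, hi⟩ r)
  f_one i _ := one_pow _
  f_ne i _ t ht := pow_ne_zero _ ht
  f_neg i hi t ht := by
    obtain ⟨h1, h2⟩ := expo_simple ⟨i, hi⟩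
    show (-t⁻¹) ^ (3 ^ m * g2Iso.expo (ng chevG2 (chevG2.simple i))) = -(t ^ (3 ^ m * g2Iso.expo (chevG2.simple i)))⁻¹
    simp only at h1 h2
    rw [h1, ((Odd.pow (by decide : Odd 3)).mul h2).neg_pow, inv_pow]

theorem supp_univ : ∀ r : Fin chevG2.nroots, Supp chevG2 G2.cert ({0, 1} : Finset ℕ) r.val := by
  intro r l hl hn
  have : l < 2 := hl
  simp at hn
  omega

theorem wperm_L0 (r : Fin chevG2.nroots) : (wperm checked_G2 ReeG.L0 r).val = ng chevG2 r.val := by
  rw [checked_G2.wperm_val ReeG.isWord_L0]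
  exact (by decide +kernel : ∀ r : Fin chevG2.nroots, perm G2.cert ReeG.L0 r.val = ng chevG2 r.val) r

theorem invs_L0 (r : Fin chevG2.nroots) : r ∈ invs (wperm checked_G2 ReeG.L0) ↔ chevG2.nroots / 2 ≤ r.val := by
  rw [checked_G2.mem_invs, wperm_L0]
  have h : r.val < 12 := r.2
  show (6 ≤ r.val ∧ ¬ 6 ≤ 12 - 1 - r.val) ↔ 6 ≤ r.val
  omega

theorem uGrp_L0 : Core.Twist.uGrp chevG2 K (wperm checked_G2 ReeG.L0) = chevG2.posUnipotent K := by
  rw [Core.Twist.uGrp, checked_G2.posUnipotent_eq]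
  congr 1
  ext r
  exact ⟨fun ⟨a, ha, e⟩ => e ▸ ⟨(invs_L0 a).1 ha, a.2⟩, fun hr => ⟨⟨r, hr.2⟩, (invs_L0 _).2 hr.1, rfl⟩⟩

variable [Fintype K] (hK : Fintype.card K = 3 ^ (2 * m + 1))
include hK

theorem fixed_eq_fixSub {σ : ↥(chevG2.group K) →* ↥(chevG2.group K)} (hσ : ReeG.IsReeSigma (3 ^ m) σ) :
    (g2Twist σ hσ).fixedGroup = fixSub σ := rfl

/-- The orbit system of `²G₂`. -/
noncomputable def g2Sys (σ : ↥(chevG2.group K) →* ↥(chevG2.group K)) (hσ : ReeG.IsReeSigma (3 ^ m) σ) :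
    Core.OrbitSys (g2Twist σ hσ) (Fin 1) where
  G := twistedG2 K (3 ^ m)
  J _ := {0, 1}
  word _ := ReeG.L0
  J_lt _ := by decide
  J_nonempty _ := ⟨0, by simp⟩
  J_inj := fun a b _ => Subsingleton.elim a b
  J_cover i hi := ⟨0, by have : i < 2 := hi; simp; omega⟩
  J_node _ i hi := by
    show 1 - i ∈ ({0, 1} : Finset ℕ)
    simp only [Finset.mem_insert, Finset.mem_singleton] at hi ⊢; omega
  J_trans _ i hi i' hi' := by
    simp only [Finset.mem_insert, Finset.mem_singleton] at hi hi'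
    rcases hi with rfl | rfl <;> rcases hi' with rfl | rfl
    exacts [⟨0, rfl⟩, ⟨1, rfl⟩, ⟨1, rfl⟩, ⟨0, rfl⟩]
  word_mem _ i hi := by
    simp [ReeG.L0] at hi ⊢; omega
  word_invs _ r := (invs_L0 r).trans ⟨fun h => ⟨h, supp_univ r⟩, fun h => h.1⟩
  word_sq _ := Equiv.ext fun r => Fin.ext (by
    rw [Equiv.Perm.mul_apply, wperm_L0, wperm_L0, Checked.ng_ng r.2]; rfl)
  word_comm _ := Equiv.ext fun r => Fin.ext (by
    show (g2Rho (wperm checked_G2 ReeG.L0 r)).val = (wperm checked_G2 ReeG.L0 (g2Rho r)).val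
    rw [g2Rho_val, wperm_L0, wperm_L0, g2Rho_val]
    exact (by decide +kernel : ∀ r : Fin chevG2.nroots,
      g2Iso.root (ng chevG2 r.val) = ng chevG2 (g2Iso.root r.val)) r)
  G_le := by
    haveI := ReeG.charP_of_card hK
    rw [fixed_eq_fixSub hK hσ]
    exact ReeG.le_fixSub hσ (ReeG.pow_theta hK)
  unip _ := by
    haveI := ReeG.charP_of_card hK
    rintro g ⟨hu, hf⟩
    rw [SetLike.mem_coe, uGrp_L0] at hu
    obtain ⟨t, u, v, rfl⟩ := ReeG.fixed_unipotent_mem hσ (ReeG.pow_theta hK) hu hf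
    exact ReeG.reeU_mem t u v
  rep _ := by
    haveI := ReeG.charP_of_card hK
    exact ⟨_, ReeG.n0_mem, 1, one_mem _, by rw [mul_one, ReeG.coe_n0]⟩
  torus := by
    haveI := ReeG.charP_of_card hK
    obtain ⟨k, hk⟩ := ReeG.card_units_eq hK
    rintro g ⟨hd, hf⟩
    obtain ⟨s, rfl⟩ := ReeG.fixed_torus hσ g hd hf
    exact ReeG.ct_mem hσ (ReeG.pow_theta hK) hk s
  d := 2
  d_ne := two_ne_zero
  card_unip _ := by
    haveI := ReeG.charP_of_card hK
    rw [uGrp_L0, fixed_eq_fixSub hK hσ]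
    have e : Nat.card ↥(chevG2.posUnipotent K ⊓ fixSub σ) = Nat.card (K × K × K) := by
      refine (Nat.card_congr (Equiv.ofBijective (fun x : K × K × K =>
        (⟨(ReeG.reeU (3 ^ m) x.1 x.2.1 x.2.2 : GL chevG2.Idx K), ReeG.reeU_mem_pos _ _ _ _,
          ReeG.le_fixSub hσ (ReeG.pow_theta hK) (ReeG.reeU_mem _ _ _)⟩ : ↥(chevG2.posUnipotent K ⊓ fixSub σ)))
        ⟨fun x y e => ?_, fun g => ?_⟩)).symm
      · have e' : (ReeG.reeU (3 ^ m) x.1 x.2.1 x.2.2 : GL chevG2.Idx K) =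
            (ReeG.reeU (3 ^ m) y.1 y.2.1 y.2.2 : GL chevG2.Idx K) :=
          congrArg (fun z : ↥(chevG2.posUnipotent K ⊓ fixSub σ) => (z : GL chevG2.Idx K)) e
        obtain ⟨a, b, c⟩ := ReeG.reeU_injective (ReeG.pow_theta hK) (Subtype.ext e')
        exact Prod.ext a (Prod.ext b c)
      · obtain ⟨t, u, v, e⟩ := ReeG.fixed_unipotent_mem hσ (ReeG.pow_theta hK) g.2.1 g.2.2
        exact ⟨(t, u, v), Subtype.ext e.symm⟩
    have hc : (invs (wperm checked_G2 ReeG.L0)).card = 6 := by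
      rw [show invs (wperm checked_G2 ReeG.L0) = Finset.univ.filter fun r : Fin chevG2.nroots =>
        chevG2.nroots / 2 ≤ r.val from Finset.ext fun r => (invs_L0 r).trans (by simp)]
      decide +kernel
    rw [e, Nat.card_prod, Nat.card_prod]
    show _ = _ ^ (invs (wperm checked_G2 ReeG.L0)).card
    rw [hc]; ring

/-- The fixed elements of the Weyl group are `1` and the longest one. -/
theorem g2_fixW_iff {σ : ↥(chevG2.group K) →* ↥(chevG2.group K)} (hσ : ReeG.IsReeSigma (3 ^ m) σ)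
    (w : Equiv.Perm (Fin chevG2.nroots)) :
    (g2Twist σ hσ).FixW w ↔ w = 1 ∨ w = wperm checked_G2 ReeG.L0 := by
  constructor
  · intro hw
    refine (g2Sys hK σ hσ).fixW_induction (P := fun w => w = 1 ∨ w = wperm checked_G2 ReeG.L0) (Or.inl rfl) ?_ hw
    intro v j _ _ hv
    have hsq := (g2Sys hK σ hσ).word_sq j
    rcases hv with hv | hv
    · refine Or.inr ?_
      have := congrArg (· * (g2Sys hK σ hσ).wJ j) hv
      simp only [mul_assoc, show (g2Sys hK σ hσ).wJ j * (g2Sys hK σ hσ).wJ j = 1 from hsq, mul_one, one_mul] at this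
      exact this
    · refine Or.inl ?_
      have := congrArg (· * (g2Sys hK σ hσ).wJ j) hv
      simp only [mul_assoc, show (g2Sys hK σ hσ).wJ j * (g2Sys hK σ hσ).wJ j = 1 from hsq, mul_one] at this
      rw [this]
      exact hsq
  · rintro (rfl | rfl)
    · exact Core.Twist.FixW.one _
    · exact (g2Sys hK σ hσ).wJ_fixW 0

/-- `|²G₂(q)|`. -/
theorem g2_card : Nat.card ↥(twistedG2 K (3 ^ m)) =
    (3 ^ (2 * m + 1)) ^ 3 * (3 ^ (2 * m + 1) - 1) * ((3 ^ (2 * m + 1)) ^ 3 + 1) := by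
  classical
  haveI := ReeG.charP_of_card hK
  obtain ⟨σ, hσ⟩ := ReeG.exists_sigma hK
  set S := g2Sys hK σ hσ with hS
  have hne : (1 : Equiv.Perm (Fin chevG2.nroots)) ≠ wperm checked_G2 ReeG.L0 := fun h => by
    have := congrArg Fin.val (congrArg (fun f : Equiv.Perm (Fin chevG2.nroots) => f ⟨6, by decide⟩) h)
    simp only [Equiv.Perm.one_apply, wperm_L0] at this
    exact absurd this (by decide)
  have hU : Nat.card ↥(chevG2.posUnipotent K ⊓ twistedG2 K (3 ^ m)) = (3 ^ (2 * m + 1)) ^ 3 := by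
    have h := S.card_pos
    rw [Nat.card_eq_fintype_card (α := K), hK, show chevG2.nroots / 2 = 3 * 2 from rfl, pow_mul] at h
    exact Nat.pow_left_injective two_ne_zero h
  have hH : Nat.card ↥(chevG2.diagonalSubgroup K ⊓ twistedG2 K (3 ^ m)) = 3 ^ (2 * m + 1) - 1 := by
    rw [ReeG.diagonal_inf_eq_range hK, ← Nat.card_congr (MonoidHom.ofInjective (ReeG.ctHom_injective _)).toEquiv,
      Nat.card_units, Nat.card_eq_fintype_card, hK]
  have e := S.card_group {1, wperm checked_G2 ReeG.L0} fun w => by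
    rw [g2_fixW_iff hK hσ]; simp
  rw [Finset.sum_pair hne, S.card_borel, Core.uGrp_one, uGrp_L0, bot_inf_eq,
    Subgroup.card_bot] at e
  show Nat.card ↥S.G = _
  rw [e]
  show Nat.card ↥(chevG2.posUnipotent K ⊓ twistedG2 K (3 ^ m)) *
      Nat.card ↥(chevG2.diagonalSubgroup K ⊓ twistedG2 K (3 ^ m)) *
      (1 + Nat.card ↥(chevG2.posUnipotent K ⊓ twistedG2 K (3 ^ m))) = _
  rw [hU, hH]
  ring

/-- A fixed element of the Borel subgroup splits inside the group. -/
theorem g2_borel_split {b : GL chevG2.Idx K} (hb : b ∈ chevG2.borelSubgroup K ⊓ twistedG2 K (3 ^ m)) :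
    ∃ u ∈ chevG2.posUnipotent K ⊓ twistedG2 K (3 ^ m),
      ∃ h ∈ chevG2.diagonalSubgroup K ⊓ twistedG2 K (3 ^ m), b = u * h := by
  haveI := ReeG.charP_of_card hK
  obtain ⟨σ, hσ⟩ := ReeG.exists_sigma hK
  set S := g2Sys hK σ hσ
  obtain ⟨u, hu, t, ht, e⟩ := Core.OrbitSys.borel_fixed_split hb.1 (S.G_le hb.2)
  exact ⟨u, ⟨hu.1, S.pos_fixed_le hu⟩, t, ⟨ht.1, S.torus ht⟩, e⟩

end Cfsg.Agent.Lib.Ree
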