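import Cfsg.Agent.Lib.Ree.Param

/-!
The action of `H¹` on the parameters of `U¹`: the involution and the fixed parameters.
-/

set_option autoImplicit false

namespace Cfsg.Agent.Lib.Ree

set_option maxHeartbeats 400000

open Cfsg.Lie Cfsg.Agent.Lib.Chev

variable {K : Type*} [Field K]

/-- The involution of `H¹`. -/
noncomputable def invol (K : Type*) [Field K] (m : ℕ) : GG K := hEl (3 ^ m) (-1 : Kˣ)

theorem invol_mul_invol (m : ℕ) : invol K m * invol K m = 1 := by
  rw [invol, hEl_mul, neg_mul_neg, one_mul, hEl_one]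

theorem invol_inv (m : ℕ) : (invol K m)⁻¹ = invol K m := inv_eq_of_mul_eq_one_left (invol_mul_invol m)

theorem odd_theta (m : ℕ) : Odd (3 ^ m) := Odd.pow (by decide)

theorem uWord_middle (m : ℕ) (u : K) : uWord (3 ^ m) 0 u 0 = X 8 (u ^ 3 ^ m) * X 10 u := by
  simp [uWord, X_zero]

namespace Facts

variable [Fintype K] {m : ℕ} (F : Facts K m)
include F

theorem invol_mem : invol K m ∈ H1 K (3 ^ m) := F.hEl_mem _

theorem invol_mem_G : invol K m ∈ twistedG2 K (3 ^ m) := (Subgroup.mem_inf.1 F.invol_mem).2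

theorem neg_one_ne_one : (-1 : K) ≠ 1 := fun h => F.two_ne_zero' (by linear_combination -h)

theorem invol_ne_one : invol K m ≠ 1 := fun h =>
  F.neg_one_ne_one (congrArg Units.val (F.hEl_injective (h.trans (hEl_one _).symm)) : ((-1 : Kˣ) : K) = (1 : Kˣ))

theorem invol_conj_uWord (t u v : K) :
    invol K m * uWord (3 ^ m) t u v * (invol K m)⁻¹ = uWord (3 ^ m) (-t) u (-v) := by
  have h1 : Even (3 * 3 ^ m + 1) := (Odd.mul (by decide) (odd_theta m)).add_odd odd_one
  have h2 : Odd (3 * 3 ^ m + 2) := (Odd.mul (by decide) (odd_theta m)).add_even (by decide)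
  rw [invol, F.hEl_conj_uWord, Units.val_neg, Units.val_one, h1.neg_one_pow, h2.neg_one_pow, one_mul, neg_one_mul,
    neg_one_mul]

/-- The only elements of `H¹` with a fixed parameter `u ≠ 0` are `1` and the involution. -/
theorem sq_eq_one_of_fix_middle {μ : K} (h : μ ^ (3 * 3 ^ m + 1) = 1) : μ ^ 2 = 1 := by
  have e1 : (μ ^ (3 * 3 ^ m + 1)) ^ 3 ^ m = μ ^ (3 ^ m + 1) := by
    rw [← pow_mul, add_mul, one_mul, pow_add, F.theta_sq, mul_comm, ← pow_succ]
  rw [h, one_pow] at e1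
  calc μ ^ 2 = μ ^ 2 * μ ^ (3 * 3 ^ m + 1) := by rw [h, mul_one]
    _ = (μ ^ (3 ^ m + 1)) ^ 3 := by rw [← pow_add, ← pow_mul]; ring_nf
    _ = 1 := by rw [← e1, one_pow]

theorem eq_one_of_fix_last {μ : K} (h : μ ^ (3 * 3 ^ m + 2) = 1) : μ = 1 := by
  have e2 : (μ ^ (3 * 3 ^ m + 2)) ^ 3 ^ m = μ ^ (2 * 3 ^ m + 1) := by
    rw [← pow_mul, add_mul, pow_add, F.theta_sq, mul_comm, ← pow_succ]
  rw [h, one_pow] at e2
  calc μ = μ * (μ ^ (2 * 3 ^ m + 1)) ^ 3 := by rw [← e2, one_pow, mul_one]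
    _ = (μ ^ (3 * 3 ^ m + 2)) ^ 2 := by rw [← pow_mul, ← pow_mul, ← pow_succ']; ring_nf
    _ = 1 := by rw [h, one_pow]

/-- An element of `H¹` fixing a non-trivial element of `U¹`. -/
theorem fix_cases {μ : Kˣ} {t u v : K} (hne : uWord (3 ^ m) t u v ≠ 1)
    (h : hEl (3 ^ m) μ * uWord (3 ^ m) t u v = uWord (3 ^ m) t u v * hEl (3 ^ m) μ) :
    μ = 1 ∨ μ = -1 ∧ t = 0 ∧ v = 0 := by
  have e := F.hEl_conj_uWord μ t u v
  rw [h, mul_inv_cancel_right] at e
  obtain ⟨et, eu, ev⟩ := F.uWord_injective e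
  by_cases ht : t = 0
  · by_cases hv : v = 0
    · have hu : u ≠ 0 := fun hu => hne (by rw [ht, hu, hv, F.uWord_zero])
      have h1 : (μ : K) ^ (3 * 3 ^ m + 1) = 1 := by
        have := mul_right_cancel₀ hu (eu.symm.trans (one_mul u).symm); exact this
      have h2 := sq_eq_one_iff.1 (F.sq_eq_one_of_fix_middle h1)
      rcases h2 with h2 | h2
      · exact Or.inl (Units.ext h2)
      · exact Or.inr ⟨Units.ext (by rw [h2, Units.val_neg, Units.val_one]), ht, hv⟩
    · refine Or.inl (Units.ext (F.eq_one_of_fix_last (mul_right_cancel₀ hv (ev.symm.trans (one_mul v).symm))))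
  · exact Or.inl (Units.ext (mul_right_cancel₀ ht (et.symm.trans (one_mul t).symm)))

theorem invol_commute_uWord_iff (t u v : K) :
    invol K m * uWord (3 ^ m) t u v = uWord (3 ^ m) t u v * invol K m ↔ t = 0 ∧ v = 0 := by
  rw [← mul_inv_eq_iff_eq_mul, F.invol_conj_uWord]
  constructor
  · intro h
    obtain ⟨et, _, ev⟩ := F.uWord_injective h
    exact ⟨(mul_eq_zero.1 (by linear_combination -et : (2 : K) * t = 0)).resolve_left F.two_ne_zero',
      (mul_eq_zero.1 (by linear_combination -ev : (2 : K) * v = 0)).resolve_left F.two_ne_zero'⟩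
  · rintro ⟨rfl, rfl⟩
    rw [neg_zero]

end Facts

end Cfsg.Agent.Lib.Ree
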