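import Cfsg.Agent.Lib.Ree.Points
import Cfsg.Agent.Lib.Ree.Torus
import Cfsg.Agent.Lib.Ree.SLEmbed
import Cfsg.Agent.Lib.Schur.LayerKill

/-!
The three layers of the unipotent subgroup of `²G₂(q)`, and the absence of invariant pairings between them.
-/

set_option autoImplicit false

namespace Cfsg.Agent.Lib.Ree

open Cfsg.Lie Cfsg.Agent.Lib.Chev Cfsg.Agent.Lib.Schur.LayerKill

variable {K : Type*} [Field K]

theorem X_swap (r s : Fin 12) (h1 : s.val ≠ r.val) (h2 : s.val ≠ ng chevG2 r.val) (a b : K) :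
    ((X s b * X r a : GG K) : Matrix chevG2.Idx chevG2.Idx K) =
      (X r a : GG K).val * (X s b : GG K).val * chevG2.wordMat K ((cTerms G2.cert r.val s.val).map fun c =>
        (c.1, (c.2.1 : K) * (-a) ^ c.2.2.1 * b ^ c.2.2.2)) := by
  rw [← checked_G2.commWord_eq r.isLt s.isLt, Units.val_mul, coe_X, coe_X]
  exact checked_G2.commutator_formula r.isLt s.isLt h1 h2 a b

theorem X_commute_of_three (h3 : (3 : K) = 0) (r s : Fin 12)
    (h : (decide (s.val ≠ r.val ∧ s.val ≠ ng chevG2 r.val) &&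
      (cTerms G2.cert r.val s.val).all fun c => decide (c.2.1 % 3 = 0 ∧ c.1 < 12)) = true) (a b : K) :
    Commute (X r a) (X s b) := by
  simp only [Bool.and_eq_true, decide_eq_true_eq, List.all_eq_true] at h
  refine (Units.ext ?_ : X s b * X r a = X r a * X s b).symm
  rw [X_swap r s h.1.1 h.1.2, Units.val_mul]
  have : chevG2.wordMat K ((cTerms G2.cert r.val s.val).map fun c =>
      (c.1, (c.2.1 : K) * (-a) ^ c.2.2.1 * b ^ c.2.2.2)) = 1 := by
    unfold ChevalleyDatum.wordMat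
    rw [List.map_map]
    refine List.prod_eq_one fun x hx => ?_
    obtain ⟨c, hc, rfl⟩ := List.mem_map.1 hx
    obtain ⟨hc0, hlt⟩ := h.2 c hc
    have : (c.2.1 : K) = 0 := by
      obtain ⟨k, hk⟩ := Int.dvd_of_emod_eq_zero hc0
      rw [hk, Int.cast_mul, Int.cast_ofNat, h3, zero_mul]
    show chevG2.x K c.1 ((c.2.1 : K) * (-a) ^ c.2.2.1 * b ^ c.2.2.2) = 1
    rw [this, zero_mul, zero_mul]
    exact checked_G2.x_zero hlt
  rw [this, mul_one]

theorem X_swap_seven_eight (h3 : (3 : K) = 0) (a b : K) :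
    X 8 b * X 7 a = X 7 a * X 8 b * X 9 (2 * a * b) := by
  refine Units.ext ?_
  rw [X_swap 7 8 (by decide) (by decide),
    show cTerms G2.cert (7 : Fin 12).val (8 : Fin 12).val = [(9, -2, 1, 1), (10, -3, 2, 1), (11, 3, 1, 2)] by decide +kernel]
  simp only [Units.val_mul, coe_X, ChevalleyDatum.wordMat, List.map_cons, List.map_nil, List.prod_cons, List.prod_nil,
    mul_one, Int.cast_neg, Int.cast_ofNat, h3, neg_zero, zero_mul]
  rw [checked_G2.x_zero (show 10 < chevG2.nroots by decide), checked_G2.x_zero (show 11 < chevG2.nroots by decide),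
    mul_one, mul_one]
  simp [pow_one]

theorem X_swap_six_ten (a b : K) : X 10 b * X 6 a = X 6 a * X 10 b * X 11 (-a * b) := by
  refine Units.ext ?_
  rw [X_swap 6 10 (by decide) (by decide),
    show cTerms G2.cert (6 : Fin 12).val (10 : Fin 12).val = [(11, 1, 1, 1)] by decide +kernel]
  simp [ChevalleyDatum.wordMat, coe_X]

/-- The products `X₉ X₁₁`. -/
def Nine (h3 : (3 : K) = 0) : Subgroup (GG K) where
  carrier := {g | ∃ a b, g = X 9 a * X 11 b}
  one_mem' := ⟨0, 0, by rw [X_zero, X_zero, one_mul]⟩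
  mul_mem' := by
    rintro _ _ ⟨a, b, rfl⟩ ⟨a', b', rfl⟩
    refine ⟨a + a', b + b', ?_⟩
    rw [mul_assoc, ← mul_assoc (X 11 b), (X_commute_of_three h3 9 11 (by decide +kernel) a' b).symm.eq,
      mul_assoc (X 9 a'), ← mul_assoc, X_add, X_add]
  inv_mem' := by
    rintro _ ⟨a, b, rfl⟩
    exact ⟨-a, -b, by rw [mul_inv_rev, X_inv, X_inv, (X_commute_of_three h3 9 11 (by decide +kernel) _ _).symm.eq]⟩

section

variable (h3 : (3 : K) = 0)

theorem nine_mem (a b : K) : X 9 a * X 11 b ∈ Nine h3 := ⟨a, b, rfl⟩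

include h3 in
/-- Conjugation moves the derived part only inside `X₉ X₁₁`. -/
def Moves (g : GG K) : Prop :=
  (∀ n ∈ Nine h3, Commute g n) ∧ ∀ d ∈ rootGen chevG2 K derSet, g * d * g⁻¹ * d⁻¹ ∈ Nine h3

theorem moves_of_gen (g : GG K) (h9 : ∀ a, Commute g (X 9 a)) (h11 : ∀ a, Commute g (X 11 a))
    (h8 : ∀ a, g * X 8 a * g⁻¹ * (X 8 a)⁻¹ ∈ Nine h3) (h10 : ∀ a, g * X 10 a * g⁻¹ * (X 10 a)⁻¹ ∈ Nine h3) :
    Moves h3 g := by
  have hn : ∀ n ∈ Nine h3, Commute g n := by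
    rintro _ ⟨a, b, rfl⟩
    exact (h9 a).mul_right (h11 b)
  have hnd : ∀ n ∈ Nine h3, ∀ r : Fin 12, 8 ≤ r.val → ∀ a, Commute (X r a) n := by
    rintro _ ⟨a, b, rfl⟩ r hr c
    have hcases : r = 8 ∨ r = 9 ∨ r = 10 ∨ r = 11 := by
      have := r.isLt
      rcases (show r.val = 8 ∨ r.val = 9 ∨ r.val = 10 ∨ r.val = 11 by omega) with h | h | h | h
      exacts [Or.inl (Fin.ext h), Or.inr (Or.inl (Fin.ext h)), Or.inr (Or.inr (Or.inl (Fin.ext h))),
        Or.inr (Or.inr (Or.inr (Fin.ext h)))]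
    refine Commute.mul_right ?_ ?_
    · rcases hcases with rfl | rfl | rfl | rfl
      exacts [X_commute_of_three h3 _ _ (by decide +kernel) _ _,
        (X_add 9 c a).trans ((congrArg _ (add_comm c a)).trans (X_add 9 a c).symm),
        X_commute_of_three h3 _ _ (by decide +kernel) _ _, X_commute_of_three h3 _ _ (by decide +kernel) _ _]
    · rcases hcases with rfl | rfl | rfl | rfl
      exacts [X_commute_of_three h3 _ _ (by decide +kernel) _ _, X_commute_of_three h3 _ _ (by decide +kernel) _ _,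
        X_commute_of_three h3 _ _ (by decide +kernel) _ _,
        (X_add 11 c b).trans ((congrArg _ (add_comm c b)).trans (X_add 11 b c).symm)]
  refine ⟨hn, fun d hd => ?_⟩
  obtain ⟨t, e⟩ := der_prod d hd
  have e' : d = X 8 (t 8) * (X 9 (t 9) * (X 10 (t 10) * X 11 (t 11))) := Units.ext (by
    rw [e]
    simp [ChevalleyDatum.wordMat, coe_X])
  have h0 : ∀ a, g * X 9 a * g⁻¹ * (X 9 a)⁻¹ ∈ Nine h3 := fun a => by
    rw [(h9 a).eq, mul_inv_cancel_right, mul_inv_cancel]; exact one_mem _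
  have h0' : ∀ a, g * X 11 a * g⁻¹ * (X 11 a)⁻¹ ∈ Nine h3 := fun a => by
    rw [(h11 a).eq, mul_inv_cancel_right, mul_inv_cancel]; exact one_mem _
  have hmul : ∀ (r : Fin 12), 8 ≤ r.val → ∀ a, g * X r a * g⁻¹ * (X r a)⁻¹ ∈ Nine h3 →
      ∀ y, g * y * g⁻¹ * y⁻¹ ∈ Nine h3 → g * (X r a * y) * g⁻¹ * (X r a * y)⁻¹ ∈ Nine h3 := by
    intro r hr a h1 y h2
    have e2 : g * (X r a * y) * g⁻¹ * (X r a * y)⁻¹ =
        g * X r a * g⁻¹ * (X r a)⁻¹ * (X r a * (g * y * g⁻¹ * y⁻¹) * (X r a)⁻¹) := by group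
    rw [e2, (hnd _ h2 r hr a).eq, mul_inv_cancel_right]
    exact mul_mem h1 h2
  rw [e']
  exact hmul 8 le_rfl _ (h8 _) _ (hmul 9 (by decide) _ (h0 _) _ (hmul 10 (by decide) _ (h10 _) _ (h0' _)))

theorem moves_X (r : Fin 12) (hr : 6 ≤ r.val) (p : K) : Moves h3 (X r p) := by
  have hcases : r = 6 ∨ r = 7 ∨ r = 8 ∨ r = 9 ∨ r = 10 ∨ r = 11 := by
    have := r.isLt
    rcases (show r.val = 6 ∨ r.val = 7 ∨ r.val = 8 ∨ r.val = 9 ∨ r.val = 10 ∨ r.val = 11 by omega) with
      h | h | h | h | h | h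
    exacts [Or.inl (Fin.ext h), Or.inr (Or.inl (Fin.ext h)), Or.inr (Or.inr (Or.inl (Fin.ext h))),
      Or.inr (Or.inr (Or.inr (Or.inl (Fin.ext h)))), Or.inr (Or.inr (Or.inr (Or.inr (Or.inl (Fin.ext h))))),
      Or.inr (Or.inr (Or.inr (Or.inr (Or.inr (Fin.ext h)))))]
  have hself : ∀ (s : Fin 12) (a b : K), Commute (X s a) (X s b) := fun s a b =>
    (X_add s a b).trans ((congrArg _ (add_comm a b)).trans (X_add s b a).symm)
  have htriv : ∀ g x : GG K, Commute g x → g * x * g⁻¹ * x⁻¹ ∈ Nine h3 := fun g x h => by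
    rw [h.eq, mul_inv_cancel_right, mul_inv_cancel]; exact one_mem _
  have key : ∀ (s : Fin 12), (decide (s.val ≠ r.val ∧ s.val ≠ ng chevG2 r.val) &&
      (cTerms G2.cert r.val s.val).all fun c => decide (c.2.1 % 3 = 0 ∧ c.1 < 12)) = true ∨ s = r →
      ∀ a, Commute (X r p) (X s a) := by
    rintro s (h | rfl) a
    · exact X_commute_of_three h3 r s h p a
    · exact hself _ p a
  rcases hcases with rfl | rfl | rfl | rfl | rfl | rfl
  · refine moves_of_gen h3 _ (key 9 (Or.inl (by decide +kernel))) (key 11 (Or.inl (by decide +kernel)))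
      (fun a => htriv _ _ (key 8 (Or.inl (by decide +kernel)) a)) fun a => ?_
    have e := X_swap_six_ten p a
    have e' : X 6 p * X 10 a * (X 6 p)⁻¹ * (X 10 a)⁻¹ = X 9 0 * X 11 (p * a) := by
      rw [X_zero, one_mul, show X 6 p * X 10 a = X 10 a * X 6 p * (X 11 (-p * a))⁻¹ by rw [e, mul_inv_cancel_right],
        X_inv, neg_mul, neg_neg]
      rw [mul_assoc (X 10 a * X 6 p), ← (X_commute_of_three h3 6 11 (by decide +kernel) p (p * a)).inv_left.eq,
        ← mul_assoc (X 10 a * X 6 p), mul_inv_cancel_right,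
        (X_commute_of_three h3 10 11 (by decide +kernel) a (p * a)).eq, mul_inv_cancel_right]
    exact e' ▸ nine_mem h3 0 (p * a)
  · refine moves_of_gen h3 _ (key 9 (Or.inl (by decide +kernel))) (key 11 (Or.inl (by decide +kernel)))
      (fun a => ?_) fun a => htriv _ _ (key 10 (Or.inl (by decide +kernel)) a)
    have e := X_swap_seven_eight h3 p a
    have e' : X 7 p * X 8 a * (X 7 p)⁻¹ * (X 8 a)⁻¹ = X 9 (-(2 * p * a)) * X 11 0 := by
      rw [X_zero, mul_one, show X 7 p * X 8 a = X 8 a * X 7 p * (X 9 (2 * p * a))⁻¹ by rw [e, mul_inv_cancel_right],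
        X_inv]
      rw [mul_assoc (X 8 a * X 7 p), ← (X_commute_of_three h3 7 9 (by decide +kernel) p _).inv_left.eq,
        ← mul_assoc (X 8 a * X 7 p), mul_inv_cancel_right,
        (X_commute_of_three h3 8 9 (by decide +kernel) a _).eq, mul_inv_cancel_right]
    exact e' ▸ nine_mem h3 _ 0
  all_goals
    exact moves_of_gen h3 _ (key 9 (by decide +kernel)) (key 11 (by decide +kernel))
      (fun a => htriv _ _ (key 8 (by decide +kernel) a)) (fun a => htriv _ _ (key 10 (by decide +kernel) a))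

theorem moves_mul {g g' : GG K} (hg : Moves h3 g) (hg' : Moves h3 g') : Moves h3 (g * g') := by
  refine ⟨fun n hn => (hg.1 n hn).mul_left (hg'.1 n hn), fun d hd => ?_⟩
  have e : g * g' * d * (g * g')⁻¹ * d⁻¹ = g * (g' * d * g'⁻¹ * d⁻¹) * g⁻¹ * (g * d * g⁻¹ * d⁻¹) := by group
  rw [e, (hg.1 _ (hg'.2 d hd)).eq, mul_inv_cancel_right]
  exact mul_mem (hg'.2 d hd) (hg.2 d hd)

theorem moves_uWord (e : ℕ) (t u v : K) : Moves h3 (uWord e t u v) := by
  unfold uWord
  iterate 5 refine moves_mul h3 ?_ (moves_X h3 _ (by decide) _)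
  exact moves_X h3 _ (by decide) _

theorem nine_le_der : Nine h3 ≤ rootGen chevG2 K derSet := by
  rintro _ ⟨a, b, rfl⟩
  exact mul_mem (der_mem _ _ (by decide)) (der_mem _ _ (by decide))

include h3 in
theorem conj_der_mem {g d : GG K} (hg : Moves h3 g) (hd : d ∈ rootGen chevG2 K derSet) :
    g * d * g⁻¹ ∈ rootGen chevG2 K derSet := by
  rw [show g * d * g⁻¹ = g * d * g⁻¹ * d⁻¹ * d by group]
  exact mul_mem (nine_le_der h3 (hg.2 d hd)) hd

end

namespace Facts

variable [Fintype K] {m : ℕ} (F : Facts K m)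
include F

theorem uWord_zero_eq (u v : K) : uWord (3 ^ m) 0 u v = X 8 (u ^ 3 ^ m) * X 9 (v ^ 3 ^ m) * X 10 u * X 11 v := by
  simp [uWord, X_zero]

theorem eq_zero_of_mem_der {t u v : K} (h : uWord (3 ^ m) t u v ∈ rootGen chevG2 K derSet) : t = 0 := by
  obtain ⟨w, hw, e⟩ := uWord_coords (3 ^ m) t u v
  refine (coords_unique (q := t ^ 3 ^ m) hw h (p' := 0) (q' := 0) ?_).1
  rw [← e, X_zero, X_zero, one_mul, one_mul]

theorem eq_zero_of_mem_nine {t u v : K} (h : uWord (3 ^ m) t u v ∈ Nine F.three_eq_zero) : t = 0 ∧ u = 0 := by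
  have ht := F.eq_zero_of_mem_der (nine_le_der F.three_eq_zero h)
  subst ht
  obtain ⟨a, b, e⟩ := h
  rw [F.uWord_zero_eq] at e
  let T : ℕ → K := fun r => if r = 8 then u ^ 3 ^ m else if r = 9 then v ^ 3 ^ m else if r = 10 then u else v
  let T' : ℕ → K := fun r => if r = 8 then 0 else if r = 9 then a else if r = 10 then 0 else b
  have h2 := rooted_G2.prod_injective [8, 9, 10, 11] (by decide)
    (fun r hr => derSet_pos (by exact hr)) T T' (by
      have e' := congrArg Units.val e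
      simpa [ChevalleyDatum.wordMat, coe_X, T, T', mul_assoc, checked_G2.x_zero (show 8 < chevG2.nroots by decide),
        checked_G2.x_zero (show 10 < chevG2.nroots by decide)] using e')
  exact ⟨rfl, by simpa [T, T'] using h2 10 (by decide)⟩

theorem uWord_mem_der (u v : K) : uWord (3 ^ m) 0 u v ∈ rootGen chevG2 K derSet := by
  rw [F.uWord_zero_eq]
  exact mul_mem (mul_mem (mul_mem (der_mem _ _ (by decide)) (der_mem _ _ (by decide))) (der_mem _ _ (by decide)))
    (der_mem _ _ (by decide))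

theorem uWord_zero_add (u v u' v' : K) :
    uWord (3 ^ m) 0 u v * uWord (3 ^ m) 0 u' v' = uWord (3 ^ m) 0 (u + u') (v + v') := by
  have h3 := F.three_eq_zero
  have c98 := X_commute_of_three h3 9 8 (by decide +kernel)
  have c108 := X_commute_of_three h3 10 8 (by decide +kernel)
  have c118 := X_commute_of_three h3 11 8 (by decide +kernel)
  have c109 := X_commute_of_three h3 10 9 (by decide +kernel)
  have c119 := X_commute_of_three h3 11 9 (by decide +kernel)
  have c1110 := X_commute_of_three h3 11 10 (by decide +kernel)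
  rw [F.uWord_zero_eq, F.uWord_zero_eq, F.uWord_zero_eq, F.theta_add, F.theta_add, ← X_add, ← X_add, ← X_add, ← X_add]
  set A := X 8 (u ^ 3 ^ m)
  set B := X 9 (v ^ 3 ^ m)
  set C := X 10 u
  set D := X 11 v
  set A' := X 8 (u' ^ 3 ^ m)
  set B' := X 9 (v' ^ 3 ^ m)
  set C' := X 10 u'
  set D' := X 11 v'
  calc A * B * C * D * (A' * B' * C' * D')
      = A * B * C * ((D * A') * B' * C' * D') := by group
    _ = A * B * C * (A' * (D * B') * C' * D') := by rw [show D * A' = A' * D from (c118 _ _).eq]; group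
    _ = A * B * C * (A' * B' * (D * C') * D') := by rw [show D * B' = B' * D from (c119 _ _).eq]; group
    _ = A * B * ((C * A') * B' * C' * D * D') := by rw [show D * C' = C' * D from (c1110 _ _).eq]; group
    _ = A * B * (A' * (C * B') * C' * D * D') := by rw [show C * A' = A' * C from (c108 _ _).eq]; group
    _ = A * ((B * A') * B' * C * C' * D * D') := by rw [show C * B' = B' * C from (c109 _ _).eq]; group
    _ = A * A' * (B * B') * (C * C') * (D * D') := by rw [show B * A' = A' * B from (c98 _ _).eq]; group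

theorem uWord_central (t u v w : K) :
    uWord (3 ^ m) t u v * uWord (3 ^ m) 0 0 w = uWord (3 ^ m) 0 0 w * uWord (3 ^ m) t u v := by
  refine ((moves_uWord F.three_eq_zero _ t u v).1 _ ?_).eq
  refine ⟨w ^ 3 ^ m, w, ?_⟩
  rw [F.uWord_zero_eq]
  simp [X_zero]

/-- A commutator with the middle layer lies in the last one. -/
theorem commutator_middle (t u v u' : K) : ∃ w, uWord (3 ^ m) t u v * uWord (3 ^ m) 0 u' 0 *
    (uWord (3 ^ m) t u v)⁻¹ * (uWord (3 ^ m) 0 u' 0)⁻¹ = uWord (3 ^ m) 0 0 w := by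
  have hg := (moves_uWord F.three_eq_zero (3 ^ m) t u v).2 _ (F.uWord_mem_der u' 0)
  have hU := F.uWord_mem_U1 t u v
  have hU' := F.uWord_mem_U1 (0 : K) u' 0
  obtain ⟨a, b, c, e⟩ := (F.unip _).1 (mul_mem (mul_mem (mul_mem hU hU') (inv_mem hU)) (inv_mem hU'))
  rw [e] at hg
  obtain ⟨rfl, rfl⟩ := F.eq_zero_of_mem_nine hg
  exact ⟨c, e⟩

theorem exists_of_mem_der {g : GG K} (hg : g ∈ U1 K (3 ^ m)) (hd : g ∈ rootGen chevG2 K derSet) :
    ∃ u v, g = uWord (3 ^ m) 0 u v := by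
  obtain ⟨t, u, v, rfl⟩ := (F.unip _).1 hg
  exact ⟨u, v, by rw [F.eq_zero_of_mem_der hd]⟩

/-- The first coordinate is additive. -/
theorem top_mul (t t' : K) :
    ∃ u v, uWord (3 ^ m) (t + t') 0 0 = uWord (3 ^ m) t 0 0 * uWord (3 ^ m) t' 0 0 * uWord (3 ^ m) 0 u v := by
  have h3 := F.three_eq_zero
  obtain ⟨w, hw, ew⟩ := uWord_coords (3 ^ m) t (0 : K) 0
  obtain ⟨w', hw', ew'⟩ := uWord_coords (3 ^ m) t' (0 : K) 0
  obtain ⟨w'', hw'', ew''⟩ := uWord_coords (3 ^ m) (t + t') (0 : K) 0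
  obtain ⟨c, hc, ec⟩ := swap_first t' (t ^ 3 ^ m)
  have h := (X 6 t' * X 7 (t' ^ 3 ^ m))⁻¹ * w * (X 6 t' * X 7 (t' ^ 3 ^ m))
  have hd : uWord (3 ^ m) t 0 0 * uWord (3 ^ m) t' 0 0 = X 6 (t + t') * X 7 ((t + t') ^ 3 ^ m) *
      ((X 7 (t' ^ 3 ^ m))⁻¹ * c * X 7 (t' ^ 3 ^ m) *
        ((X 6 t' * X 7 (t' ^ 3 ^ m))⁻¹ * w * (X 6 t' * X 7 (t' ^ 3 ^ m))) * w') := by
    rw [ew, ew', F.theta_add, ← X_add, ← X_add]
    calc X 6 t * X 7 (t ^ 3 ^ m) * w * (X 6 t' * X 7 (t' ^ 3 ^ m) * w')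
        = X 6 t * (X 7 (t ^ 3 ^ m) * X 6 t') * X 7 (t' ^ 3 ^ m) *
            ((X 6 t' * X 7 (t' ^ 3 ^ m))⁻¹ * w * (X 6 t' * X 7 (t' ^ 3 ^ m))) * w' := by group
      _ = _ := by rw [ec]; group
  have hmem : ∀ g : GG K, Moves h3 g → ∀ d ∈ rootGen chevG2 K derSet, g * d * g⁻¹ ∈ rootGen chevG2 K derSet :=
    fun g hg d hd => conj_der_mem h3 hg hd
  have h7 : (X 7 (t' ^ 3 ^ m))⁻¹ * c * X 7 (t' ^ 3 ^ m) ∈ rootGen chevG2 K derSet := by
    have := hmem _ (moves_X h3 7 (by decide) (-(t' ^ 3 ^ m))) c hc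
    rwa [← X_inv, inv_inv] at this
  have h67 : (X 6 t' * X 7 (t' ^ 3 ^ m))⁻¹ * w * (X 6 t' * X 7 (t' ^ 3 ^ m)) ∈ rootGen chevG2 K derSet := by
    have := hmem _ (moves_mul h3 (moves_X h3 7 (by decide) (-(t' ^ 3 ^ m))) (moves_X h3 6 (by decide) (-t'))) w hw
    rwa [← X_inv, ← X_inv, ← mul_inv_rev, inv_inv] at this
  obtain ⟨u, v, e⟩ := F.exists_of_mem_der
    (mul_mem (inv_mem (mul_mem (F.uWord_mem_U1 t 0 0) (F.uWord_mem_U1 t' 0 0))) (F.uWord_mem_U1 (t + t') 0 0))
    (by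
      rw [hd, ew'', mul_inv_rev, mul_assoc _ _ (X 6 (t + t') * X 7 ((t + t') ^ 3 ^ m) * w''), inv_mul_cancel_left]
      exact mul_mem (inv_mem (mul_mem (mul_mem h7 h67) hw')) hw'')
  exact ⟨u, v, by rw [← e, mul_inv_cancel_left]⟩

theorem uWord_zero_inv (u v : K) : (uWord (3 ^ m) 0 u v)⁻¹ = uWord (3 ^ m) 0 (-u) (-v) :=
  inv_eq_of_mul_eq_one_right (by rw [F.uWord_zero_add, add_neg_cancel, add_neg_cancel, F.uWord_zero])

theorem top_decomp (t u v : K) : ∃ u' v', uWord (3 ^ m) t u v = uWord (3 ^ m) t 0 0 * uWord (3 ^ m) 0 u' v' := by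
  obtain ⟨w, hw, ew⟩ := uWord_coords (3 ^ m) t u v
  obtain ⟨w', hw', ew'⟩ := uWord_coords (3 ^ m) t (0 : K) 0
  obtain ⟨u', v', e⟩ := F.exists_of_mem_der
    (mul_mem (inv_mem (F.uWord_mem_U1 t 0 0)) (F.uWord_mem_U1 t u v))
    (by rw [ew, ew', mul_inv_rev, mul_assoc _ _ (X 6 t * X 7 (t ^ 3 ^ m) * w), inv_mul_cancel_left]
        exact mul_mem (inv_mem hw') hw)
  exact ⟨u', v', by rw [← e, mul_inv_cancel_left]⟩

/-! No invariant pairings. -/

theorem pairOK_self (k : ℕ) (hs : ∀ a : K, a ≠ 0 → ∃ μ : Kˣ, ∃ ε : K, (ε = 1 ∨ ε = -1) ∧ (μ : K) ^ k = ε * a)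
    (hm : 1 ≤ m) : PairOK (fun μ : Kˣ => (μ : K) ^ k) (fun μ : Kˣ => (μ : K) ^ k) := by
  classical
  have h3 := F.three_eq_zero
  refine ⟨fun a => a⁻¹, ?_, fun a ha => ?_⟩
  · have hcard : ({0, 1, -1} : Finset K).card < (Finset.univ : Finset K).card := by
      rw [Finset.card_univ, F.card_field]
      refine lt_of_le_of_lt Finset.card_le_three ?_
      calc 3 < 3 ^ 3 := by norm_num
        _ ≤ _ := Nat.pow_le_pow_right (by norm_num) (by omega)
    obtain ⟨a, -, ha⟩ := Finset.exists_mem_notMem_of_card_lt_card hcard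
    simp only [Finset.mem_insert, Finset.mem_singleton, not_or] at ha
    refine ⟨a, ha.1, fun e => ha.2.2 (eq_neg_of_add_eq_zero_left e), fun e => ?_⟩
    have h1 : a + 1 ≠ 0 := fun e => ha.2.2 (eq_neg_of_add_eq_zero_left e)
    have e2 : a = (a + 1) + a * (a + 1) := by
      linear_combination (a * (a + 1)) * e - a * mul_inv_cancel₀ h1 + (a + 1) * mul_inv_cancel₀ ha.1
    refine ha.2.1 (sub_eq_zero.1 (mul_self_eq_zero.1 ?_))
    linear_combination -e2 - a * h3
  · obtain ⟨μ, ε, hε, e⟩ := hs a ha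
    exact ⟨μ, ε, hε, e, show (μ : K) ^ k * a⁻¹ = ε by rw [e, mul_assoc, mul_inv_cancel₀ ha, mul_one]⟩

theorem pairOK_even (k l : ℕ) (hk : Function.Injective fun μ : Kˣ => μ ^ k) (hko : Odd k) (hl : Even l) :
    PairOK (fun μ : Kˣ => (μ : K) ^ k) (fun μ : Kˣ => (μ : K) ^ l) := by
  classical
  have h3 := F.three_eq_zero
  have hsurj := Finite.surjective_of_injective hk
  refine ⟨fun a => if h : a = 0 then 0 else (((hsurj (Units.mk0 a h)).choose : Kˣ) : K)⁻¹ ^ l, ?_, fun a ha => ?_⟩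
  · refine ⟨1, one_ne_zero, fun e => F.two_ne_zero' (by linear_combination e), fun e => ?_⟩
    have h2 : (1 : K) + 1 ≠ 0 := fun e => F.two_ne_zero' (by linear_combination e)
    simp only [dif_neg h2, dif_neg (one_ne_zero (α := K))] at e
    have e1 : (hsurj (Units.mk0 (1 : K) one_ne_zero)).choose = 1 := hk (by
      simp only [one_pow]
      exact (hsurj (Units.mk0 (1 : K) one_ne_zero)).choose_spec.trans (Units.ext rfl))
    have e2 : (hsurj (Units.mk0 (1 + 1 : K) h2)).choose = -1 := hk (by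
      refine (hsurj (Units.mk0 (1 + 1 : K) h2)).choose_spec.trans (Units.ext ?_)
      simp only [hko.neg_one_pow, Units.val_mk0, Units.val_neg, Units.val_one]
      linear_combination h3)
    rw [e1, e2, Units.val_one, Units.val_neg, Units.val_one, inv_neg, inv_one, one_pow, hl.neg_one_pow] at e
    exact one_ne_zero (α := K) (by linear_combination -e)
  · refine ⟨(hsurj (Units.mk0 a ha)).choose, 1, Or.inl rfl, ?_, ?_⟩
    · rw [one_mul]
      exact congrArg Units.val (hsurj (Units.mk0 a ha)).choose_spec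
    · simp only [dif_neg ha]
      rw [← mul_pow, mul_inv_cancel₀ (Units.ne_zero _), one_pow]

theorem pairOK_one_d (hm : 1 ≤ m) : PairOK (fun μ : Kˣ => (μ : K) ^ 1) (fun μ : Kˣ => (μ : K) ^ (3 * 3 ^ m + 2)) := by
  haveI := F.charP
  haveI : Fact (Nat.Prime 3) := ⟨Nat.prime_three⟩
  set d := 3 * 3 ^ m + 2
  have hd : Odd d := ((show Odd 3 by decide).mul (Odd.pow (by decide))).add_even (by decide)
  refine ⟨fun a => a⁻¹ ^ d, ?_, fun a ha => ⟨Units.mk0 a ha, 1, Or.inl rfl, by simp, ?_⟩⟩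
  · refine exists_nonadd 3 (2 * m + 1) F.card_field (by omega) (fun a => a⁻¹ ^ d) ?_ ?_ ?_ ?_ fun i hi => ?_
    · simp [zero_pow hd.pos.ne']
    · simp
    · intro a b; simp only [mul_inv, mul_pow]
    · simp [hd.neg_one_pow, inv_neg]
    obtain ⟨g, hg⟩ := isCyclic_iff_exists_orderOf_eq_natCard.1 (inferInstance : IsCyclic Kˣ)
    refine ⟨g, fun e => ?_⟩
    have h1 : g ^ (3 ^ i + d) = 1 := by
      refine Units.ext ?_
      rw [Units.val_pow_eq_pow_val, pow_add, ← e, inv_pow, inv_mul_cancel₀ (pow_ne_zero _ g.ne_zero), Units.val_one]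
    have h2 := Nat.le_of_dvd (by positivity) (orderOf_dvd_of_pow_eq_one h1)
    rw [hg, Nat.card_units, F.card_nat] at h2
    have h4 : 3 ^ i ≤ 3 ^ (2 * m) := Nat.pow_le_pow_right (by norm_num) (by omega)
    have h6 : 3 ^ (2 * m + 1) = 3 * 3 ^ (2 * m) := by ring
    have h7 : 3 * 3 ^ m ≤ 3 ^ (2 * m) := by
      rw [two_mul, pow_add]
      exact Nat.mul_le_mul_right _ (by calc 3 = 3 ^ 1 := rfl
                                            _ ≤ 3 ^ m := Nat.pow_le_pow_right (by norm_num) hm)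
    have h8 : 3 ≤ 3 ^ m := Nat.le_self_pow (by omega) 3
    omega
  · simp only [Units.val_mk0]
    rw [← mul_pow, mul_inv_cancel₀ ha, one_pow]

theorem pow_last_injective : Function.Injective fun μ : Kˣ => μ ^ (3 * 3 ^ m + 2) := by
  intro μ ν e
  have h := congrArg Units.val (show (μ / ν) ^ (3 * 3 ^ m + 2) = 1 by
    rw [div_pow, div_eq_one]; exact e)
  rw [Units.val_pow_eq_pow_val, Units.val_one] at h
  exact div_eq_one.1 (Units.ext (F.eq_one_of_fix_last h))

theorem middle_surj (a : K) (ha : a ≠ 0) :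
    ∃ μ : Kˣ, ∃ ε : K, (ε = 1 ∨ ε = -1) ∧ (μ : K) ^ (3 * 3 ^ m + 1) = ε * a := by
  set c := 3 * 3 ^ m + 1
  have hcard := F.card_mod_four
  set h := (Fintype.card K - 1) / 2
  have hodd : Odd h := by rw [Nat.odd_iff]; omega
  have hc : Even c := ((show Odd 3 by decide).mul (Odd.pow (by decide))).add_one
  have hsgn : ∀ μ : Kˣ, (μ : K) ^ h = 1 ∨ (μ : K) ^ h = -1 := by
    intro μ
    refine sq_eq_one_iff.1 ?_
    rw [← pow_mul, show h * 2 = Fintype.card K - 1 by omega, FiniteField.pow_card_sub_one_eq_one _ μ.ne_zero]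
  have hinj : Function.Injective fun μ : Kˣ => μ ^ (c + h) := by
    intro μ ν e
    set w := μ / ν
    have hw : (w : K) ^ (c + h) = 1 := by
      rw [← Units.val_pow_eq_pow_val, div_pow, show μ ^ (c + h) = ν ^ (c + h) from e, div_self', Units.val_one]
    rw [pow_add] at hw
    have hc1 : (w : K) ^ c = 1 := by
      rcases hsgn w with e1 | e1
      · rwa [e1, mul_one] at hw
      · rw [e1, mul_neg_one] at hw
        have hsq : IsSquare (-1 : K) := by
          obtain ⟨j, hj⟩ := hc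
          exact ⟨(w : K) ^ j, by rw [← pow_add, ← hj]; linear_combination hw⟩
        exact absurd hsq (fun hs => (FiniteField.isSquare_neg_one_iff.1 hs) hcard)
    have hw2 := F.sq_eq_one_of_fix_middle hc1
    rw [hc1, one_mul] at hw
    rcases sq_eq_one_iff.1 hw2 with e1 | e1
    · exact div_eq_one.1 (Units.ext e1)
    · rw [e1, hodd.neg_one_pow] at hw
      exact absurd hw F.neg_one_ne_one
  obtain ⟨μ, hμ⟩ := Finite.surjective_of_injective hinj (Units.mk0 a ha)
  have hμ' : (μ : K) ^ c * (μ : K) ^ h = a := by rw [← pow_add]; exact congrArg Units.val hμ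
  refine ⟨μ, (μ : K) ^ h, hsgn μ, ?_⟩
  rw [← hμ']
  have : (μ : K) ^ h * (μ : K) ^ h = 1 := by rcases hsgn μ with e | e <;> rw [e] <;> norm_num
  linear_combination -(μ : K) ^ c * this

theorem last_surj (a : K) (ha : a ≠ 0) :
    ∃ μ : Kˣ, ∃ ε : K, (ε = 1 ∨ ε = -1) ∧ (μ : K) ^ (3 * 3 ^ m + 2) = ε * a := by
  obtain ⟨μ, hμ⟩ := Finite.surjective_of_injective F.pow_last_injective (Units.mk0 a ha)
  exact ⟨μ, 1, Or.inl rfl, by rw [one_mul]; exact congrArg Units.val hμ⟩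

end Facts

end Cfsg.Agent.Lib.Ree
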